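import Cfsg.Agent.H33.LRep
import Cfsg.Agent.H33.DodMax

/-!
# Certificates by explicit elements for stabiliser bounds (helper33)
-/

set_option autoImplicit false

namespace Cfsg.Agent.H33

open Cfsg Cfsg.Agent.H9 Cfsg.Agent.H93 MulAction
open scoped Pointwise

local notation "SC" => supports (golayCode : Set (GolayPt → ZMod 2))

theorem stabOf_mono {fixed fixed' : List ℕ} (h : ∀ m ∈ fixed', m ∈ fixed) :
    stabOf fixed ≤ stabOf fixed' :=
  fun _ hg => ⟨hg.1, fun m hm => hg.2 m (h m hm)⟩

/-- the subgroup fixing a point and the sets of `fixed` has index at least `k` in `stabOf fixed`,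
given `k` elements of `stabOf fixed` with distinct images of the point -/
theorem stabOf_point_bound (fixed : List ℕ) (b : ℕ) (hb : b < 24) (G GI k : ℕ)
    (hG : chkGens G GI k fixed = true)
    (hd : allB (fun j => allB (fun j' => Nat.beq j j' ||
      !(Nat.beq (lk (fldG G j) b) (lk (fldG G j') b))) k) k = true) :
    Nat.card (stabOf (Nat.shiftLeft 1 b :: fixed)) * k ≤ Nat.card (stabOf fixed) := by
  have hex : ∀ i, ∃ g : Equiv.Perm GolayPt, i < k → g ∈ stabOf fixed ∧ Rep (fldG G i) g := by
    intro i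
    by_cases hi : i < k
    · obtain ⟨g, hg, hr⟩ := gens_sound hG i hi
      exact ⟨g, fun _ => ⟨hg, hr⟩⟩
    · exact ⟨1, fun h => absurd h hi⟩
  choose τ hτ using hex
  have h1 := coset_bound (stabOf fixed)
    (stabOf (Nat.shiftLeft 1 b :: fixed) : Set (Equiv.Perm GolayPt))
    (stabOf_mono (fun m hm => List.mem_cons_of_mem _ hm)) k τ (fun j hj => (hτ j hj).1) ?_
  · rw [← Nat.card_coe_set_eq] at h1
    exact h1
  · intro j hj j' hj' β hβ β' hβ' he
    have hfix : ∀ γ ∈ (stabOf (Nat.shiftLeft 1 b :: fixed) : Set (Equiv.Perm GolayPt)),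
        γ (gPt b) = gPt b := fun γ hγ =>
      (smul_fs_single hb).mp (hγ.2 _ (List.mem_cons_self ..))
    have e1 : τ j (gPt b) = τ j' (gPt b) := by
      have := congrArg (fun f : Equiv.Perm GolayPt => f (gPt b)) he
      simp only [Equiv.Perm.mul_apply] at this
      rwa [hfix β hβ, hfix β' hβ'] at this
    have e2 : lk (fldG G j) b = lk (fldG G j') b := by
      have r1 := (hτ j hj).2 (gPt b)
      have r2 := (hτ j' hj').2 (gPt b)
      rw [gIdx_gPt hb] at r1 r2
      rw [← r1, ← r2, e1]
    have h2 := (allB_iff _ _).mp ((allB_iff _ _).mp hd j hj) j' hj'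
    rw [Bool.or_eq_true] at h2
    rcases h2 with h2 | h2
    · exact Nat.eq_of_beq_eq_true h2
    · rw [e2, Nat.beq_refl] at h2
      exact absurd h2 (by decide)

/-- a bound for the permutations in the monomial stabiliser of a packed vector by explicit
elements with pairwise unrelated images -/
theorem monoB_cert_bound (P : ℕ) (fixed : List ℕ)
    (hB : monoB (vec P) ⊆ (stabOf fixed : Set (Equiv.Perm GolayPt))) (G GI k : ℕ) (os : List ℕ)
    (hG : chkGens G GI k fixed = true)
    (hne : allB (fun j => allB (fun j' => Nat.beq j j' ||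
      neqvB os (pmV (fldG G j) P) (pmV (fldG G j') P)) k) k = true) :
    (monoB (vec P)).ncard * k ≤ Nat.card (stabOf fixed) := by
  have hex : ∀ i, ∃ g : Equiv.Perm GolayPt, i < k → g ∈ stabOf fixed ∧ Rep (fldG G i) g := by
    intro i
    by_cases hi : i < k
    · obtain ⟨g, hg, hr⟩ := gens_sound hG i hi
      exact ⟨g, fun _ => ⟨hg, hr⟩⟩
    · exact ⟨1, fun h => absurd h hi⟩
  choose ρ hρ using hex
  apply monoB_coset_bound (vec P) (stabOf fixed) hB k ρ (fun j hj => ⟨(hρ j hj).1, (hρ j hj).1.1⟩)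
  intro j hj j' hj' hjj
  rw [← vec_pmV (hρ j hj).2, ← vec_pmV (hρ j' hj').2]
  have h2 := (allB_iff _ _).mp ((allB_iff _ _).mp hne j hj) j' hj'
  rw [Bool.or_eq_true] at h2
  rcases h2 with h2 | h2
  · exact absurd (Nat.eq_of_beq_eq_true h2) hjj
  · exact neqv_sound h2

theorem stabOf_single_eq (m : ℕ) :
    stabOf [m] = M24 ⊓ stabilizer (Equiv.Perm GolayPt) (fs m) := by
  ext g
  rw [mem_stabOf, Subgroup.mem_inf, mem_stabilizer_iff]
  simp

/-- the order of the stabiliser of the standard dodecad -/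
theorem card_stabOf_dod : Nat.card (stabOf [0x6fdd]) = 95040 := by
  rw [stabOf_single_eq]
  have h := card_eq_orbit_mul_inf (G := Equiv.Perm GolayPt) M24 (fs 0x6fdd)
  have horb : (orbit ↥M24 (fs 0x6fdd)).ncard = 2576 := by
    have hm : fs 0x6fdd ∈ dodecads := dod0_mem
    rw [orbit_dodecad hm]
    exact Cfsg.Agent.S0361.result
  rw [card_M24, horb] at h
  omega

end Cfsg.Agent.H33
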