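import Cfsg.Agent.H33.LCover
import Cfsg.Agent.H33.LCert

/-!
# Transitivity of the automorphism group of the rank-24 lattice on the vectors of square length 32
(helper33; generated data, checked by the kernel)
-/

set_option autoImplicit false
set_option maxRecDepth 100000

namespace Cfsg.Agent.H33

open Cfsg Cfsg.Agent.H9 Cfsg.Agent.H93 MulAction
open scoped Pointwise

local notation "SC" => supports (golayCode : Set (GolayPt → ZMod 2))

/-- packed representative `A32` : 4 4 0 0 0 0 0 0 0 0 0 0 0 0 0 0 0 0 0 0 0 0 0 0 -/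
def pA32 : ℕ := 0x808080808080808080808080808080808080808080808484

/-- packed representative `B32` : 2 2 2 2 2 0 0 2 0 0 2 0 2 0 0 0 0 0 0 0 0 0 0 0 -/
def pB32 : ℕ := 0x808080808080808080808082808280808280808282828282

/-- packed representative `C32` : -3 1 1 1 1 1 1 1 1 1 1 1 1 1 1 1 1 1 1 1 1 1 1 1 -/
def pC32 : ℕ := 0x81818181818181818181818181818181818181818181817d

theorem A32_mem : vec pA32 ∈ leechLattice := vec_mem_of_chkL (by decide +kernel)

theorem B32_rel : CoRel (vec pA32) (vec pB32) :=
  coRel_path (Q1 := 0x709a07a86b49e36ac2e64325309285) (c1 := 0x54ee0d) (Q2 := 0xbace589acc7cd0d75609a11411c840) (c2 := 0x428d3) A32_mem (by decide +kernel)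

theorem C32_rel : CoRel (vec pA32) (vec pC32) :=
  B32_rel.trans (coRel_path (Q1 := 0xb918e398126a0b31a93678aaba0630) (c1 := 0x90d47b) (Q2 := 0xb8265aac2e43ed04c68d6284790c86) (c2 := 0x91db68)
    B32_rel.mem_right (by decide +kernel))

theorem A32_B : (monoB (vec pA32)).ncard ≤ 887040 :=
  monoB_ncard_le pA32 [4] [3] 887040 (by decide +kernel)
    ((chain_bound [3] [(0x3, 0), (0x2, 1)] [1, 0] 443520 (by decide +kernel) (by decide +kernel) (le_of_eq cardSt2)).trans
      (by decide +kernel))

theorem A32_C : (monoC (vec pA32)).ncard ≤ 1024 :=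
  (monoC_ncard_le pA32).trans (by decide +kernel)

theorem B32_B : (monoB (vec pB32)).ncard ≤ 322560 :=
  monoB_ncard_le pB32 [2] [0x149f] 322560 (by decide +kernel)
    ((chain_bound [0x149f] [(0x149f, 0), (0x149e, 1), (0x149c, 2), (0x1498, 3), (0x1490, 4)] [4, 3, 2, 1, 0] 48 (by decide +kernel) (by decide +kernel) (le_of_eq cardSt5)).trans
      (by decide +kernel))

theorem B32_C : (monoC (vec pB32)).ncard ≤ 32 :=
  (monoC_ncard_le pB32).trans (by decide +kernel)

theorem C32_B : (monoB (vec pC32)).ncard ≤ 10200960 :=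
  monoB_ncard_le pC32 [3] [1] 10200960 (by decide +kernel)
    ((chain_bound [1] [] [0] 10200960 (by decide +kernel) (by decide +kernel) (le_of_eq cardSt1)).trans
      (by decide +kernel))

theorem C32_C : (monoC (vec pC32)).ncard ≤ 1 :=
  (monoC_ncard_le pC32).trans (by decide +kernel)

/-- the representatives -/
def repP32 (i : ℕ) : ℕ := [pA32, pB32, pC32].getD i 0

/-- bounds for the permutation parts of the stabilisers -/
def repB32 (i : ℕ) : ℕ := [887040, 322560, 10200960].getD i 0

/-- numbers of code words off the supports -/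
def repC32 (i : ℕ) : ℕ := [1024, 32, 1].getD i 0

/-- lower bounds for the orbits under the monomial group -/
def repN32 (i : ℕ) : ℕ := [1104, 97152, 98304].getD i 0

theorem co0_rel32 : ∀ w : leechLattice, sqNorm (w : GolayPt → ℤ) = 32 →
    CoRel (vec pA32) w := by
  have h := trans_of_data 32 (by norm_num) 3 repP32 (by norm_num) ?_ ?_ ?_ repB32 repC32 repN32 ?_ ?_ ?_ ?_
    [] ?_ ?_
  · intro w hw
    exact h w (by exact_mod_cast hw)
  · intro i hi
    interval_cases i
    · exact A32_mem
    · exact B32_rel.mem_right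
    · exact C32_rel.mem_right
  · decide +kernel
  · intro i hi
    interval_cases i
    · exact CoRel.refl A32_mem
    · exact B32_rel
    · exact C32_rel
  · intro i hi
    interval_cases i
    · exact A32_B
    · exact B32_B
    · exact C32_B
  · intro i hi
    interval_cases i
    · exact A32_C
    · exact B32_C
    · exact C32_C
  · decide +kernel
  · rw [card_V32]
    decide +kernel
  · decide +kernel
  · intro p hp
    simp at hp

/-- the automorphism group is transitive on the lattice vectors of square length 32 -/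
theorem co0_trans32 (v w : leechLattice) (hv : sqNorm (v : GolayPt → ℤ) = 32)
    (hw : sqNorm (w : GolayPt → ℤ) = 32) :
    ∃ g ∈ Co0, g v = w := by
  obtain ⟨g, hg, hx, e⟩ := (co0_rel32 v hv).symm.trans (co0_rel32 w hw)
  exact ⟨g, hg, Subtype.ext e⟩

end Cfsg.Agent.H33
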