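import Cfsg.Agent.H33.LCover
import Cfsg.Agent.H33.LCert

/-!
# Transitivity of the automorphism group of the rank-24 lattice on the vectors of square length 48
(helper33; generated data, checked by the kernel)
-/

set_option autoImplicit false
set_option maxRecDepth 100000

namespace Cfsg.Agent.H33

open Cfsg Cfsg.Agent.H9 Cfsg.Agent.H93 MulAction
open scoped Pointwise

local notation "SC" => supports (golayCode : Set (GolayPt → ZMod 2))

/-- packed representative `F48` : 5 1 1 1 1 1 1 1 1 1 1 1 1 1 1 1 1 1 1 1 1 1 1 1 -/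
def pF48 : ℕ := 0x818181818181818181818181818181818181818181818185

/-- packed representative `T48` : -3 -3 -3 1 1 1 1 1 1 1 1 1 1 1 1 1 1 1 1 1 1 1 1 1 -/
def pT48 : ℕ := 0x8181818181818181818181818181818181818181817d7d7d

/-- packed representative `O48` : -2 2 2 2 2 4 0 2 0 0 2 0 2 0 0 0 0 0 0 0 0 0 0 0 -/
def pO48 : ℕ := 0x80808080808080808080808280828080828084828282827e

/-- packed representative `D48` : 2 0 2 2 2 0 2 2 2 2 2 2 0 2 2 0 0 0 0 0 0 0 0 0 -/
def pD48 : ℕ := 0x808080808080808080828280828282828282808282828082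

theorem F48_mem : vec pF48 ∈ leechLattice := vec_mem_of_chkL (by decide +kernel)

theorem T48_rel : CoRel (vec pF48) (vec pT48) :=
  coRel_path (Q1 := 0x656169c641302e76a1634bdc455045) (c1 := 0x68a205) (Q2 := 0x31a384d3414975205d631d0f51637) (c2 := 0x761d58) F48_mem (by decide +kernel)

theorem O48_rel : CoRel (vec pF48) (vec pO48) :=
  coRel_path (Q1 := 0x88674322ce2ae42510e9602e36beb0) (c1 := 0x17451) (Q2 := 0xb9452a11e86046052e33854ceb3527) (c2 := 0x12a9f5) F48_mem (by decide +kernel)

theorem D48_rel : CoRel (vec pF48) (vec pD48) :=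
  T48_rel.trans (coRel_path (Q1 := 0x12cea838c3acc88a34090be562b237) (c1 := 0x75c748) (Q2 := 0x50e54ab0a4e2bbb0c419c456a5f6) (c2 := 0x51a61)
    T48_rel.mem_right (by decide +kernel))

theorem F48_B : (monoB (vec pF48)).ncard ≤ 10200960 :=
  monoB_ncard_le pF48 [5] [1] 10200960 (by decide +kernel)
    ((chain_bound [1] [] [0] 10200960 (by decide +kernel) (by decide +kernel) (le_of_eq cardSt1)).trans
      (by decide +kernel))

theorem F48_C : (monoC (vec pF48)).ncard ≤ 1 :=
  (monoC_ncard_le pF48).trans (by decide +kernel)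

theorem T48_B : (monoB (vec pT48)).ncard ≤ 120960 :=
  monoB_ncard_le pT48 [3] [7] 120960 (by decide +kernel)
    ((chain_bound [7] [(0x7, 0), (0x6, 1), (0x4, 2)] [2, 1, 0] 20160 (by decide +kernel) (by decide +kernel) (le_of_eq cardSt3)).trans
      (by decide +kernel))

theorem T48_C : (monoC (vec pT48)).ncard ≤ 1 :=
  (monoC_ncard_le pT48).trans (by decide +kernel)

theorem O48_B : (monoB (vec pO48)).ncard ≤ 20160 :=
  monoB_ncard_le pO48 [2, 4] [0x149f, 32] 20160 (by decide +kernel)
    ((chain_bound [0x149f, 32] [(0x149f, 0), (0x149e, 1), (0x149c, 2), (0x1498, 3), (0x1490, 4)] [5, 4, 3, 2, 1, 0] 3 (by decide +kernel) (by decide +kernel) (cardSt6')).trans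
      (by decide +kernel))

theorem O48_C : (monoC (vec pO48)).ncard ≤ 16 :=
  (monoC_ncard_le pO48).trans (by decide +kernel)

theorem D48_B : (monoB (vec pD48)).ncard ≤ 95040 :=
  monoB_ncard_le pD48 [2] [0x6fdd] 95040 (by decide +kernel) (le_of_eq card_stabOf_dod)

theorem D48_C : (monoC (vec pD48)).ncard ≤ 2 :=
  (monoC_ncard_le pD48).trans (by decide +kernel)

/-- the representatives -/
def repP48 (i : ℕ) : ℕ := [pF48, pT48, pO48, pD48].getD i 0

/-- bounds for the permutation parts of the stabilisers -/
def repB48 (i : ℕ) : ℕ := [10200960, 120960, 20160, 95040].getD i 0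

/-- numbers of code words off the supports -/
def repC48 (i : ℕ) : ℕ := [1, 1, 16, 2].getD i 0

/-- lower bounds for the orbits under the monomial group -/
def repN48 (i : ℕ) : ℕ := [98304, 8290304, 3108864, 5275648].getD i 0

theorem co0_rel48 : ∀ w : leechLattice, sqNorm (w : GolayPt → ℤ) = 48 →
    CoRel (vec pF48) w := by
  have h := trans_of_data 48 (by norm_num) 4 repP48 (by norm_num) ?_ ?_ ?_ repB48 repC48 repN48 ?_ ?_ ?_ ?_
    [] ?_ ?_
  · intro w hw
    exact h w (by exact_mod_cast hw)
  · intro i hi
    interval_cases i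
    · exact F48_mem
    · exact T48_rel.mem_right
    · exact O48_rel.mem_right
    · exact D48_rel.mem_right
  · decide +kernel
  · intro i hi
    interval_cases i
    · exact CoRel.refl F48_mem
    · exact T48_rel
    · exact O48_rel
    · exact D48_rel
  · intro i hi
    interval_cases i
    · exact F48_B
    · exact T48_B
    · exact O48_B
    · exact D48_B
  · intro i hi
    interval_cases i
    · exact F48_C
    · exact T48_C
    · exact O48_C
    · exact D48_C
  · decide +kernel
  · rw [card_V48]
    decide +kernel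
  · decide +kernel
  · intro p hp
    simp at hp

/-- the automorphism group is transitive on the lattice vectors of square length 48 -/
theorem co0_trans48 (v w : leechLattice) (hv : sqNorm (v : GolayPt → ℤ) = 48)
    (hw : sqNorm (w : GolayPt → ℤ) = 48) :
    ∃ g ∈ Co0, g v = w := by
  obtain ⟨g, hg, hx, e⟩ := (co0_rel48 v hv).symm.trans (co0_rel48 w hw)
  exact ⟨g, hg, Subtype.ext e⟩

end Cfsg.Agent.H33
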