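import Cfsg.Agent.H33.LCover
import Cfsg.Agent.H33.LCert

/-!
# Transitivity of the automorphism group of the rank-24 lattice on the vectors of square length 64
(helper33; generated data, checked by the kernel)
-/

set_option autoImplicit false
set_option maxRecDepth 100000

namespace Cfsg.Agent.H33

open Cfsg Cfsg.Agent.H9 Cfsg.Agent.H93 MulAction
open scoped Pointwise

local notation "SC" => supports (golayCode : Set (GolayPt → ZMod 2))

/-- packed representative `E64` : 8 0 0 0 0 0 0 0 0 0 0 0 0 0 0 0 0 0 0 0 0 0 0 0 -/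
def pE64 : ℕ := 0x808080808080808080808080808080808080808080808088

/-- packed representative `Q64` : 4 4 4 4 0 0 0 0 0 0 0 0 0 0 0 0 0 0 0 0 0 0 0 0 -/
def pQ64 : ℕ := 0x808080808080808080808080808080808080808084848484

/-- packed representative `S64a` : 0 0 0 0 0 2 2 0 2 2 0 2 0 2 2 2 2 2 2 2 2 2 2 2 -/
def pS64a : ℕ := 0x828282828282828282828280828082828082828080808080

/-- packed representative `S64b` : 0 0 0 0 0 -2 -2 0 2 2 0 2 0 2 2 2 2 2 2 2 2 2 2 2 -/
def pS64b : ℕ := 0x82828282828282828282828082808282807e7e8080808080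

/-- packed representative `H64` : -6 2 2 2 2 0 0 2 0 0 2 0 2 0 0 0 0 0 0 0 0 0 0 0 -/
def pH64 : ℕ := 0x80808080808080808080808280828080828080828282827a

/-- packed representative `P64` : 2 2 2 2 2 4 4 2 0 0 2 0 2 0 0 0 0 0 0 0 0 0 0 0 -/
def pP64 : ℕ := 0x808080808080808080808082808280808284848282828282

/-- packed representative `G64` : -2 4 2 2 2 0 2 2 2 2 2 2 0 2 2 0 0 0 0 0 0 0 0 0 -/
def pG64 : ℕ := 0x80808080808080808082828082828282828280828282847e

/-- packed representative `K64` : 5 -3 -3 1 1 1 1 1 1 1 1 1 1 1 1 1 1 1 1 1 1 1 1 1 -/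
def pK64 : ℕ := 0x8181818181818181818181818181818181818181817d7d85

/-- packed representative `L64` : -3 -3 -3 -3 -3 1 1 1 1 1 1 1 1 1 1 1 1 1 1 1 1 1 1 1 -/
def pL64 : ℕ := 0x818181818181818181818181818181818181817d7d7d7d7d

theorem E64_mem : vec pE64 ∈ leechLattice := vec_mem_of_chkL (by decide +kernel)

theorem Q64_rel : CoRel (vec pE64) (vec pQ64) :=
  coRel_path (Q1 := 0x1e8a75c55605e642e30b35232c893) (c1 := 0x3c93b2) (Q2 := 0x4926858734096a6b2af250278b8b7) (c2 := 0x293e) E64_mem (by decide +kernel)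

theorem S64a_rel : CoRel (vec pE64) (vec pS64a) :=
  Q64_rel.trans (coRel_path (Q1 := 0x32a65a8d61b924e4b4e87b2c2a4011) (c1 := 0x3d2cc6) (Q2 := 0x34811d24a441eb1267531d858d9d7) (c2 := 0x8b4ce6)
    Q64_rel.mem_right (by decide +kernel))

theorem S64b_rel : CoRel (vec pE64) (vec pS64b) :=
  Q64_rel.trans (coRel_path (Q1 := 0x94e614133a2e2ebd9a8502af93083) (c1 := 0x819a3f) (Q2 := 0xba26930a0f72e342b6c150c123b2a4) (c2 := 0xd7432a)
    Q64_rel.mem_right (by decide +kernel))

theorem H64_rel : CoRel (vec pE64) (vec pH64) :=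
  Q64_rel.trans (coRel_path (Q1 := 0xb4c7540a044c40f61977514ee0b692) (c1 := 0x343490) (Q2 := 0xba090519934bca15d4f11bac0909b4) (c2 := 0x78981)
    Q64_rel.mem_right (by decide +kernel))

theorem P64_rel : CoRel (vec pE64) (vec pP64) :=
  Q64_rel.trans (coRel_path (Q1 := 0x909b74d82c20dc58827551d6fa20d0) (c1 := 0xb77bac) (Q2 := 0x9c414685c293ea642e0355cacb10e9) (c2 := 0xbb617)
    Q64_rel.mem_right (by decide +kernel))

theorem G64_rel : CoRel (vec pE64) (vec pG64) :=
  S64b_rel.trans (coRel_path (Q1 := 0x358ad2426abb1143a4558bc6b0b812) (c1 := 0x5db0b8) (Q2 := 0x64c822816e3d1b01da35099377c948) (c2 := 0x838419)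
    S64b_rel.mem_right (by decide +kernel))

theorem K64_rel : CoRel (vec pE64) (vec pK64) :=
  H64_rel.trans (coRel_path (Q1 := 0xa542b2151665dc9940c09894389daf) (c1 := 0x6226a0) (Q2 := 0xbb5d58268450472101672c4d663e68) (c2 := 0x148b9f)
    H64_rel.mem_right (by decide +kernel))

theorem L64_rel : CoRel (vec pE64) (vec pL64) :=
  S64a_rel.trans (coRel_path (Q1 := 0x70d66bb1f602a728a28d3a4b580444) (c1 := 0x3e3df3) (Q2 := 0xb090d9a98ba3cc0286241bab749e50) (c2 := 0x292a9f)
    S64a_rel.mem_right (by decide +kernel))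

theorem E64_B : (monoB (vec pE64)).ncard ≤ 10200960 :=
  monoB_ncard_le pE64 [8] [1] 10200960 (by decide +kernel)
    ((chain_bound [1] [] [0] 10200960 (by decide +kernel) (by decide +kernel) (le_of_eq cardSt1)).trans
      (by decide +kernel))

theorem E64_C : (monoC (vec pE64)).ncard ≤ 2048 :=
  (monoC_ncard_le pE64).trans (by decide +kernel)

theorem Q64_B : (monoB (vec pQ64)).ncard ≤ 23040 :=
  monoB_ncard_le pQ64 [4] [15] 23040 (by decide +kernel)
    ((chain_bound [15] [(0xf, 0), (0xe, 1), (0xc, 2), (0x8, 3)] [3, 2, 1, 0] 960 (by decide +kernel) (by decide +kernel) (le_of_eq cardSt4)).trans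
      (by decide +kernel))

theorem Q64_C : (monoC (vec pQ64)).ncard ≤ 256 :=
  (monoC_ncard_le pQ64).trans (by decide +kernel)

theorem S64a_B : (monoB (vec pS64a)).ncard ≤ 322560 :=
  monoB_ncard_le pS64a [0] [0x149f] 322560 (by decide +kernel)
    ((chain_bound [0x149f] [(0x149f, 0), (0x149e, 1), (0x149c, 2), (0x1498, 3), (0x1490, 4)] [4, 3, 2, 1, 0] 48 (by decide +kernel) (by decide +kernel) (le_of_eq cardSt5)).trans
      (by decide +kernel))

theorem S64a_C : (monoC (vec pS64a)).ncard ≤ 2 :=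
  (monoC_ncard_le pS64a).trans (by decide +kernel)

def s64G : ℕ := 0x35125b35f79560489d130adcc508605d66dbc22929a4778916051cc50c81944d59ad378368c7850553ac01888793aad5c276ba1e7300b10a68a11183a563059aed73e4028ad30a12a19d8443e666c8b1851c2b9ecb2552a1b0013391283575a5dea88933058a41858789a6ea3d09696eca824b25a0208d47bd4a86c66ba3a0132ac91c9e71008c7a1ae9c0ab954ccb82d12512a188e1b5e6dabe2891a82585303b8a41b1407b5313167775567a01161c2441054cb95e984da64396492ab614683030e1939315c0c545e8a982cd655e711023bdab49ca307b9ac5a928398a418820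

def s64GI : ℕ := 0x84dd643d6d8964430ea955e8c088e09a2c6ab63259684b8e09639e1128078168d9decf599cc91e2905501189447c2a58dd126da81990ce62d2200cea8a6d7436b473e01990a6149601a8ec5a4ceaca0fb3662410b7552271b00171a0f451736da418b13505ca41a84769973aa6e5951ec40611059c71106aba6cf89a4d2ba608291422ea138d825a5c69bd12bd2ac810b60b6271880ab5e6dabe2891a82585303b8a41b140821cb89686bbec0686a964e4438c4aba12592cd3aba226aa8f0c2cc21c03724cd5de922d9079b2af2460200c2abdab49ca307b9ac5a928398a418820

theorem S64b_B : (monoB (vec pS64b)).ncard ≤ 21504 := by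
  have hsub := monoB_subset_stabOf pS64b [0]
  have hf : [0].map (lvlV pS64b) = [0x149f] := by decide +kernel
  rw [hf] at hsub
  have e1 := monoB_cert_bound pS64b [0x149f] hsub s64G s64GI 15 [0xf6840, 0x132b20, 0x21e260, 0x46e300] (by decide +kernel)
    (by decide +kernel)
  have e2 := chain_bound [0x149f] [(0x149f, 0), (0x149e, 1), (0x149c, 2), (0x1498, 3), (0x1490, 4)] [4, 3, 2, 1, 0] 48
    (by decide +kernel) (by decide +kernel) (le_of_eq cardSt5)
  have f2 : chainMul [(0x149f, 0), (0x149e, 1), (0x149c, 2), (0x1498, 3), (0x1490, 4)] = 6720 := by decide +kernel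
  rw [f2] at e2
  omega

theorem S64b_C : (monoC (vec pS64b)).ncard ≤ 2 :=
  (monoC_ncard_le pS64b).trans (by decide +kernel)

theorem H64_B : (monoB (vec pH64)).ncard ≤ 40320 :=
  monoB_ncard_le pH64 [6, 2] [1, 0x149e] 40320 (by decide +kernel)
    ((chain_bound [1, 0x149e] [(0x149e, 1), (0x149c, 2), (0x1498, 3), (0x1490, 4)] [4, 3, 2, 1, 0] 48 (by decide +kernel) (by decide +kernel) (le_of_eq cardSt5)).trans
      (by decide +kernel))

theorem H64_C : (monoC (vec pH64)).ncard ≤ 32 :=
  (monoC_ncard_le pH64).trans (by decide +kernel)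

def p64G : ℕ := 0xabd73835068d9caa093205ca1190ec6c609bd4d25bdc298688658a020d47bca135a2264b9e7a31b6554a400861bbac94424f33667a862b550a21b0046a6ae4464b35e87b2a0f0cca21900c5d1a8355d74da627aa113c8a360480a3d095ba70a9a446b2d7044a70894333ad1451f2bb66aa912b3c0a3101815da29ab693bc102901c63bca122983426307d8d76caa398a8b038a72054c5d1d69de357a4ca40612634a200ce4bb90f956cd8268c302333aca20a864a4a2d83e6bb9ac2405d5524a3230e05c6e694e0fb52aa68d2e620a438801bdab49ca307b9ac5a928398a418820

def p64GI : ℕ := 0x33aeba21f3b3640ab1310c0a21a88799a495c2d5736e778688044a313144ba0cba5a356b92a99df2640a408803bd5666c532859c241e9363ca01914172ead34649452e082ad363ca2190e183a56699095c6a3ba9f43cca123040425f78b4d0b496a98695238ac008677d5726c2868d9c1431333dcaa20c027da7182eae32641b8a8d3a0a30308a849a95bab4999e0406d7244a362847952169a2297d4c7bb1cb0b4a011143bc64d44d2fa5a0c309d53aca00906a7b5178dab39268281ccb0b8a323140abdae94ed182167bb1261d0a450801bdab49ca307b9ac5a928398a418820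

theorem P64_B : (monoB (vec pP64)).ncard ≤ 2688 := by
  apply monoB_ncard_le pP64 [2, 4] [0x149f, 0x60] 2688 (by decide +kernel)
  have e1 := chain_sound [(0x60, 5)] [0x149f, 0x60] (by decide +kernel)
  have f1 : chainMul [(0x60, 5)] = 2 := by decide +kernel
  rw [f1] at e1
  have e2 : Nat.card (stabOf (chainFix [0x149f, 0x60] [(0x60, 5)]))
      ≤ Nat.card (stabOf (Nat.shiftLeft 1 6 :: [32, 0x149f])) :=
    Subgroup.card_le_of_le (stabOf_mono (by decide +kernel))
  have e3 := stabOf_point_bound [32, 0x149f] 6 (by norm_num) p64G p64GI 15 (by decide +kernel)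
    (by decide +kernel)
  have e4 := chain_bound [32, 0x149f] [(0x149f, 0), (0x149e, 1), (0x149c, 2), (0x1498, 3), (0x1490, 4)] [5, 4, 3, 2, 1, 0] 3
    (by decide +kernel) (by decide +kernel) cardSt6'
  have f2 : chainMul [(0x149f, 0), (0x149e, 1), (0x149c, 2), (0x1498, 3), (0x1490, 4)] = 6720 := by decide +kernel
  rw [f2] at e4
  omega

theorem P64_C : (monoC (vec pP64)).ncard ≤ 8 :=
  (monoC_ncard_le pP64).trans (by decide +kernel)

def g64G : ℕ := 0xad2717c0b69344c38cc45202e4aee0784b79d190a8172409464ba2369ec47c2cc90693ba8f1024c41a0ae68aab659f185e532910100c4e59aa953687a959095df1b29c1111a042e8349e669c6e5605f4aac501980443ac93b64abc28f932752a0d65a5a301c2e512229963665437a20f24ada6729e400a039d0b50c197b11d1180475224b325edbd2c59be5581c612384a302284b58b7c676a4ab0638c10352a41ee222ca3bdab49ca307b9ac5a928398a418820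

def g64GI : ℕ := 0xc2f6abe92991cc11c665a628534a0a05f29b0b0b98716a4eb122a022ace7d43184d96b9074039466a4a838a4b958a184693aa05738c8d019ee5258b93ee50ce148b53533867102ca22d88a95f0b86cc89853700871aa885b649bb2158cc36a113258d4e335e2400a78524fbb2a129d335196e6a2c400a2383e96b95920b41121c4640eae5a66abd6169c4af928410206471e8b6a5862d233acad0bb94f12127334230118bbdab49ca307b9ac5a928398a418820

theorem G64_B : (monoB (vec pG64)).ncard ≤ 7920 := by
  apply monoB_ncard_le pG64 [2, 4] [0x6fdd, 2] 7920 (by decide +kernel)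
  have e1 := stabOf_point_bound [0x6fdd] 1 (by norm_num) g64G g64GI 12 (by decide +kernel)
    (by decide +kernel)
  have e2 : Nat.card (stabOf [0x6fdd, 2]) ≤ Nat.card (stabOf (Nat.shiftLeft 1 1 :: [0x6fdd])) :=
    Subgroup.card_le_of_le (stabOf_mono (by decide))
  have e3 := card_stabOf_dod
  omega

theorem G64_C : (monoC (vec pG64)).ncard ≤ 1 :=
  (monoC_ncard_le pG64).trans (by decide +kernel)

theorem K64_B : (monoB (vec pK64)).ncard ≤ 40320 :=
  monoB_ncard_le pK64 [5, 3] [1, 6] 40320 (by decide +kernel)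
    ((chain_bound [1, 6] [(0x6, 1), (0x4, 2)] [2, 1, 0] 20160 (by decide +kernel) (by decide +kernel) (le_of_eq cardSt3)).trans
      (by decide +kernel))

theorem K64_C : (monoC (vec pK64)).ncard ≤ 1 :=
  (monoC_ncard_le pK64).trans (by decide +kernel)

theorem L64_B : (monoB (vec pL64)).ncard ≤ 5760 :=
  monoB_ncard_le pL64 [3] [31] 5760 (by decide +kernel)
    ((chain_bound [31] [(0x1f, 0), (0x1e, 1), (0x1c, 2), (0x18, 3), (0x10, 4)] [4, 3, 2, 1, 0] 48 (by decide +kernel) (by decide +kernel) (le_of_eq cardSt5)).trans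
      (by decide +kernel))

theorem L64_C : (monoC (vec pL64)).ncard ≤ 1 :=
  (monoC_ncard_le pL64).trans (by decide +kernel)

/-- the representatives -/
def repP64 (i : ℕ) : ℕ := [pE64, pQ64, pS64a, pS64b, pH64, pP64, pG64, pK64, pL64].getD i 0

/-- bounds for the permutation parts of the stabilisers -/
def repB64 (i : ℕ) : ℕ := [10200960, 23040, 322560, 21504, 40320, 2688, 7920, 40320, 5760].getD i 0

/-- numbers of code words off the supports -/
def repC64 (i : ℕ) : ℕ := [2048, 256, 2, 2, 32, 8, 1, 1, 1].getD i 0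

/-- lower bounds for the orbits under the monomial group -/
def repN64 (i : ℕ) : ℕ := [48, 170016, 1554432, 23316480, 777216, 46632960, 126615552, 24870912, 174096384].getD i 0

theorem co0_rel64 : ∀ w : leechLattice, sqNorm (w : GolayPt → ℤ) = 64 →
    CoRel (vec pE64) w := by
  have h := trans_of_data 64 (by norm_num) 9 repP64 (by norm_num) ?_ ?_ ?_ repB64 repC64 repN64 ?_ ?_ ?_ ?_
    [(2, 3)] ?_ ?_
  · intro w hw
    exact h w (by exact_mod_cast hw)
  · intro i hi
    interval_cases i
    · exact E64_mem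
    · exact Q64_rel.mem_right
    · exact S64a_rel.mem_right
    · exact S64b_rel.mem_right
    · exact H64_rel.mem_right
    · exact P64_rel.mem_right
    · exact G64_rel.mem_right
    · exact K64_rel.mem_right
    · exact L64_rel.mem_right
  · decide +kernel
  · intro i hi
    interval_cases i
    · exact CoRel.refl E64_mem
    · exact Q64_rel
    · exact S64a_rel
    · exact S64b_rel
    · exact H64_rel
    · exact P64_rel
    · exact G64_rel
    · exact K64_rel
    · exact L64_rel
  · intro i hi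
    interval_cases i
    · exact E64_B
    · exact Q64_B
    · exact S64a_B
    · exact S64b_B
    · exact H64_B
    · exact P64_B
    · exact G64_B
    · exact K64_B
    · exact L64_B
  · intro i hi
    interval_cases i
    · exact E64_C
    · exact Q64_C
    · exact S64a_C
    · exact S64b_C
    · exact H64_C
    · exact P64_C
    · exact G64_C
    · exact K64_C
    · exact L64_C
  · decide +kernel
  · rw [card_V64]
    decide +kernel
  · decide +kernel
  · intro p hp
    rw [List.mem_singleton] at hp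
    subst hp
    exact special_ne (os := [0xf6840]) (by decide +kernel) (by decide +kernel) (by decide +kernel)

/-- the automorphism group is transitive on the lattice vectors of square length 64 -/
theorem co0_trans64 (v w : leechLattice) (hv : sqNorm (v : GolayPt → ℤ) = 64)
    (hw : sqNorm (w : GolayPt → ℤ) = 64) :
    ∃ g ∈ Co0, g v = w := by
  obtain ⟨g, hg, hx, e⟩ := (co0_rel64 v hv).symm.trans (co0_rel64 w hw)
  exact ⟨g, hg, Subtype.ext e⟩

end Cfsg.Agent.H33
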