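import Mathlib
import Cfsg.Agent.H93.LeechClasses
import Cfsg.Agent.H93.Co0Center
import Cfsg.Agent.H9.M24b

/-!
Second moments of the shells of the rank-24 lattice: for every vector `x`,
`24 * ∑ w ∈ V N, ⟨x, w⟩ ^ 2 = N * |V N| * ⟨x, x⟩`.  (Sign changes on code words kill the mixed
moments, coordinate permutations equalise the diagonal ones.)
-/

set_option autoImplicit false

namespace Cfsg.Agent.H33

open Cfsg Cfsg.Agent.H93 Cfsg.Agent.H9

theorem sg_mem_V {N : ℕ} (hN : N ≤ 64) (c : Finset GolayPt)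
    (hc : c ∈ supports (golayCode : Set (GolayPt → ZMod 2))) {w : GolayPt → ℤ} (hw : w ∈ V N) :
    sg c w ∈ V N := by
  rw [mem_V hN] at hw ⊢
  exact ⟨Cfsg.Agent.S0433.result c hc w hw.1, by rw [sqNorm_sg]; exact hw.2⟩

theorem pm_mem_V {N : ℕ} (hN : N ≤ 64) (σ : Equiv.Perm GolayPt) (hσ : σ ∈ M24) {w : GolayPt → ℤ}
    (hw : w ∈ V N) : pm σ w ∈ V N := by
  rw [mem_V hN] at hw ⊢
  exact ⟨Cfsg.Agent.S0432.result σ hσ w hw.1, by rw [sqNorm_pm]; exact hw.2⟩

/-- The mixed second moments of a shell vanish. -/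
theorem moment_offdiag {N : ℕ} (hN : N ≤ 64) (i j : GolayPt) (hij : i ≠ j) :
    ∑ w ∈ V N, w i * w j = 0 := by
  obtain ⟨c, hc, hj, hi⟩ := exists_sep i j hij
  have h : ∑ w ∈ V N, (sg c w) i * (sg c w) j = ∑ w ∈ V N, w i * w j := by
    apply Finset.sum_nbij' (sg c) (sg c)
    · intro w hw; exact sg_mem_V hN c hc hw
    · intro w hw; exact sg_mem_V hN c hc hw
    · intro w _; exact sg_sg c w
    · intro w _; exact sg_sg c w
    · intro w _; rfl
  have h2 : ∑ w ∈ V N, (sg c w) i * (sg c w) j = - ∑ w ∈ V N, w i * w j := by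
    rw [← Finset.sum_neg_distrib]
    apply Finset.sum_congr rfl
    intro w _
    simp only [sg, if_neg hi, if_pos hj]
    ring
  linarith

/-- The diagonal second moments of a shell are all equal. -/
theorem moment_diag_eq {N : ℕ} (hN : N ≤ 64) (i j : GolayPt) :
    ∑ w ∈ V N, w i ^ 2 = ∑ w ∈ V N, w j ^ 2 := by
  obtain ⟨σ, hσ⟩ := MulAction.exists_smul_eq M24 i j
  have hσ' : (σ : Equiv.Perm GolayPt) i = j := hσ
  apply Finset.sum_nbij' (pm (σ : Equiv.Perm GolayPt)⁻¹) (pm (σ : Equiv.Perm GolayPt))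
  · intro w hw; exact pm_mem_V hN _ (inv_mem σ.2) hw
  · intro w hw; exact pm_mem_V hN _ σ.2 hw
  · intro w _; funext k; simp [pm]
  · intro w _; funext k; simp [pm]
  · intro w _
    simp only [pm, ← hσ']
    rw [show ((σ : Equiv.Perm GolayPt))⁻¹ ((σ : Equiv.Perm GolayPt) i) = i from by simp]

theorem moment_diag {N : ℕ} (hN : N ≤ 64) (i : GolayPt) :
    24 * ∑ w ∈ V N, w i ^ 2 = (N : ℤ) * ((V N).card : ℤ) := by
  have h1 : ∑ j : GolayPt, ∑ w ∈ V N, w j ^ 2 = (N : ℤ) * ((V N).card : ℤ) := by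
    rw [Finset.sum_comm]
    have : ∀ w ∈ V N, ∑ j : GolayPt, w j ^ 2 = (N : ℤ) := fun w hw => ((mem_V hN).mp hw).2
    rw [Finset.sum_congr rfl this]
    simp [mul_comm]
  have h2 : ∑ j : GolayPt, ∑ w ∈ V N, w j ^ 2 = ∑ _j : GolayPt, ∑ w ∈ V N, w i ^ 2 :=
    Finset.sum_congr rfl (fun j _ => moment_diag_eq hN j i)
  rw [h2] at h1
  rw [Finset.sum_const, Finset.card_univ, Cfsg.Agent.H93.card_golayPt] at h1
  rw [← h1]; simp

/-- The second moment identity. -/
theorem second_moment {N : ℕ} (hN : N ≤ 64) (x : GolayPt → ℤ) :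
    24 * ∑ w ∈ V N, dotInt x w ^ 2 = (N : ℤ) * ((V N).card : ℤ) * sqNorm x := by
  have key : ∑ w ∈ V N, dotInt x w ^ 2
      = ∑ i : GolayPt, ∑ j : GolayPt, x i * x j * ∑ w ∈ V N, w i * w j := by
    have e1 : ∀ w : GolayPt → ℤ, dotInt x w ^ 2
        = ∑ i : GolayPt, ∑ j : GolayPt, x i * x j * (w i * w j) := by
      intro w
      unfold dotInt
      rw [sq, Finset.sum_mul_sum]
      apply Finset.sum_congr rfl; intro i _
      apply Finset.sum_congr rfl; intro j _
      ring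
    rw [Finset.sum_congr rfl (fun w _ => e1 w), Finset.sum_comm]
    apply Finset.sum_congr rfl; intro i _
    rw [Finset.sum_comm]
    apply Finset.sum_congr rfl; intro j _
    rw [Finset.mul_sum]
  have key2 : ∀ i : GolayPt, ∑ j : GolayPt, x i * x j * ∑ w ∈ V N, w i * w j
      = x i ^ 2 * ∑ w ∈ V N, w none ^ 2 := by
    intro i
    rw [Finset.sum_eq_single i]
    · have : ∑ w ∈ V N, w i * w i = ∑ w ∈ V N, w none ^ 2 := by
        rw [← moment_diag_eq hN i none]
        apply Finset.sum_congr rfl; intro w _; ring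
      rw [this]; ring
    · intro j _ hj
      rw [moment_offdiag hN i j (Ne.symm hj), mul_zero]
    · intro h; exact absurd (Finset.mem_univ i) h
  rw [key, Finset.sum_congr rfl (fun i _ => key2 i), ← Finset.sum_mul]
  have := moment_diag hN none
  unfold sqNorm
  linear_combination (∑ i : GolayPt, x i ^ 2) * this

theorem second_moment_32 (x : GolayPt → ℤ) :
    ∑ w ∈ V 32, dotInt x w ^ 2 = 262080 * sqNorm x := by
  have h := second_moment (N := 32) (by norm_num) x
  rw [card_V32] at h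
  push_cast at h
  linarith

end Cfsg.Agent.H33
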