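import Cfsg.Agent.H33.LData64
import Cfsg.Agent.H93.Co0Card

/-!
# Pairs of orthogonal minimal vectors of the rank-24 lattice (helper33)

The automorphism group is transitive on the ordered pairs of orthogonal lattice vectors of square
length 32: the sum of such a pair has square length 64, the group is transitive on the vectors of
square length 64, and the monomial stabiliser of `8 e_∞` is transitive on the decompositions
`8 e_∞ = (4 e_∞ + s e_j) + (4 e_∞ - s e_j)`.
-/

set_option autoImplicit false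

namespace Cfsg.Agent.H33

open Cfsg Cfsg.Agent.H9 Cfsg.Agent.H93

local notation "SC" => supports (golayCode : Set (GolayPt → ZMod 2))

/-- the lattice vectors of square length 32 with coordinate 4 at `none` -/
theorem min_four_form {a : GolayPt → ℤ} (ha : a ∈ leechLattice) (hn : sqNorm a = 32)
    (h4 : a none = 4) :
    ∃ j, j ≠ none ∧ ∃ s : ℤ, (s = 4 ∨ s = -4) ∧ a = Pi.single none 4 + Pi.single j s := by
  classical
  obtain ⟨m, hm, hp, -, hc⟩ := isL_norm (mem_leechLattice_iff.mp ha)
  rcases hm with rfl | rfl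
  swap
  · exfalso
    have := hp none
    rw [h4] at this
    unfold Int.ModEq at this
    omega
  have hsupp : support₂ (wd 0 a) ∈ SC := ⟨_, hc, rfl⟩
  have hcard := Cfsg.Agent.H9.supports_card hsupp
  have hmod : ∀ i, i ∈ support₂ (wd 0 a) → (4 : ℤ) ≤ a i ^ 2 ∧ i ≠ none := by
    intro i hi
    rw [mem_support₂_iff] at hi
    have h1 := (wd_ne_zero_iff 0 a i (hp i)).mp hi
    unfold Int.ModEq at h1
    constructor
    · have h2 : a i ≥ 2 ∨ a i ≤ -2 := by omega
      rcases h2 with h2 | h2 <;> nlinarith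
    · rintro rfl
      rw [h4] at h1
      omega
  have hsum16 : ∑ i ∈ Finset.univ.erase (none : GolayPt), a i ^ 2 = 16 := by
    unfold sqNorm at hn
    rw [← Finset.add_sum_erase _ _ (Finset.mem_univ (none : GolayPt)), h4] at hn
    linarith
  have hS : ((support₂ (wd 0 a)).card : ℤ) * 4 ≤ 16 := by
    have h1 : ∑ _i ∈ support₂ (wd 0 a), (4 : ℤ) ≤ ∑ i ∈ support₂ (wd 0 a), a i ^ 2 :=
      Finset.sum_le_sum (fun i hi => (hmod i hi).1)
    have h2 : ∑ i ∈ support₂ (wd 0 a), a i ^ 2 ≤ ∑ i ∈ Finset.univ.erase (none : GolayPt), a i ^ 2 :=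
      Finset.sum_le_sum_of_subset_of_nonneg
        (fun i hi => Finset.mem_erase.mpr ⟨(hmod i hi).2, Finset.mem_univ _⟩)
        (fun i _ _ => sq_nonneg _)
    rw [Finset.sum_const, nsmul_eq_mul] at h1
    linarith
  have hS0 : (support₂ (wd 0 a)).card = 0 := by
    rcases hcard with h | h | h | h | h <;> rw [h] at hS <;> first | exact h | norm_num at hS
  have h4all : ∀ i, a i % 4 = 0 := by
    intro i
    have hi : i ∉ support₂ (wd 0 a) := by
      rw [Finset.card_eq_zero.mp hS0]
      exact Finset.notMem_empty i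
    rw [mem_support₂_iff] at hi
    have h1 := (wd_ne_zero_iff 0 a i (hp i)).not.mp hi
    have h2 := hp i
    unfold Int.ModEq at h1 h2
    omega
  have hbig : ∀ k, a k ≠ 0 → (16 : ℤ) ≤ a k ^ 2 := by
    intro k hk
    have h1 := h4all k
    have h2 : a k ≥ 4 ∨ a k ≤ -4 := by omega
    rcases h2 with h2 | h2 <;> nlinarith
  have hex : ∃ j, j ≠ none ∧ a j ≠ 0 := by
    by_contra hne
    have hne' : ∀ j, j ≠ none → a j = 0 := by
      intro j hj
      by_contra h0
      exact hne ⟨j, hj, h0⟩
    have : ∑ i ∈ Finset.univ.erase (none : GolayPt), a i ^ 2 = 0 :=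
      Finset.sum_eq_zero (fun i hi => by rw [hne' i (Finset.ne_of_mem_erase hi)]; ring)
    omega
  obtain ⟨j, hj, haj⟩ := hex
  have haj16 := hbig j haj
  have hrest : ∀ k, k ≠ none → k ≠ j → a k = 0 := by
    intro k hk hkj
    by_contra hak
    have hak16 := hbig k hak
    have hsub : ({j, k} : Finset GolayPt) ⊆ Finset.univ.erase (none : GolayPt) := by
      intro i hi
      rw [Finset.mem_insert, Finset.mem_singleton] at hi
      rcases hi with rfl | rfl
      · exact Finset.mem_erase.mpr ⟨hj, Finset.mem_univ _⟩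
      · exact Finset.mem_erase.mpr ⟨hk, Finset.mem_univ _⟩
    have h1 := Finset.sum_le_sum_of_subset_of_nonneg hsub (f := fun i => a i ^ 2)
      (fun i _ _ => sq_nonneg (a i))
    rw [Finset.sum_pair (Ne.symm hkj)] at h1
    linarith
  have haj' : a j ^ 2 = 16 := by
    have h1 : a j ^ 2 ≤ ∑ i ∈ Finset.univ.erase (none : GolayPt), a i ^ 2 :=
      Finset.single_le_sum (f := fun i => a i ^ 2) (fun i _ => sq_nonneg (a i))
        (Finset.mem_erase.mpr ⟨hj, Finset.mem_univ _⟩)
    linarith
  have hs : a j = 4 ∨ a j = -4 := by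
    have h1 : (a j - 4) * (a j + 4) = 0 := by ring_nf; linarith
    rcases mul_eq_zero.mp h1 with h | h
    · left; omega
    · right; omega
  refine ⟨j, hj, a j, hs, ?_⟩
  funext l
  simp only [Pi.add_apply]
  by_cases hl : l = none
  · subst hl
    rw [Pi.single_eq_same, Pi.single_eq_of_ne (Ne.symm hj), h4, add_zero]
  · by_cases hlj : l = j
    · subst hlj
      rw [Pi.single_eq_of_ne hl, Pi.single_eq_same, zero_add]
    · rw [Pi.single_eq_of_ne hl, Pi.single_eq_of_ne hlj, hrest l hl hlj, add_zero]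

theorem signedPerm_add (σ : Equiv.Perm GolayPt) (c : Finset GolayPt) (x y : GolayPt → ℤ) :
    signedPerm σ c (x + y) = signedPerm σ c x + signedPerm σ c y := by
  funext i
  simp only [signedPerm, Pi.add_apply]
  split_ifs <;> ring

theorem empty_mem_supports : (∅ : Finset GolayPt) ∈ SC :=
  (mem_supports_iff _).mpr ⟨0, by norm_num, by rw [cw_zero, fs_zero]⟩

/-- the monomial group is transitive on the decompositions of `8 e_∞` -/
theorem mono_pair_trans {j j' : GolayPt} (hj : j ≠ none) (hj' : j' ≠ none) {s s' : ℤ}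
    (hs : s = 4 ∨ s = -4) (hs' : s' = 4 ∨ s' = -4) :
    ∃ σ ∈ M24, ∃ c ∈ SC, signedPerm σ c (Pi.single none 8) = Pi.single none 8 ∧
      signedPerm σ c (Pi.single none 4 + Pi.single j s) = Pi.single none 4 + Pi.single j' s' := by
  have hnj : (none : GolayPt) ≠ j := Ne.symm hj
  have hnj' : (none : GolayPt) ≠ j' := Ne.symm hj'
  obtain ⟨g, hg1, hg2⟩ := (MulAction.is_two_pretransitive_iff.mp m24_two_transitive) hnj hnj'
  have e1 : (g : Equiv.Perm GolayPt) none = none := hg1
  have e2 : (g : Equiv.Perm GolayPt) j = j' := hg2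
  by_cases hss : s' = s
  · refine ⟨g.1, g.2, ∅, empty_mem_supports, ?_, ?_⟩
    · rw [signedPerm_single, e1]
      simp
    · rw [signedPerm_add, signedPerm_single, signedPerm_single, e1, e2, hss]
      simp
  · obtain ⟨c, hc, hc1, hc2⟩ := exists_sep none j' (Ne.symm hj')
    refine ⟨g.1, g.2, c, hc, ?_, ?_⟩
    · rw [signedPerm_single, e1, if_neg hc2]
    · rw [signedPerm_add, signedPerm_single, signedPerm_single, e1, e2, if_neg hc2, if_pos hc1]
      have : s' = -s := by rcases hs with rfl | rfl <;> rcases hs' with rfl | rfl <;> simp_all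
      rw [this]

/-- transitivity on the ordered pairs of orthogonal lattice vectors of square length 32 -/
theorem co0_orth_pair_trans (v w w' : leechLattice) (hv : sqNorm (v : GolayPt → ℤ) = 32)
    (hw : sqNorm (w : GolayPt → ℤ) = 32) (hw' : sqNorm (w' : GolayPt → ℤ) = 32)
    (hd : dotInt (v : GolayPt → ℤ) (w : GolayPt → ℤ) = 0)
    (hd' : dotInt (v : GolayPt → ℤ) (w' : GolayPt → ℤ) = 0) :
    ∃ g ∈ Co0, g v = v ∧ g w = w' := by
  have hu : sqNorm ((v + w : leechLattice) : GolayPt → ℤ) = 64 := by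
    show sqNorm ((v : GolayPt → ℤ) + (w : GolayPt → ℤ)) = 64
    rw [sqNorm_add, hv, hw, hd]; norm_num
  have hu' : sqNorm ((v + w' : leechLattice) : GolayPt → ℤ) = 64 := by
    show sqNorm ((v : GolayPt → ℤ) + (w' : GolayPt → ℤ)) = 64
    rw [sqNorm_add, hv, hw', hd']; norm_num
  obtain ⟨g1, hg1, e1⟩ := co0_trans64 (v + w) E0 hu (sqNorm_bvec none)
  obtain ⟨g2, hg2, e2⟩ := co0_trans64 (v + w') E0 hu' (sqNorm_bvec none)
  have key : ∀ (g : Equiv.Perm leechLattice), g ∈ Co0 → ∀ (x y : leechLattice),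
      sqNorm (x : GolayPt → ℤ) = 32 → sqNorm (y : GolayPt → ℤ) = 32 → g (x + y) = E0 →
      ∃ j, j ≠ none ∧ ∃ s : ℤ, (s = 4 ∨ s = -4) ∧
        ((g x : leechLattice) : GolayPt → ℤ) = Pi.single none 4 + Pi.single j s := by
    intro g hg x y hx hy he
    have h1 : g x + g y = E0 := by rw [← hg.1]; exact he
    have hnx : sqNorm ((g x : leechLattice) : GolayPt → ℤ) = 32 := by rw [hg.2]; exact hx
    have hny : sqNorm ((g y : leechLattice) : GolayPt → ℤ) = 32 := by rw [hg.2]; exact hy
    have h2 : ((g x : leechLattice) : GolayPt → ℤ) + ((g y : leechLattice) : GolayPt → ℤ)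
        = bvec none := congrArg Subtype.val h1
    have h3 := sqNorm_add ((g x : leechLattice) : GolayPt → ℤ) ((g y : leechLattice) : GolayPt → ℤ)
    rw [h2, sqNorm_bvec, hnx, hny] at h3
    have h4 : dotInt ((g x : leechLattice) : GolayPt → ℤ) (bvec none) = 32 := by
      rw [← h2]
      have : dotInt ((g x : leechLattice) : GolayPt → ℤ)
          (((g x : leechLattice) : GolayPt → ℤ) + ((g y : leechLattice) : GolayPt → ℤ))
          = sqNorm ((g x : leechLattice) : GolayPt → ℤ)
            + dotInt ((g x : leechLattice) : GolayPt → ℤ) ((g y : leechLattice) : GolayPt → ℤ) := by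
        unfold dotInt sqNorm
        rw [← Finset.sum_add_distrib]
        exact Finset.sum_congr rfl (fun i _ => by simp only [Pi.add_apply]; ring)
      rw [this, hnx]
      linarith
    unfold bvec at h4
    rw [dotInt_bvec] at h4
    exact min_four_form (g x).2 hnx (by linarith)
  obtain ⟨j, hj, s, hs, ea⟩ := key g1 hg1 v w hv hw e1
  obtain ⟨j', hj', s', hs', ea'⟩ := key g2 hg2 v w' hv hw' e2
  obtain ⟨σ, hσ, c, hc, hE, hA⟩ := mono_pair_trans hj hj' hs hs'
  have hh := monoPerm_mem σ hσ c hc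
  have hv' : monoPerm σ hσ c hc (g1 v) = g2 v :=
    Subtype.ext (by rw [monoPerm_apply, ea, hA, ea'])
  have hE0 : monoPerm σ hσ c hc E0 = E0 := Subtype.ext (by rw [monoPerm_apply]; exact hE)
  have h1 : g1 v + g1 w = E0 := by rw [← hg1.1]; exact e1
  have h2 : g2 v + g2 w' = E0 := by rw [← hg2.1]; exact e2
  have hadd := hh.1 (g1 v) (g1 w)
  rw [h1, hE0, hv'] at hadd
  have hw2 : monoPerm σ hσ c hc (g1 w) = g2 w' := by
    have h3 : g2 v + monoPerm σ hσ c hc (g1 w) = g2 v + g2 w' := hadd.symm.trans h2.symm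
    exact add_left_cancel h3
  refine ⟨g2⁻¹ * monoPerm σ hσ c hc * g1, mul_mem (mul_mem (inv_mem hg2) hh) hg1, ?_, ?_⟩
  · rw [Equiv.Perm.mul_apply, Equiv.Perm.mul_apply, hv']
    simp
  · rw [Equiv.Perm.mul_apply, Equiv.Perm.mul_apply, hw2]
    simp

end Cfsg.Agent.H33
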