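import Mathlib
import Cfsg.Agent.H33.LMoment
import Cfsg.Agent.H33.LData32
import Cfsg.Agent.H33.LData48
import Cfsg.Agent.H33.LData64
import Cfsg.Agent.H33.LPair

/-!
Counting pairs of short vectors of the rank-24 lattice with a prescribed inner product:
double counting between shells, the second moment identity and the transitivity of the
automorphism group on the first three shells.
-/

set_option autoImplicit false

namespace Cfsg.Agent.H33

open Cfsg Cfsg.Agent.H93

open Classical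

/-- The number of vectors of the shell `V M` with inner product `d` against `x`. -/
noncomputable def cnt (M : ℕ) (x : GolayPt → ℤ) (d : ℤ) : ℕ :=
  ((V M).filter (fun w => dotInt x w = d)).card

/-! ### Bilinear algebra -/

theorem lc_dot_comm (x y : GolayPt → ℤ) : dotInt x y = dotInt y x := by
  unfold dotInt; exact Finset.sum_congr rfl (fun i _ => mul_comm _ _)

theorem lc_dot_add_left (x y z : GolayPt → ℤ) : dotInt (x + y) z = dotInt x z + dotInt y z := by
  unfold dotInt; rw [← Finset.sum_add_distrib]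
  exact Finset.sum_congr rfl (fun i _ => by simp only [Pi.add_apply]; ring)

theorem lc_dot_sub_left (x y z : GolayPt → ℤ) : dotInt (x - y) z = dotInt x z - dotInt y z := by
  unfold dotInt; rw [← Finset.sum_sub_distrib]
  exact Finset.sum_congr rfl (fun i _ => by simp only [Pi.sub_apply]; ring)

theorem lc_dot_neg_right (x y : GolayPt → ℤ) : dotInt x (-y) = -dotInt x y := by
  unfold dotInt; rw [← Finset.sum_neg_distrib]
  exact Finset.sum_congr rfl (fun i _ => by simp only [Pi.neg_apply]; ring)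

theorem lc_dot_self (x : GolayPt → ℤ) : dotInt x x = sqNorm x := by
  unfold dotInt sqNorm; exact Finset.sum_congr rfl (fun i _ => by ring)

theorem lc_sqNorm_sub (x y : GolayPt → ℤ) :
    sqNorm (x - y) = sqNorm x - 2 * dotInt x y + sqNorm y := by
  have h := sqNorm_add x (-y)
  rw [lc_dot_neg_right, sqNorm_neg] at h
  rw [sub_eq_add_neg, h]; ring

theorem lc_sqNorm_eq_zero {x : GolayPt → ℤ} (h : sqNorm x = 0) : x = 0 := by
  unfold sqNorm at h
  funext i
  have := (Finset.sum_eq_zero_iff_of_nonneg (fun j _ => sq_nonneg (x j))).mp h i (Finset.mem_univ i)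
  simpa using this

theorem lc_sqNorm_nonneg (x : GolayPt → ℤ) : 0 ≤ sqNorm x :=
  Finset.sum_nonneg (fun j _ => sq_nonneg (x j))

/-! ### Extending a lattice automorphism to all integer vectors -/

/-- The automorphism `g`, extended by the identity off the lattice. -/
noncomputable def liftG (g : Equiv.Perm leechLattice) (w : GolayPt → ℤ) : GolayPt → ℤ :=
  if h : w ∈ leechLattice then (g ⟨w, h⟩ : GolayPt → ℤ) else w

theorem liftG_of_mem (g : Equiv.Perm leechLattice) {w : GolayPt → ℤ} (h : w ∈ leechLattice) :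
    liftG g w = (g ⟨w, h⟩ : GolayPt → ℤ) := dif_pos h

theorem liftG_mem (g : Equiv.Perm leechLattice) {w : GolayPt → ℤ} (h : w ∈ leechLattice) :
    liftG g w ∈ leechLattice := by
  rw [liftG_of_mem g h]; exact (g ⟨w, h⟩).2

theorem liftG_inv (g : Equiv.Perm leechLattice) {w : GolayPt → ℤ} (h : w ∈ leechLattice) :
    liftG g⁻¹ (liftG g w) = w := by
  rw [liftG_of_mem g h, liftG_of_mem g⁻¹ (g ⟨w, h⟩).2]; simp

theorem liftG_inv' (g : Equiv.Perm leechLattice) {w : GolayPt → ℤ} (h : w ∈ leechLattice) :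
    liftG g (liftG g⁻¹ w) = w := by
  rw [liftG_of_mem g⁻¹ h, liftG_of_mem g (g⁻¹ ⟨w, h⟩).2]; simp

theorem liftG_mem_V {M : ℕ} (hM : M ≤ 64) {g : Equiv.Perm leechLattice} (hg : g ∈ Co0)
    {w : GolayPt → ℤ} (hw : w ∈ V M) : liftG g w ∈ V M := by
  rw [mem_V hM] at hw ⊢
  refine ⟨liftG_mem g hw.1, ?_⟩
  rw [liftG_of_mem g hw.1, hg.2]; exact hw.2

theorem liftG_dot {g : Equiv.Perm leechLattice} (hg : g ∈ Co0) {x w : GolayPt → ℤ}
    (hx : x ∈ leechLattice) (hw : w ∈ leechLattice) :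
    dotInt (liftG g x) (liftG g w) = dotInt x w := by
  rw [liftG_of_mem g hx, liftG_of_mem g hw]
  exact dot_preserved hg ⟨x, hx⟩ ⟨w, hw⟩

/-! ### The counting function -/

theorem mem_cntSet {M : ℕ} {x w : GolayPt → ℤ} {d : ℤ} :
    w ∈ (V M).filter (fun w => dotInt x w = d) ↔ w ∈ V M ∧ dotInt x w = d :=
  Finset.mem_filter

/-- The count is invariant under the automorphism group. -/
theorem cnt_liftG {M : ℕ} (hM : M ≤ 64) {g : Equiv.Perm leechLattice} (hg : g ∈ Co0)
    {x : GolayPt → ℤ} (hx : x ∈ leechLattice) (d : ℤ) :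
    cnt M (liftG g x) d = cnt M x d := by
  unfold cnt
  symm
  apply Finset.card_nbij' (liftG g) (liftG g⁻¹)
  · intro w hw
    rw [Finset.mem_coe, mem_cntSet] at hw ⊢
    refine ⟨liftG_mem_V hM hg hw.1, ?_⟩
    rw [liftG_dot hg hx ((mem_V hM).mp hw.1).1]; exact hw.2
  · intro w hw
    rw [Finset.mem_coe, mem_cntSet] at hw ⊢
    have hwL := ((mem_V hM).mp hw.1).1
    refine ⟨liftG_mem_V hM (inv_mem hg) hw.1, ?_⟩
    have h := liftG_dot hg hx (liftG_mem g⁻¹ hwL)
    rw [liftG_inv' g hwL] at h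
    rw [← h]; exact hw.2
  · intro w hw
    rw [Finset.mem_coe, mem_cntSet] at hw
    exact liftG_inv g ((mem_V hM).mp hw.1).1
  · intro w hw
    rw [Finset.mem_coe, mem_cntSet] at hw
    exact liftG_inv' g ((mem_V hM).mp hw.1).1

theorem cnt_neg {M : ℕ} (hM : M ≤ 64) (x : GolayPt → ℤ) (d : ℤ) : cnt M x (-d) = cnt M x d := by
  unfold cnt
  have hneg : ∀ w, w ∈ V M → -w ∈ V M := by
    intro w hw
    rw [mem_V hM] at hw ⊢
    exact ⟨neg_mem hw.1, by rw [sqNorm_neg]; exact hw.2⟩
  apply Finset.card_nbij' (fun w => -w) (fun w => -w)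
  · intro w hw
    rw [Finset.mem_coe, mem_cntSet] at hw ⊢
    refine ⟨hneg w hw.1, ?_⟩
    rw [lc_dot_neg_right, hw.2, neg_neg]
  · intro w hw
    rw [Finset.mem_coe, mem_cntSet] at hw ⊢
    refine ⟨hneg w hw.1, ?_⟩
    rw [lc_dot_neg_right, hw.2]
  · intro w _; exact neg_neg w
  · intro w _; exact neg_neg w

/-- Translating by the second vector: pairs `(a, w)` with `⟨a, w⟩ = d` correspond to pairs
`(a + w, w)`. -/
theorem cnt_shift {A B : ℕ} (hA : A ≤ 64) (hB : B ≤ 64) (d : ℤ) (h : (B : ℤ) = A + 32 + 2 * d) :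
    ∑ a ∈ V A, cnt 32 a d = ∑ u ∈ V B, cnt 32 u (d + 32) := by
  unfold cnt
  rw [← Finset.card_sigma, ← Finset.card_sigma]
  have h32 : (32 : ℕ) ≤ 64 := by norm_num
  apply Finset.card_nbij'
    (fun p : (_ : GolayPt → ℤ) × (GolayPt → ℤ) => (⟨p.1 + p.2, p.2⟩ : (_ : GolayPt → ℤ) × (GolayPt → ℤ)))
    (fun p : (_ : GolayPt → ℤ) × (GolayPt → ℤ) => (⟨p.1 - p.2, p.2⟩ : (_ : GolayPt → ℤ) × (GolayPt → ℤ)))
  · rintro ⟨a, w⟩ hp
    rw [Finset.mem_coe, Finset.mem_sigma, mem_cntSet] at hp ⊢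
    obtain ⟨ha, hw, hd⟩ := hp
    have ha' := (mem_V hA).mp ha
    have hw' := (mem_V h32).mp hw
    dsimp only at ha hw hd ha' hw' ⊢
    refine ⟨(mem_V hB).mpr ⟨add_mem ha'.1 hw'.1, ?_⟩, hw, ?_⟩
    · rw [sqNorm_add, ha'.2, hw'.2, hd, h]; push_cast; ring
    · rw [lc_dot_add_left, hd, lc_dot_self, hw'.2]; norm_num
  · rintro ⟨u, w⟩ hp
    rw [Finset.mem_coe, Finset.mem_sigma, mem_cntSet] at hp ⊢
    obtain ⟨hu, hw, hd⟩ := hp
    have hu' := (mem_V hB).mp hu
    have hw' := (mem_V h32).mp hw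
    dsimp only at hu hw hd hu' hw' ⊢
    refine ⟨(mem_V hA).mpr ⟨sub_mem hu'.1 hw'.1, ?_⟩, hw, ?_⟩
    · rw [lc_sqNorm_sub, hu'.2, hw'.2, hd, h]; push_cast; ring
    · rw [lc_dot_sub_left, hd, lc_dot_self, hw'.2]; norm_num
  · rintro ⟨a, w⟩ _
    simp
  · rintro ⟨u, w⟩ _
    simp

theorem cnt_total {M : ℕ} (x : GolayPt → ℤ) (D : Finset ℤ) (hD : ∀ w ∈ V M, dotInt x w ∈ D) :
    ∑ d ∈ D, cnt M x d = (V M).card := by
  unfold cnt
  exact (Finset.card_eq_sum_card_fiberwise hD).symm

theorem cnt_moment {M : ℕ} (x : GolayPt → ℤ) (D : Finset ℤ) (hD : ∀ w ∈ V M, dotInt x w ∈ D) :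
    ∑ d ∈ D, d ^ 2 * (cnt M x d : ℤ) = ∑ w ∈ V M, dotInt x w ^ 2 := by
  rw [← Finset.sum_fiberwise_of_maps_to hD]
  apply Finset.sum_congr rfl
  intro d _
  have : ∀ w ∈ (V M).filter (fun w => dotInt x w = d), dotInt x w ^ 2 = d ^ 2 := by
    intro w hw
    rw [(Finset.mem_filter.mp hw).2]
  rw [Finset.sum_congr rfl this, Finset.sum_const, nsmul_eq_mul]
  unfold cnt
  ring

/-! ### Inner products of short vectors -/

theorem lc_eight_dvd_dot {v w : GolayPt → ℤ} (hv : v ∈ leechLattice) (hw : w ∈ leechLattice) :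
    (8 : ℤ) ∣ dotInt v w := by
  have h1 := sixteen_dvd_sqNorm (add_mem hv hw)
  have h2 := sixteen_dvd_sqNorm hv
  have h3 := sixteen_dvd_sqNorm hw
  rw [sqNorm_add] at h1
  omega

theorem lc_sqNorm_zero : sqNorm (0 : GolayPt → ℤ) = 0 := by simp [sqNorm]

theorem dot_vals_32 {v w : GolayPt → ℤ} (hv : v ∈ V 32) (hw : w ∈ V 32) :
    dotInt v w ∈ ({-32, -16, -8, 0, 8, 16, 32} : Finset ℤ) := by
  have hv' := (mem_V (by norm_num)).mp hv
  have hw' := (mem_V (by norm_num)).mp hw
  have h8 := lc_eight_dvd_dot hv'.1 hw'.1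
  have hp : dotInt v w = -32 ∨ -16 ≤ dotInt v w := by
    by_cases h0 : v + w = 0
    · left
      have := sqNorm_add v w
      rw [h0, lc_sqNorm_zero, hv'.2, hw'.2] at this; push_cast at this; linarith
    · right
      have := min_sqNorm (add_mem hv'.1 hw'.1) h0
      rw [sqNorm_add, hv'.2, hw'.2] at this; push_cast at this; linarith
  have hm : dotInt v w = 32 ∨ dotInt v w ≤ 16 := by
    by_cases h0 : v - w = 0
    · left
      have := lc_sqNorm_sub v w
      rw [h0, lc_sqNorm_zero, hv'.2, hw'.2] at this; push_cast at this; linarith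
    · right
      have := min_sqNorm (sub_mem hv'.1 hw'.1) h0
      rw [lc_sqNorm_sub, hv'.2, hw'.2] at this; push_cast at this; linarith
  simp only [Finset.mem_insert, Finset.mem_singleton]
  omega

theorem dot_vals_48 {u w : GolayPt → ℤ} (hu : u ∈ V 48) (hw : w ∈ V 32) :
    dotInt u w ∈ ({-24, -16, -8, 0, 8, 16, 24} : Finset ℤ) := by
  have hu' := (mem_V (by norm_num)).mp hu
  have hw' := (mem_V (by norm_num)).mp hw
  have h8 := lc_eight_dvd_dot hu'.1 hw'.1
  have hp : -24 ≤ dotInt u w := by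
    have h0 : u + w ≠ 0 := by
      intro h0
      have e : u = -w := eq_neg_of_add_eq_zero_left h0
      have := hu'.2
      rw [e, sqNorm_neg, hw'.2] at this
      norm_num at this
    have := min_sqNorm (add_mem hu'.1 hw'.1) h0
    rw [sqNorm_add, hu'.2, hw'.2] at this; push_cast at this; linarith
  have hm : dotInt u w ≤ 24 := by
    have h0 : u - w ≠ 0 := by
      intro h0
      have e : u = w := sub_eq_zero.mp h0
      have := hu'.2
      rw [e, hw'.2] at this
      norm_num at this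
    have := min_sqNorm (sub_mem hu'.1 hw'.1) h0
    rw [lc_sqNorm_sub, hu'.2, hw'.2] at this; push_cast at this; linarith
  simp only [Finset.mem_insert, Finset.mem_singleton]
  omega

theorem cnt_32_32 {v : GolayPt → ℤ} (hv : v ∈ V 32) : cnt 32 v 32 = 1 := by
  have hv' := (mem_V (by norm_num)).mp hv
  unfold cnt
  rw [Finset.card_eq_one]
  refine ⟨v, ?_⟩
  ext w
  rw [mem_cntSet, Finset.mem_singleton]
  constructor
  · rintro ⟨hw, hd⟩
    have hw' := (mem_V (by norm_num)).mp hw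
    have h0 : sqNorm (v - w) = 0 := by
      rw [lc_sqNorm_sub, hv'.2, hw'.2, hd]; norm_num
    exact (sub_eq_zero.mp (lc_sqNorm_eq_zero h0)).symm
  · rintro rfl
    exact ⟨hv, by rw [lc_dot_self]; exact_mod_cast hv'.2⟩

/-! ### Constancy on the shells -/

theorem cnt_const32 {M : ℕ} (hM : M ≤ 64) {v v' : GolayPt → ℤ} (hv : v ∈ V 32) (hv' : v' ∈ V 32)
    (d : ℤ) : cnt M v d = cnt M v' d := by
  have h := (mem_V (by norm_num)).mp hv
  have h' := (mem_V (by norm_num)).mp hv'
  obtain ⟨g, hg, e⟩ := co0_trans32 ⟨v, h.1⟩ ⟨v', h'.1⟩ (by exact_mod_cast h.2)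
    (by exact_mod_cast h'.2)
  have : liftG g v = v' := by rw [liftG_of_mem g h.1, e]
  rw [← this, cnt_liftG hM hg h.1]

theorem cnt_const48 {M : ℕ} (hM : M ≤ 64) {v v' : GolayPt → ℤ} (hv : v ∈ V 48) (hv' : v' ∈ V 48)
    (d : ℤ) : cnt M v d = cnt M v' d := by
  have h := (mem_V (by norm_num)).mp hv
  have h' := (mem_V (by norm_num)).mp hv'
  obtain ⟨g, hg, e⟩ := co0_trans48 ⟨v, h.1⟩ ⟨v', h'.1⟩ (by exact_mod_cast h.2)
    (by exact_mod_cast h'.2)
  have : liftG g v = v' := by rw [liftG_of_mem g h.1, e]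
  rw [← this, cnt_liftG hM hg h.1]

theorem cnt_const64 {M : ℕ} (hM : M ≤ 64) {v v' : GolayPt → ℤ} (hv : v ∈ V 64) (hv' : v' ∈ V 64)
    (d : ℤ) : cnt M v d = cnt M v' d := by
  have h := (mem_V (by norm_num)).mp hv
  have h' := (mem_V (by norm_num)).mp hv'
  obtain ⟨g, hg, e⟩ := co0_trans64 ⟨v, h.1⟩ ⟨v', h'.1⟩ (by exact_mod_cast h.2)
    (by exact_mod_cast h'.2)
  have : liftG g v = v' := by rw [liftG_of_mem g h.1, e]
  rw [← this, cnt_liftG hM hg h.1]

theorem sum_cnt32 {M : ℕ} (hM : M ≤ 64) {v : GolayPt → ℤ} (hv : v ∈ V 32) (d : ℤ) :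
    ∑ a ∈ V 32, cnt M a d = 196560 * cnt M v d := by
  rw [Finset.sum_congr rfl (fun a ha => cnt_const32 hM ha hv d), Finset.sum_const, card_V32,
    smul_eq_mul]

theorem sum_cnt48 {M : ℕ} (hM : M ≤ 64) {v : GolayPt → ℤ} (hv : v ∈ V 48) (d : ℤ) :
    ∑ a ∈ V 48, cnt M a d = 16773120 * cnt M v d := by
  rw [Finset.sum_congr rfl (fun a ha => cnt_const48 hM ha hv d), Finset.sum_const, card_V48,
    smul_eq_mul]

theorem sum_cnt64 {M : ℕ} (hM : M ≤ 64) {v : GolayPt → ℤ} (hv : v ∈ V 64) (d : ℤ) :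
    ∑ a ∈ V 64, cnt M a d = 398034000 * cnt M v d := by
  rw [Finset.sum_congr rfl (fun a ha => cnt_const64 hM ha hv d), Finset.sum_const, card_V64,
    smul_eq_mul]

theorem bvec_mem_V64 : bvec none ∈ V 64 :=
  (mem_V (by norm_num)).mpr ⟨bvec_mem none, by exact_mod_cast sqNorm_bvec none⟩

/-! ### The minimal vectors at distance `√32` from a frame vector -/

theorem cnt_E0_32 : cnt 32 (bvec none) 32 = 46 := by
  unfold cnt
  have hS : (V 32).filter (fun w => dotInt (bvec none) w = 32)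
      = ((Finset.univ.erase (none : GolayPt)) ×ˢ ({4, -4} : Finset ℤ)).image
          (fun p => (Pi.single none 4 + Pi.single p.1 p.2 : GolayPt → ℤ)) := by
    ext w
    rw [mem_cntSet, Finset.mem_image]
    constructor
    · rintro ⟨hw, hd⟩
      have hw' := (mem_V (by norm_num)).mp hw
      have h4 : w none = 4 := by
        rw [lc_dot_comm, bvec, dotInt_bvec] at hd; omega
      obtain ⟨j, hj, s, hs, e⟩ := min_four_form hw'.1 (by exact_mod_cast hw'.2) h4
      refine ⟨(j, s), ?_, e.symm⟩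
      rw [Finset.mem_product]
      refine ⟨Finset.mem_erase.mpr ⟨hj, Finset.mem_univ _⟩, ?_⟩
      simp only [Finset.mem_insert, Finset.mem_singleton]
      exact hs
    · rintro ⟨⟨j, s⟩, hp, rfl⟩
      rw [Finset.mem_product] at hp
      have hj : j ≠ none := (Finset.mem_erase.mp hp.1).1
      have hs : s = 4 ∨ s = -4 := by
        have := hp.2
        simp only [Finset.mem_insert, Finset.mem_singleton] at this
        exact this
      have e : (Pi.single none 4 + Pi.single j s : GolayPt → ℤ) = dvec none 4 j s := by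
        funext l
        simp only [dvec, Pi.add_apply, Pi.single_apply]
      refine ⟨(mem_V (by norm_num)).mpr ⟨?_, ?_⟩, ?_⟩
      · rw [e]; exact dvec_mem (Ne.symm hj) (Or.inl rfl) hs
      · rw [e]; exact_mod_cast dvec_sqNorm (Ne.symm hj) (Or.inl rfl) hs
      · rw [lc_dot_comm, bvec, dotInt_bvec]
        simp only [Pi.add_apply, Pi.single_eq_same, Pi.single_eq_of_ne (Ne.symm hj)]
        norm_num
  rw [hS, Finset.card_image_of_injOn]
  · rw [Finset.card_product, Finset.card_erase_of_mem (Finset.mem_univ _), Finset.card_univ,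
      Cfsg.Agent.H93.card_golayPt]
    rfl
  · rintro ⟨j, s⟩ hp ⟨j', s'⟩ hp' heq
    rw [Finset.mem_coe, Finset.mem_product] at hp hp'
    have hj : j ≠ none := (Finset.mem_erase.mp hp.1).1
    have hj' : j' ≠ none := (Finset.mem_erase.mp hp'.1).1
    have hs : s = 4 ∨ s = -4 := by
      have := hp.2
      simp only [Finset.mem_insert, Finset.mem_singleton] at this
      exact this
    have hs' : s' = 4 ∨ s' = -4 := by
      have := hp'.2
      simp only [Finset.mem_insert, Finset.mem_singleton] at this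
      exact this
    have h1 := congrFun heq j
    simp only [Pi.add_apply, Pi.single_eq_same, Pi.single_eq_of_ne hj] at h1
    by_cases hjj : j = j'
    · subst hjj
      simp only [Pi.single_eq_same] at h1
      have : s = s' := by linarith
      rw [this]
    · exfalso
      rw [Pi.single_eq_of_ne hjj] at h1
      rcases hs with rfl | rfl <;> norm_num at h1

/-! ### The census for a minimal vector -/

theorem cnt32_values {v : GolayPt → ℤ} (hv : v ∈ V 32) :
    cnt 32 v 0 = 93150 ∧ cnt 32 v (-8) = 47104 ∧ cnt 32 v (-16) = 4600 := by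
  have h32 : (32 : ℕ) ≤ 64 := by norm_num
  have hv' := (mem_V h32).mp hv
  -- orthogonal pairs
  have hs := cnt_shift (A := 32) (B := 64) h32 (le_refl _) 0 (by norm_num)
  rw [sum_cnt32 h32 hv, zero_add, sum_cnt64 h32 bvec_mem_V64, cnt_E0_32] at hs
  have c0 : cnt 32 v 0 = 93150 := by omega
  -- total and second moment
  have ht := cnt_total v _ (fun w hw => dot_vals_32 hv hw)
  have hm := cnt_moment v _ (fun w hw => dot_vals_32 hv hw)
  rw [second_moment_32, hv'.2] at hm
  rw [card_V32] at ht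
  have e1 : cnt 32 v 32 = 1 := cnt_32_32 hv
  have e2 : cnt 32 v (-32) = 1 := by rw [cnt_neg h32]; exact e1
  have e3 : cnt 32 v 8 = cnt 32 v (-8) := (cnt_neg h32 v 8).symm
  have e4 : cnt 32 v 16 = cnt 32 v (-16) := (cnt_neg h32 v 16).symm
  rw [Finset.sum_insert (by decide), Finset.sum_insert (by decide), Finset.sum_insert (by decide),
    Finset.sum_insert (by decide), Finset.sum_insert (by decide), Finset.sum_insert (by decide),
    Finset.sum_singleton] at ht hm
  rw [e1, e2, e3, e4, c0] at ht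
  rw [e1, e2, e3, e4, c0] at hm
  push_cast at hm
  refine ⟨c0, ?_, ?_⟩ <;> omega

theorem cnt48_24 {u : GolayPt → ℤ} (hu : u ∈ V 48) : cnt 32 u 24 = 552 := by
  have h32 : (32 : ℕ) ≤ 64 := by norm_num
  have h48 : (48 : ℕ) ≤ 64 := by norm_num
  obtain ⟨v, hv⟩ : ∃ v, v ∈ V 32 := by
    apply Finset.card_pos.mp; rw [card_V32]; norm_num
  have hs := cnt_shift (A := 32) (B := 48) h32 h48 (-8) (by norm_num)
  rw [sum_cnt32 h32 hv, (cnt32_values hv).2.1, sum_cnt48 h32 hu] at hs
  norm_num at hs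
  omega

end Cfsg.Agent.H33
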