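import Mathlib
import Cfsg.Agent.H33.LCount

/-!
The census of `Cfsg.Agent.H33.LCount`, restated for sets of lattice vectors.
-/

set_option autoImplicit false

namespace Cfsg.Agent.H33

open Cfsg Cfsg.Agent.H93

open Classical

theorem ncard_min_dot (v : GolayPt → ℤ) (d : ℤ) :
    {w : GolayPt → ℤ | w ∈ leechLattice ∧ sqNorm w = 32 ∧ dotInt v w = d}.ncard = cnt 32 v d := by
  unfold cnt
  rw [← Set.ncard_coe_finset]
  congr 1
  ext w
  simp only [Set.mem_setOf_eq, Finset.coe_filter, mem_V (by norm_num : 32 ≤ 64)]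
  constructor
  · rintro ⟨h1, h2, h3⟩; exact ⟨⟨h1, by exact_mod_cast h2⟩, h3⟩
  · rintro ⟨⟨h1, h2⟩, h3⟩; exact ⟨h1, by exact_mod_cast h2, h3⟩

theorem ncard_sub_eq (P : (GolayPt → ℤ) → Prop) [DecidablePred P] :
    {x : leechLattice | sqNorm (x : GolayPt → ℤ) = 32 ∧ P x}.ncard = ((V 32).filter P).card := by
  rw [← Set.ncard_coe_finset, ← Set.ncard_image_of_injective _ Subtype.val_injective]
  congr 1
  ext w
  simp only [Set.mem_image, Set.mem_setOf_eq, Finset.coe_filter, mem_V (by norm_num : 32 ≤ 64)]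
  constructor
  · rintro ⟨x, ⟨h1, h2⟩, rfl⟩; exact ⟨⟨x.2, by exact_mod_cast h1⟩, h2⟩
  · rintro ⟨⟨h1, h2⟩, h3⟩; exact ⟨⟨w, h1⟩, ⟨by exact_mod_cast h2, h3⟩, rfl⟩

theorem ncard_sub_dot (u : GolayPt → ℤ) (d : ℤ) :
    {x : leechLattice | sqNorm (x : GolayPt → ℤ) = 32 ∧ dotInt u x = d}.ncard = cnt 32 u d :=
  ncard_sub_eq (fun w => dotInt u w = d)

theorem mem_V_of {M : ℕ} (hM : M ≤ 64) (u : leechLattice) (hu : sqNorm (u : GolayPt → ℤ) = M) :
    (u : GolayPt → ℤ) ∈ V M := (mem_V hM).mpr ⟨u.2, hu⟩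

/-- The minimal vectors at minimal distance from a vector of the second shell. -/
theorem ncard_552 (u : leechLattice) (hu : sqNorm (u : GolayPt → ℤ) = 48) :
    {v : leechLattice | sqNorm (v : GolayPt → ℤ) = 32
      ∧ sqNorm ((u : GolayPt → ℤ) - (v : GolayPt → ℤ)) = 32}.ncard = 552 := by
  have hu' : (u : GolayPt → ℤ) ∈ V 48 := mem_V_of (by norm_num) u (by exact_mod_cast hu)
  rw [ncard_sub_eq (fun w => sqNorm ((u : GolayPt → ℤ) - w) = 32), ← cnt48_24 hu']
  unfold cnt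
  congr 1
  ext w
  rw [Finset.mem_filter, Finset.mem_filter]
  apply and_congr_right
  intro hw
  have hw' := (mem_V (by norm_num)).mp hw
  rw [lc_sqNorm_sub, hu, hw'.2]
  push_cast
  constructor <;> intro h <;> linarith

theorem finite_of_ncard {α : Type*} {s : Set α} {n : ℕ} (h : s.ncard = n + 1) : s.Finite :=
  Set.finite_of_ncard_ne_zero (by omega)

end Cfsg.Agent.H33
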