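import Mathlib
import Cfsg.Agent.H33.Prim

/-!
# Orbit census of a point stabiliser from an injective tagged enumeration (helper33)

`census`: let a finite group `G` act on `X`, let `f 0, …, f (N-1)` be an injective enumeration of
the orbit of `x0` (of size `N`), with tags `τ j` (`0` for the base point, `i + 1` for the `i`-th
class), such that the entries of the `i`-th class lie in the orbit of `ρ i` under the stabiliser
`H` of `x0`.  If no sum of two or more class sizes divides `|H|`, then the classes are exactly the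
orbits of `H`.  `census_isCoatom` deduces maximality of `H` from the suborbit sizes.
-/

set_option autoImplicit false

namespace Cfsg.Agent.H33

open MulAction

/-- an injective family of `N` elements of a set of size `N` exhausts the set -/
theorem exists_index_of_inj {X : Type*} (A : Set X) (N : ℕ) (hA : A.ncard = N) (hAfin : A.Finite)
    (f : ℕ → X) (hf : ∀ j < N, f j ∈ A) (hinj : ∀ j < N, ∀ k < N, f j = f k → j = k) :
    ∀ a ∈ A, ∃ j < N, f j = a := by
  classical
  have hsub : ((Finset.range N).image f : Set X) ⊆ A := by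
    intro x hx
    rw [Finset.mem_coe, Finset.mem_image] at hx
    obtain ⟨j, hj, rfl⟩ := hx
    exact hf j (Finset.mem_range.mp hj)
  have hcard : ((Finset.range N).image f).card = N := by
    rw [Finset.card_image_of_injOn, Finset.card_range]
    intro j hj k hk h
    exact hinj j (Finset.mem_range.mp (Finset.mem_coe.mp hj)) k
      (Finset.mem_range.mp (Finset.mem_coe.mp hk)) h
  have heq := Set.eq_of_subset_of_ncard_le hsub (by rw [Set.ncard_coe_finset, hcard, hA]) hAfin
  intro a ha
  rw [← heq, Finset.mem_coe, Finset.mem_image] at ha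
  obtain ⟨j, hj, rfl⟩ := ha
  exact ⟨j, Finset.mem_range.mp hj, rfl⟩

theorem orbit_stabilizer_self {G X : Type*} [Group G] [MulAction G X] (x0 y : X)
    (h : x0 ∈ orbit (stabilizer G x0) y) : y = x0 := by
  obtain ⟨g, hg⟩ := h
  have h1 : (g : G) • y = x0 := hg
  have h2 : (g : G) • x0 = x0 := g.2
  exact smul_left_cancel (g : G) (h1.trans h2.symm)

theorem census {G X : Type*} [Group G] [Finite G] [MulAction G X] (x0 : X) (N K r : ℕ)
    (f : ℕ → X) (τ : ℕ → ℕ) (ρ : Fin r → X) (n : Fin r → ℕ)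
    (hN : (orbit G x0).ncard = N) (hNpos : 0 < N)
    (hKN : Nat.card G = K * N)
    (hinj : ∀ j < N, ∀ k < N, f j = f k → j = k)
    (hfA : ∀ j < N, f j ∈ orbit G x0)
    (htree : ∀ j < N, (τ j = 0 ∧ f j = x0) ∨
      ∃ i : Fin r, τ j = i + 1 ∧ f j ∈ orbit (stabilizer G x0) (ρ i))
    (hroot : ∀ i : Fin r, ∃ j < N, τ j = i + 1 ∧ f j = ρ i)
    (hcount : ∀ i : Fin r, ((Finset.range N).filter (fun j => τ j = i + 1)).card = n i)
    (hdiv : ∀ J : Finset (Fin r), 2 ≤ J.card →
      (∀ i ∈ J, ∀ k ∈ J, orbit (stabilizer G x0) (ρ i) = orbit (stabilizer G x0) (ρ k)) →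
      ¬ ((∑ j ∈ J, n j) ∣ K)) :
    ∀ i, orbit (stabilizer G x0) (ρ i) = f '' {j | j < N ∧ τ j = i + 1} ∧
      (orbit (stabilizer G x0) (ρ i)).ncard = n i := by
  classical
  intro i
  have hfinO : (orbit G x0).Finite := Set.finite_range _
  have hcardH : Nat.card (stabilizer G x0) = K := by
    have h1 := Subgroup.card_mul_index (stabilizer G x0)
    rw [index_stabilizer, hN, hKN] at h1
    exact Nat.eq_of_mul_eq_mul_right hNpos h1
  have hidx := exists_index_of_inj (orbit G x0) N hN hfinO f hfA hinj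
  set O := orbit (stabilizer G x0) (ρ i) with hO
  let J : Finset (Fin r) := Finset.univ.filter (fun k => orbit (stabilizer G x0) (ρ k) = O)
  have hiJ : i ∈ J := by simp [J, hO]
  let SJ : Finset ℕ := (Finset.range N).filter (fun j => ∃ k ∈ J, τ j = (k : ℕ) + 1)
  have hOeq : O = ((SJ.image f : Finset X) : Set X) := by
    ext a
    rw [Finset.mem_coe, Finset.mem_image]
    constructor
    · intro ha
      have haG : a ∈ orbit G x0 := by
        obtain ⟨j, hj, -, hjρ⟩ := hroot i
        obtain ⟨h, rfl⟩ := ha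
        have h1 : ρ i ∈ orbit G x0 := hjρ ▸ hfA j hj
        obtain ⟨g, hg⟩ := h1
        refine ⟨(h : G) * g, ?_⟩
        show ((h : G) * g) • x0 = (h : G) • ρ i
        rw [mul_smul]
        exact congrArg ((h : G) • ·) hg
      obtain ⟨j, hj, rfl⟩ := hidx a haG
      rcases htree j hj with ⟨h0, hx0⟩ | ⟨k, hk, hmem⟩
      · exfalso
        rw [hx0] at ha
        have hρ : ρ i = x0 := orbit_stabilizer_self x0 (ρ i) ha
        obtain ⟨j', hj', hτ', hf'⟩ := hroot i
        have : j' = j := hinj j' hj' j hj (by rw [hf', hρ, hx0])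
        rw [this, h0] at hτ'
        omega
      · refine ⟨j, ?_, rfl⟩
        simp only [SJ, Finset.mem_filter, Finset.mem_range]
        refine ⟨hj, k, ?_, hk⟩
        simp only [J, Finset.mem_filter, Finset.mem_univ, true_and]
        have e1 : orbit (stabilizer G x0) (f j) = orbit (stabilizer G x0) (ρ k) :=
          orbit_eq_iff.mpr hmem
        have e2 : orbit (stabilizer G x0) (f j) = orbit (stabilizer G x0) (ρ i) :=
          orbit_eq_iff.mpr ha
        rw [← e1, e2]
    · rintro ⟨j, hj, rfl⟩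
      simp only [SJ, Finset.mem_filter, Finset.mem_range] at hj
      obtain ⟨hjN, k, hkJ, hτ⟩ := hj
      simp only [J, Finset.mem_filter, Finset.mem_univ, true_and] at hkJ
      rcases htree j hjN with ⟨h0, -⟩ | ⟨k', hk', hmem⟩
      · omega
      · have : k' = k := Fin.ext (by omega)
        rw [this, hkJ] at hmem
        exact hmem
  have hSJ : SJ.card = ∑ k ∈ J, n k := by
    have hbi : SJ = J.biUnion (fun k => (Finset.range N).filter (fun j => τ j = (k : ℕ) + 1)) := by
      ext j
      simp only [SJ, Finset.mem_filter, Finset.mem_range, Finset.mem_biUnion]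
      constructor
      · rintro ⟨hj, k, hk, h⟩
        exact ⟨k, hk, hj, h⟩
      · rintro ⟨k, hk, hj, h⟩
        exact ⟨hj, k, hk, h⟩
    rw [hbi, Finset.card_biUnion]
    · exact Finset.sum_congr rfl (fun k _ => hcount k)
    · intro k _ k' _ hkk'
      rw [Function.onFun, Finset.disjoint_left]
      intro j hj hj'
      simp only [Finset.mem_filter] at hj hj'
      exact hkk' (Fin.ext (by omega))
  have hOcard : O.ncard = ∑ k ∈ J, n k := by
    rw [hOeq, Set.ncard_coe_finset, Finset.card_image_of_injOn, hSJ]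
    intro j hj k hk h
    simp only [SJ, Finset.coe_filter, Finset.mem_range, Set.mem_setOf_eq] at hj hk
    exact hinj j hj.1 k hk.1 h
  have hdvd : (∑ k ∈ J, n k) ∣ K := by
    rw [← hOcard, ← hcardH, hO, ← index_stabilizer]
    exact Subgroup.index_dvd_card _
  have hJ1 : J.card < 2 := by
    by_contra hcon
    refine hdiv J (by omega) ?_ hdvd
    intro a ha b hb
    simp only [J, Finset.mem_filter, Finset.mem_univ, true_and] at ha hb
    rw [ha, hb]
  have hJeq : J = {i} := by
    rw [Finset.eq_singleton_iff_unique_mem]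
    refine ⟨hiJ, fun k hk => ?_⟩
    by_contra hne
    have : ({i, k} : Finset (Fin r)).card ≤ J.card :=
      Finset.card_le_card (by
        intro z hz
        simp only [Finset.mem_insert, Finset.mem_singleton] at hz
        rcases hz with rfl | rfl
        · exact hiJ
        · exact hk)
    rw [Finset.card_pair (Ne.symm hne)] at this
    omega
  refine ⟨?_, ?_⟩
  · rw [hOeq]
    ext a
    simp only [Finset.coe_image, Set.mem_image, Finset.mem_coe, SJ, Finset.mem_filter,
      Finset.mem_range, hJeq, Finset.mem_singleton, exists_eq_left, Set.mem_setOf_eq]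
  · rw [hOcard, hJeq, Finset.sum_singleton]

/-- the hypotheses of `census`, bundled -/
structure Census (G X : Type*) [Group G] [MulAction G X] (x0 : X) (N K r : ℕ)
    (f : ℕ → X) (τ : ℕ → ℕ) (ρ : Fin r → X) (n : Fin r → ℕ) : Prop where
  hN : (orbit G x0).ncard = N
  hNpos : 0 < N
  hKN : Nat.card G = K * N
  hinj : ∀ j < N, ∀ k < N, f j = f k → j = k
  hfA : ∀ j < N, f j ∈ orbit G x0
  h0 : ∃ j < N, τ j = 0
  htree : ∀ j < N, (τ j = 0 ∧ f j = x0) ∨
      ∃ i : Fin r, τ j = i + 1 ∧ f j ∈ orbit (stabilizer G x0) (ρ i)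
  hroot : ∀ i : Fin r, ∃ j < N, τ j = i + 1 ∧ f j = ρ i
  hcount : ∀ i : Fin r, ((Finset.range N).filter (fun j => τ j = i + 1)).card = n i
  hdiv : ∀ J : Finset (Fin r), 2 ≤ J.card →
      (∀ i ∈ J, ∀ k ∈ J, orbit (stabilizer G x0) (ρ i) = orbit (stabilizer G x0) (ρ k)) →
      ¬ ((∑ j ∈ J, n j) ∣ K)

namespace Census

variable {G X : Type*} [Group G] [MulAction G X] {x0 : X} {N K r : ℕ}
  {f : ℕ → X} {τ : ℕ → ℕ} {ρ : Fin r → X} {n : Fin r → ℕ}

theorem orbit_eq [Finite G] (c : Census G X x0 N K r f τ ρ n) (i : Fin r) :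
    orbit (stabilizer G x0) (ρ i) = f '' {j | j < N ∧ τ j = i + 1} :=
  (census x0 N K r f τ ρ n c.hN c.hNpos c.hKN c.hinj c.hfA c.htree c.hroot c.hcount c.hdiv i).1

theorem ncard_orbit [Finite G] (c : Census G X x0 N K r f τ ρ n) (i : Fin r) :
    (orbit (stabilizer G x0) (ρ i)).ncard = n i :=
  (census x0 N K r f τ ρ n c.hN c.hNpos c.hKN c.hinj c.hfA c.htree c.hroot c.hcount c.hdiv i).2

theorem rep_mem (c : Census G X x0 N K r f τ ρ n) (i : Fin r) : ρ i ∈ orbit G x0 := by
  obtain ⟨j, hj, -, hjρ⟩ := c.hroot i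
  exact hjρ ▸ c.hfA j hj

theorem cover [Finite G] (c : Census G X x0 N K r f τ ρ n) (y : X) (hy : y ∈ orbit G x0) :
    y = x0 ∨ ∃ i, y ∈ orbit (stabilizer G x0) (ρ i) := by
  obtain ⟨j, hj, rfl⟩ := exists_index_of_inj (orbit G x0) N c.hN (Set.finite_range _) f
    c.hfA c.hinj y hy
  rcases c.htree j hj with ⟨-, h⟩ | ⟨i, -, h⟩
  · exact Or.inl h
  · exact Or.inr ⟨i, h⟩

theorem rep_ne (c : Census G X x0 N K r f τ ρ n) (i : Fin r) : ρ i ≠ x0 := by
  intro h
  obtain ⟨j0, hj0, hτ0⟩ := c.h0
  obtain ⟨j, hj, hτ, hf⟩ := c.hroot i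
  rcases c.htree j0 hj0 with ⟨-, hx⟩ | ⟨k, hk, -⟩
  · have : j = j0 := c.hinj j hj j0 hj0 (by rw [hf, h, hx])
    rw [this, hτ0] at hτ
    omega
  · omega

theorem base_not_mem (c : Census G X x0 N K r f τ ρ n) (i : Fin r) :
    x0 ∉ orbit (stabilizer G x0) (ρ i) :=
  fun h => c.rep_ne i (orbit_stabilizer_self x0 (ρ i) h)

theorem orbit_sub (c : Census G X x0 N K r f τ ρ n) (i : Fin r) :
    orbit (stabilizer G x0) (ρ i) ⊆ orbit G x0 := by
  rintro _ ⟨h, rfl⟩
  obtain ⟨g, hg⟩ := c.rep_mem i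
  refine ⟨(h : G) * g, ?_⟩
  show ((h : G) * g) • x0 = (h : G) • ρ i
  rw [mul_smul]
  exact congrArg ((h : G) • ·) hg

theorem orbit_ne [Finite G] (c : Census G X x0 N K r f τ ρ n) {i k : Fin r} (hik : i ≠ k) :
    orbit (stabilizer G x0) (ρ i) ≠ orbit (stabilizer G x0) (ρ k) := by
  intro h
  have hmem : ρ i ∈ orbit (stabilizer G x0) (ρ k) := h ▸ mem_orbit_self (ρ i)
  rw [c.orbit_eq k] at hmem
  obtain ⟨j, ⟨hj, hτ⟩, hf⟩ := hmem
  obtain ⟨j', hj', hτ', hf'⟩ := c.hroot i
  have : j = j' := c.hinj j hj j' hj' (by rw [hf, hf'])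
  rw [this, hτ'] at hτ
  exact hik (Fin.ext (by omega))

/-- transport of a census along the action -/
theorem smul (c : Census G X x0 N K r f τ ρ n) (g : G) :
    Census G X (g • x0) N K r (fun j => g • f j) τ (fun i => g • ρ i) n where
  hN := by rw [orbit_smul]; exact c.hN
  hNpos := c.hNpos
  hKN := c.hKN
  hinj := fun j hj k hk h => c.hinj j hj k hk (smul_left_cancel g h)
  hfA := fun j hj => by
    rw [orbit_smul]
    exact mem_orbit_of_mem_orbit g (c.hfA j hj)
  h0 := c.h0
  htree := fun j hj => by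
    rcases c.htree j hj with ⟨h0, h⟩ | ⟨i, hi, h⟩
    · exact Or.inl ⟨h0, congrArg (g • ·) h⟩
    · refine Or.inr ⟨i, hi, ?_⟩
      obtain ⟨h', hh'⟩ := h
      have hh'' : (h' : G) • ρ i = f j := hh'
      have hmem : g * (h' : G) * g⁻¹ ∈ stabilizer G (g • x0) := by
        rw [mem_stabilizer_iff, mul_smul, mul_smul, inv_smul_smul]
        exact congrArg (g • ·) h'.2
      refine ⟨⟨g * (h' : G) * g⁻¹, hmem⟩, ?_⟩
      show (g * (h' : G) * g⁻¹) • g • ρ i = g • f j
      rw [mul_smul, mul_smul, inv_smul_smul, hh'']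
  hroot := fun i => by
    obtain ⟨j, hj, hτ, hf⟩ := c.hroot i
    exact ⟨j, hj, hτ, congrArg (g • ·) hf⟩
  hcount := c.hcount
  hdiv := fun J hJ hall => c.hdiv J hJ (fun i hi k hk => by
    have key : ∀ a : Fin r, orbit (stabilizer G (g • x0)) (g • ρ a) =
        (fun y => g • y) '' orbit (stabilizer G x0) (ρ a) := by
      intro a
      ext y
      constructor
      · rintro ⟨h', rfl⟩
        have hmem : g⁻¹ * (h' : G) * g ∈ stabilizer G x0 := by
          rw [mem_stabilizer_iff, mul_smul, mul_smul]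
          have := h'.2
          rw [mem_stabilizer_iff] at this
          rw [this, inv_smul_smul]
        refine ⟨(g⁻¹ * (h' : G) * g) • ρ a, ⟨⟨_, hmem⟩, rfl⟩, ?_⟩
        show g • (g⁻¹ * (h' : G) * g) • ρ a = (h' : G) • g • ρ a
        rw [mul_smul, mul_smul, smul_inv_smul]
      · rintro ⟨_, ⟨h', rfl⟩, rfl⟩
        have hmem : g * (h' : G) * g⁻¹ ∈ stabilizer G (g • x0) := by
          rw [mem_stabilizer_iff, mul_smul, mul_smul, inv_smul_smul]
          exact congrArg (g • ·) h'.2
        refine ⟨⟨g * (h' : G) * g⁻¹, hmem⟩, ?_⟩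
        show (g * (h' : G) * g⁻¹) • g • ρ a = g • (h' : G) • ρ a
        rw [mul_smul, mul_smul, inv_smul_smul]
    have h1 := hall i hi k hk
    rw [key i, key k] at h1
    exact (Set.image_injective.mpr (MulAction.injective g)) h1)

/-- maximality of the stabiliser from the class sizes of a census -/
theorem isCoatom [Finite G] (c : Census G X x0 N K r f τ ρ n) (i0 : Fin r)
    (hnum : ∀ I : Finset (Fin r), I.Nonempty → (1 + ∑ i ∈ I, n i) ∣ (1 + ∑ i, n i) →
      I = Finset.univ) :
    IsCoatom (stabilizer G x0) := by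
  classical
  let cl : X → Fin r := fun y =>
    if h : ∃ i, y ∈ orbit (stabilizer G x0) (ρ i) then h.choose else i0
  have hcl : ∀ y i, y ∈ orbit (stabilizer G x0) (ρ i) → cl y = i := by
    intro y i hy
    have hex : ∃ i, y ∈ orbit (stabilizer G x0) (ρ i) := ⟨i, hy⟩
    have h1 : cl y = hex.choose := dif_pos hex
    have h2 := hex.choose_spec
    by_contra hne
    rw [h1] at hne
    apply c.orbit_ne hne
    rw [← orbit_eq_iff.mpr h2, orbit_eq_iff.mpr hy]
  refine isCoatom_stabilizer_of_suborbits x0 cl n ?_ ?_ hnum ?_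
  · intro i
    rw [← c.ncard_orbit i]
    congr 1
    ext y
    constructor
    · rintro ⟨hy, hne, hc⟩
      rcases c.cover y hy with h | ⟨k, hk⟩
      · exact absurd h hne
      · have : cl y = k := hcl y k hk
        rw [← hc, this]
        exact hk
    · intro hy
      refine ⟨c.orbit_sub i hy, ?_, hcl y i hy⟩
      rintro rfl
      exact c.base_not_mem i hy
  · intro y z hy hz hyx hzx hc
    rcases c.cover y hy with h | ⟨k, hk⟩
    · exact absurd h hyx
    rcases c.cover z hz with h | ⟨k', hk'⟩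
    · exact absurd h hzx
    have e1 : cl y = k := hcl y k hk
    have e2 : cl z = k' := hcl z k' hk'
    have : k = k' := by rw [← e1, ← e2, hc]
    subst this
    obtain ⟨h1, rfl⟩ := hk
    obtain ⟨h2, rfl⟩ := hk'
    refine ⟨(h2 : G) * (h1 : G)⁻¹, ?_, ?_⟩
    · rw [← mem_stabilizer_iff]
      exact (stabilizer G x0).mul_mem h2.2 ((stabilizer G x0).inv_mem h1.2)
    · show ((h2 : G) * (h1 : G)⁻¹) • (h1 : G) • ρ k = (h2 : G) • ρ k
      rw [mul_smul, inv_smul_smul]
  · obtain ⟨g, hg⟩ := c.rep_mem i0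
    refine ⟨g, ?_⟩
    have hg' : g • x0 = ρ i0 := hg
    rw [hg']
    exact c.rep_ne i0

end Census

end Cfsg.Agent.H33
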