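import Cfsg.Agent.H33.Orbit
import Cfsg.Agent.H33.Census
import Cfsg.Agent.H9.M24

/-!
# Kernel-checked orbit censuses for `M24` acting on coded objects (helper33)

Objects of a type `X` (sets of points, sextets, trios, …) are coded by natural numbers
(`obj : ℕ → X`).  A certificate consists of a strictly increasing table `E` of `N` codes
(`chkSorted`), and Schreier forests on it (`chkForest`): entry `j` has a 32-bit record in `T`
(parent index, generator index, depth, tag) and is either the root of its tag class (listed in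
`R`) or the image of its parent (same tag, smaller depth) under the generator, as witnessed by
`edge`.  `cert_census` turns such data into a `Census` for the action of `M24`.
-/

set_option autoImplicit false

namespace Cfsg.Agent.H33

open Cfsg Cfsg.Agent.H9 MulAction
open scoped Pointwise

/-- the `j`-th `W`-bit field of `E` -/
def fldW (W E j : ℕ) : ℕ :=
  Nat.land (Nat.shiftRight E (Nat.mul W j)) (Nat.sub (Nat.shiftLeft 1 W) 1)

/-- the `j`-th 32-bit field -/
def fld32 (T j : ℕ) : ℕ := Nat.land (Nat.shiftRight T (Nat.mul 32 j)) 0xffffffff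

/-- the `i`-th 12-bit field -/
def fld12 (R i : ℕ) : ℕ := Nat.land (Nat.shiftRight R (Nat.mul 12 i)) 0xfff

def tPar (t : ℕ) : ℕ := Nat.land t 0xfff
def tGen (t : ℕ) : ℕ := Nat.land (Nat.shiftRight t 12) 0xf
def tDep (t : ℕ) : ℕ := Nat.land (Nat.shiftRight t 16) 0xfff
def tTag (t : ℕ) : ℕ := Nat.shiftRight t 28

theorem lt_of_blt {a b : ℕ} (h : Nat.blt a b = true) : a < b := by
  simpa [Nat.blt_eq] using h

/-- the code table is valid and strictly increasing -/
def chkSorted (valid : ℕ → Bool) (W E N : ℕ) : Bool :=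
  allB (fun j => valid (fldW W E j) &&
    (Nat.ble N (Nat.succ j) || Nat.blt (fldW W E j) (fldW W E (Nat.succ j)))) N

theorem sorted_valid {valid : ℕ → Bool} {W E N : ℕ} (h : chkSorted valid W E N = true) :
    ∀ j < N, valid (fldW W E j) = true := by
  intro j hj
  have h1 := (allB_iff _ _).mp h j hj
  simp only [Bool.and_eq_true] at h1
  exact h1.1

theorem sorted_lt {valid : ℕ → Bool} {W E N : ℕ} (h : chkSorted valid W E N = true) :
    ∀ d j, j + d + 1 < N → fldW W E j < fldW W E (j + d + 1) := by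
  have step : ∀ j, j + 1 < N → fldW W E j < fldW W E (j + 1) := by
    intro j hj
    have h1 := (allB_iff _ _).mp h j (by omega)
    simp only [Bool.and_eq_true, Bool.or_eq_true] at h1
    rcases h1.2 with h2 | h2
    · have : N ≤ j + 1 := Nat.le_of_ble_eq_true h2
      omega
    · exact lt_of_blt h2
  intro d
  induction d with
  | zero => intro j hj; exact step j hj
  | succ d ih =>
    intro j hj
    exact lt_trans (ih j (by omega)) (step (j + d + 1) (by omega))

theorem sorted_inj {valid : ℕ → Bool} {W E N : ℕ} (h : chkSorted valid W E N = true) :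
    ∀ j < N, ∀ k < N, fldW W E j = fldW W E k → j = k := by
  intro j hj k hk e
  by_contra hne
  rcases Nat.lt_or_gt_of_ne hne with hlt | hlt
  · have := sorted_lt h (k - j - 1) j (by omega)
    rw [show j + (k - j - 1) + 1 = k by omega] at this
    omega
  · have := sorted_lt h (j - k - 1) k (by omega)
    rw [show k + (j - k - 1) + 1 = j by omega] at this
    omega

/-- tagged Schreier forest check -/
def chkForest (edge : ℕ → ℕ → ℕ → Bool) (W G ng E T R N : ℕ) : Bool :=
  allB (fun j =>
    Nat.beq j (fld12 R (tTag (fld32 T j))) ||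
    (Nat.blt (tPar (fld32 T j)) N && (Nat.blt (tGen (fld32 T j)) ng &&
      (Nat.blt (tDep (fld32 T (tPar (fld32 T j)))) (tDep (fld32 T j)) &&
      (Nat.beq (tTag (fld32 T (tPar (fld32 T j)))) (tTag (fld32 T j)) &&
       edge (fldG G (tGen (fld32 T j))) (fldW W E (tPar (fld32 T j))) (fldW W E j)))))) N

theorem forest_sound {X : Type*} [MulAction (Equiv.Perm GolayPt) X]
    (S : Subgroup (Equiv.Perm GolayPt)) (obj : ℕ → X) (valid : ℕ → Bool)
    (edge : ℕ → ℕ → ℕ → Bool)
    (hedge : ∀ P g a b, Rep P g → g ∈ S → valid a = true → valid b = true →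
      edge P a b = true → g • obj a = obj b)
    (W G ng E T R N : ℕ)
    (hG : ∀ i < ng, ∃ g ∈ S, Rep (fldG G i) g)
    (hsorted : chkSorted valid W E N = true) (h : chkForest edge W G ng E T R N = true) :
    ∀ j < N, ∃ g ∈ S, g • obj (fldW W E (fld12 R (tTag (fld32 T j)))) = obj (fldW W E j) := by
  have key : ∀ d j, j < N → tDep (fld32 T j) = d →
      ∃ g ∈ S, g • obj (fldW W E (fld12 R (tTag (fld32 T j)))) = obj (fldW W E j) := by
    intro d
    induction d using Nat.strong_induction_on with
    | _ d ih =>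
      intro j hj hd
      have hc := (allB_iff _ _).mp h j hj
      simp only [Bool.or_eq_true, Bool.and_eq_true] at hc
      rcases hc with h0 | ⟨hp, hg, hdep, htag, hedg⟩
      · have e : j = fld12 R (tTag (fld32 T j)) := Nat.eq_of_beq_eq_true h0
        rw [← e]
        exact ⟨1, S.one_mem, one_smul _ _⟩
      · have hp' : tPar (fld32 T j) < N := lt_of_blt hp
        have hg' : tGen (fld32 T j) < ng := lt_of_blt hg
        have hdep' : tDep (fld32 T (tPar (fld32 T j))) < tDep (fld32 T j) :=
          lt_of_blt hdep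
        have htag' : tTag (fld32 T (tPar (fld32 T j))) = tTag (fld32 T j) :=
          Nat.eq_of_beq_eq_true htag
        obtain ⟨g₁, hg₁, e₁⟩ := ih _ (hd ▸ hdep') _ hp' rfl
        obtain ⟨g₂, hg₂, hrep⟩ := hG _ hg'
        refine ⟨g₂ * g₁, S.mul_mem hg₂ hg₁, ?_⟩
        rw [mul_smul, ← htag', e₁]
        exact hedge _ _ _ _ hrep hg₂ (sorted_valid hsorted _ hp') (sorted_valid hsorted _ hj) hedg
  intro j hj
  exact key _ j hj rfl

/-- the subgroup of `M24` fixing an object -/
def stabX {X : Type*} [MulAction (Equiv.Perm GolayPt) X] (x0 : X) :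
    Subgroup (Equiv.Perm GolayPt) := M24 ⊓ stabilizer (Equiv.Perm GolayPt) x0

/-- the packed generators lie in `M24` and fix the object coded by `c0` -/
def chkGensE (edge : ℕ → ℕ → ℕ → Bool) (c0 G GI ng : ℕ) : Bool :=
  allB (fun i => chkInv (fldG G i) (fldG GI i) && (chkM24 (fldG G i) &&
    edge (fldG G i) c0 c0)) ng

theorem gensE_sound {X : Type*} [MulAction (Equiv.Perm GolayPt) X] (obj : ℕ → X)
    (valid : ℕ → Bool) (edge : ℕ → ℕ → ℕ → Bool)
    (hedge : ∀ P g a b, Rep P g → g ∈ M24 → valid a = true → valid b = true →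
      edge P a b = true → g • obj a = obj b)
    {c0 G GI ng : ℕ} (hv : valid c0 = true) (h : chkGensE edge c0 G GI ng = true) :
    ∀ i < ng, ∃ g ∈ stabX (obj c0), Rep (fldG G i) g := by
  intro i hi
  have h1 := (allB_iff _ _).mp h i hi
  simp only [Bool.and_eq_true] at h1
  obtain ⟨a, b, c⟩ := h1
  have hm := permOf_mem_M24 _ _ a b
  exact ⟨permOf _ _ a, ⟨hm, hedge _ _ _ _ (rep_permOf _ _ a) hm hv hv c⟩, rep_permOf _ _ a⟩

theorem gensM_sound {G GI ng : ℕ} (h : chkGens G GI ng [] = true) :
    ∀ i < ng, ∃ g ∈ M24, Rep (fldG G i) g := by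
  intro i hi
  obtain ⟨g, hg, hr⟩ := gens_sound h i hi
  exact ⟨g, hg.1, hr⟩

/-- all records of `T` have tag `0` -/
def chkTag0 (T N : ℕ) : Bool := allB (fun j => Nat.beq (tTag (fld32 T j)) 0) N

/-- all tags are at most `r`, and the roots `0..r` are in range and carry their own tag -/
def chkTags (T R N r : ℕ) : Bool :=
  allB (fun j => Nat.ble (tTag (fld32 T j)) r) N &&
  allB (fun i => Nat.blt (fld12 R i) N && Nat.beq (tTag (fld32 T (fld12 R i))) i) (Nat.succ r)

theorem cert_census {X : Type*} [MulAction (Equiv.Perm GolayPt) X] [MulAction ↥M24 X]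
    (hact : ∀ (g : ↥M24) (x : X), g • x = (g : Equiv.Perm GolayPt) • x)
    (obj : ℕ → X) (valid : ℕ → Bool) (edge : ℕ → ℕ → ℕ → Bool)
    (hedge : ∀ P g a b, Rep P g → g ∈ M24 → valid a = true → valid b = true →
      edge P a b = true → g • obj a = obj b)
    (hobj : ∀ a b, valid a = true → valid b = true → obj a = obj b → a = b)
    (A : Set X) (hAinv : ∀ g ∈ M24, ∀ a ∈ A, g • a ∈ A)
    (W N K r E : ℕ) (n : Fin r → ℕ)
    (hA : A.ncard = N) (hNpos : 0 < N) (hKN : 244823040 = K * N)
    (GG GGI ngG TG RG : ℕ) (hGG : chkGens GG GGI ngG [] = true)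
    (hsorted : chkSorted valid W E N = true)
    (hforG : chkForest edge W GG ngG E TG RG N = true)
    (htagG : chkTag0 TG N = true)
    (hx0 : obj (fldW W E (fld12 RG 0)) ∈ A)
    (GH GHI ngH TH RH : ℕ)
    (hGH : chkGensE edge (fldW W E (fld12 RG 0)) GH GHI ngH = true)
    (hforH : chkForest edge W GH ngH E TH RH N = true)
    (htagH : chkTags TH RH N r = true)
    (hR0 : fld12 RH 0 = fld12 RG 0)
    (hcount : ∀ i : Fin r, countB (fun j => Nat.beq (tTag (fld32 TH j)) (Nat.succ i)) N = n i)
    (hdiv : ∀ J : Finset (Fin r), 2 ≤ J.card →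
      (∀ i ∈ J, ∀ k ∈ J, orbit (stabilizer ↥M24 (obj (fldW W E (fld12 RG 0))))
          (obj (fldW W E (fld12 RH (i + 1)))) =
        orbit (stabilizer ↥M24 (obj (fldW W E (fld12 RG 0))))
          (obj (fldW W E (fld12 RH (k + 1))))) →
      ¬ ((∑ j ∈ J, n j) ∣ K)) :
    A = orbit ↥M24 (obj (fldW W E (fld12 RG 0))) ∧
    Census ↥M24 X (obj (fldW W E (fld12 RG 0))) N K r (fun j => obj (fldW W E j))
      (fun j => tTag (fld32 TH j)) (fun i => obj (fldW W E (fld12 RH (i + 1)))) n := by
  classical
  set x0 := obj (fldW W E (fld12 RG 0)) with hx0def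
  have hAfin : A.Finite := Set.finite_of_ncard_pos (by rw [hA]; exact hNpos)
  have htags := htagH
  unfold chkTags at htags
  rw [Bool.and_eq_true, allB_iff, allB_iff] at htags
  obtain ⟨htr, hroots⟩ := htags
  have hroots' : ∀ i < r + 1, fld12 RH i < N ∧ tTag (fld32 TH (fld12 RH i)) = i := by
    intro i hi
    have := hroots i hi
    rw [Bool.and_eq_true] at this
    exact ⟨lt_of_blt this.1, Nat.eq_of_beq_eq_true this.2⟩
  have hbN : fld12 RG 0 < N := hR0 ▸ (hroots' 0 (by omega)).1
  have hvb : valid (fldW W E (fld12 RG 0)) = true := sorted_valid hsorted _ hbN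
  -- G-level forest
  have hfG : ∀ j < N, obj (fldW W E j) ∈ orbit ↥M24 x0 := by
    intro j hj
    obtain ⟨g, hg, e⟩ := forest_sound M24 obj valid edge hedge W GG ngG E TG RG N
      (gensM_sound hGG) hsorted hforG j hj
    have ht : tTag (fld32 TG j) = 0 := Nat.eq_of_beq_eq_true ((allB_iff _ _).mp htagG j hj)
    rw [ht] at e
    exact ⟨⟨g, hg⟩, (hact ⟨g, hg⟩ x0).trans e⟩
  have hinj : ∀ j < N, ∀ k < N, obj (fldW W E j) = obj (fldW W E k) → j = k := by
    intro j hj k hk e
    exact sorted_inj hsorted j hj k hk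
      (hobj _ _ (sorted_valid hsorted j hj) (sorted_valid hsorted k hk) e)
  have horbA : orbit ↥M24 x0 ⊆ A := by
    rintro _ ⟨g, rfl⟩
    show g • x0 ∈ A
    rw [hact]
    exact hAinv _ g.2 _ hx0
  have hAorb : A = orbit ↥M24 x0 := by
    apply Set.Subset.antisymm _ horbA
    intro a ha
    obtain ⟨j, hj, rfl⟩ := exists_index_of_inj A N hA hAfin (fun j => obj (fldW W E j))
      (fun j hj => horbA (hfG j hj)) hinj a ha
    exact hfG j hj
  refine ⟨hAorb, ?_⟩
  -- H-level forest
  have hfH : ∀ j < N, ∃ g : ↥M24, g • x0 = x0 ∧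
      g • obj (fldW W E (fld12 RH (tTag (fld32 TH j)))) = obj (fldW W E j) := by
    intro j hj
    obtain ⟨g, hg, e⟩ := forest_sound (stabX x0) obj valid edge
      (fun P g a b hr hgS => hedge P g a b hr hgS.1) W GH ngH E TH RH N
      (gensE_sound obj valid edge hedge hvb hGH) hsorted hforH j hj
    exact ⟨⟨g, hg.1⟩, (hact _ _).trans hg.2, (hact _ _).trans e⟩
  exact {
    hN := by rw [← hAorb]; exact hA
    hNpos := hNpos
    hKN := by rw [card_M24]; exact hKN
    hinj := hinj
    hfA := hfG
    h0 := ⟨fld12 RH 0, (hroots' 0 (by omega)).1, (hroots' 0 (by omega)).2⟩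
    htree := by
      intro j hj
      obtain ⟨g, hg0, e⟩ := hfH j hj
      by_cases ht : tTag (fld32 TH j) = 0
      · left
        refine ⟨ht, ?_⟩
        rw [ht, hR0] at e
        rw [← e]
        exact hg0
      · right
        have hle : tTag (fld32 TH j) ≤ r := Nat.le_of_ble_eq_true (htr j hj)
        refine ⟨⟨tTag (fld32 TH j) - 1, by omega⟩, ?_, ?_⟩
        · show tTag (fld32 TH j) = tTag (fld32 TH j) - 1 + 1
          omega
        · refine ⟨⟨g, hg0⟩, ?_⟩
          show g • obj (fldW W E (fld12 RH (tTag (fld32 TH j) - 1 + 1))) = obj (fldW W E j)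
          rw [show tTag (fld32 TH j) - 1 + 1 = tTag (fld32 TH j) by omega]
          exact e
    hroot := by
      intro i
      have := hroots' (i + 1) (by omega)
      exact ⟨fld12 RH (i + 1), this.1, this.2, rfl⟩
    hcount := by
      intro i
      rw [← hcount i, countB_eq]
      congr 1
      apply Finset.filter_congr
      intro j _
      constructor
      · intro h
        rw [h]
        exact Nat.beq_refl _
      · intro h
        exact Nat.eq_of_beq_eq_true h
    hdiv := hdiv }

end Cfsg.Agent.H33
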