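import Cfsg.Agent.H33.LPath
import Cfsg.Agent.H33.Cert

/-!
# Words in monomial maps and the sextet map, and Schreier forests of packed vectors (helper33)

A letter `(Q, c)` is the sextet map if `Q = 0` and otherwise the coordinate permutation packed in
`Q` followed by the sign change on the mask `c`.  A word acts on packed vectors by `runW`, with side
conditions `runOK`; a word passing `wordG` is realised by an automorphism of the lattice
(`word_elt`).  `chkVForest` checks a Schreier forest: a sorted table `E` of packed vectors, each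
being the root `W0` or the image of an earlier entry (smaller depth) under one of the words
`gens`; if the words fix `vec A` then every entry of the table is the image of `vec W0` under an
automorphism fixing `vec A` (`vforest_sound`).  With an upper bound for the size of an invariant set
containing `vec W0` this gives transitivity of the stabiliser of `vec A` on the set (`forest_trans`).
-/

set_option autoImplicit false

namespace Cfsg.Agent.H33

open Cfsg Cfsg.Agent.H9 Cfsg.Agent.H93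

/-- apply a letter -/
def applyL (l : ℕ × ℕ) (P : ℕ) : ℕ := bif Nat.beq l.1 0 then xiV P else sgV l.2 (pmV l.1 P)

/-- side condition for applying a letter -/
def okL (l : ℕ × ℕ) (P : ℕ) : Bool := bif Nat.beq l.1 0 then xiOK P else posV (pmV l.1 P)

/-- the letter is the sextet map or a valid monomial map -/
def letterG (l : ℕ × ℕ) : Bool := Nat.beq l.1 0 || (validP l.1 && (chkM24 l.1 && isGolay l.2))

theorem letter_elt (l : ℕ × ℕ) (h : letterG l = true) :
    ∃ g ∈ Co0, ∀ P, okL l P = true → ∀ hP : vec P ∈ leechLattice,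
      ((g ⟨vec P, hP⟩ : leechLattice) : GolayPt → ℤ) = vec (applyL l P) := by
  obtain ⟨Q, c⟩ := l
  unfold letterG at h
  cases hb : Nat.beq Q 0
  · simp only [hb, Bool.false_or, Bool.and_eq_true] at h
    obtain ⟨h1, h2, h3⟩ := h
    obtain ⟨σ, hσ⟩ := exists_rep h1
    have hσM := mem_M24_of_chk hσ h2
    have hc := fs_mem_of_isGolay h3
    refine ⟨sgPerm (fs c) hc * pmPerm σ hσM, mul_mem (sgPerm_mem _ _) (pmPerm_mem _ _), ?_⟩
    intro P hok hP
    simp only [okL, applyL, hb, cond_false] at hok ⊢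
    rw [vec_sgV c hok, vec_pmV hσ]
    rfl
  · refine ⟨xiPerm, xiPerm_mem, ?_⟩
    intro P hok hP
    simp only [okL, applyL, hb, cond_true] at hok ⊢
    exact xiPerm_vec hok hP

/-- apply a word (the first letter first) -/
def runW : List (ℕ × ℕ) → ℕ → ℕ
  | [], P => P
  | l :: w, P => runW w (applyL l P)

/-- the side conditions along a word -/
def runOK : List (ℕ × ℕ) → ℕ → Bool
  | [], _ => true
  | l :: w, P => okL l P && runOK w (applyL l P)

/-- all letters of the word are valid -/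
def wordG : List (ℕ × ℕ) → Bool
  | [] => true
  | l :: w => letterG l && wordG w

theorem word_elt : ∀ (w : List (ℕ × ℕ)), wordG w = true →
    ∃ g ∈ Co0, ∀ P, runOK w P = true → ∀ hP : vec P ∈ leechLattice,
      ((g ⟨vec P, hP⟩ : leechLattice) : GolayPt → ℤ) = vec (runW w P)
  | [], _ => ⟨1, one_mem _, fun _ _ _ => rfl⟩
  | l :: w, h => by
    simp only [wordG, Bool.and_eq_true] at h
    obtain ⟨g1, hg1, e1⟩ := letter_elt l h.1
    obtain ⟨g2, hg2, e2⟩ := word_elt w h.2
    refine ⟨g2 * g1, mul_mem hg2 hg1, ?_⟩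
    intro P hok hP
    simp only [runOK, Bool.and_eq_true] at hok
    have h1 := e1 P hok.1 hP
    have hP' : vec (applyL l P) ∈ leechLattice := by
      rw [← h1]; exact (g1 ⟨vec P, hP⟩).2
    have h2 := e2 (applyL l P) hok.2 hP'
    show ((g2 (g1 ⟨vec P, hP⟩) : leechLattice) : GolayPt → ℤ) = vec (runW w (applyL l P))
    have e : g1 ⟨vec P, hP⟩ = ⟨vec (applyL l P), hP'⟩ := Subtype.ext h1
    rw [e]
    exact h2

/-- the word is valid and fixes the packed vector `A` -/
def genOK (A : ℕ) (w : List (ℕ × ℕ)) : Bool := wordG w && (runOK w A && Nat.beq (runW w A) A)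

theorem genOK_nil (A : ℕ) : genOK A [] = true := by
  simp [genOK, wordG, runOK, runW]

theorem gen_elt {A : ℕ} (hA : vec A ∈ leechLattice) {w : List (ℕ × ℕ)} (h : genOK A w = true) :
    ∃ g ∈ Co0, g ⟨vec A, hA⟩ = ⟨vec A, hA⟩ ∧ ∀ P, runOK w P = true → ∀ hP : vec P ∈ leechLattice,
      ((g ⟨vec P, hP⟩ : leechLattice) : GolayPt → ℤ) = vec (runW w P) := by
  unfold genOK at h
  simp only [Bool.and_eq_true] at h
  obtain ⟨h1, h2, h3⟩ := h
  obtain ⟨g, hg, e⟩ := word_elt w h1
  refine ⟨g, hg, Subtype.ext ?_, e⟩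
  rw [e A h2 hA, Nat.eq_of_beq_eq_true h3]

theorem getD_genOK (A : ℕ) (gens : List (List (ℕ × ℕ))) (h : gens.all (genOK A) = true) (i : ℕ) :
    genOK A (gens.getD i []) = true := by
  by_cases hi : i < gens.length
  · rw [List.getD_eq_getElem _ _ hi]
    exact List.all_eq_true.mp h _ (List.getElem_mem hi)
  · rw [List.getD_eq_default _ _ (by omega)]
    exact genOK_nil A

/-! ## Forests -/

def vPar (t : ℕ) : ℕ := Nat.land t 0xfffff
def vGen (t : ℕ) : ℕ := Nat.land (Nat.shiftRight t 20) 0xf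
def vDep (t : ℕ) : ℕ := Nat.shiftRight t 24

/-- Schreier forest check: entry `j` of `E` (192-bit fields) is the root `W0` (depth 0) or the
image of its parent (smaller depth) under the word with the recorded index -/
def chkVForest (gens : List (List (ℕ × ℕ))) (W0 E T N : ℕ) : Bool :=
  allB (fun j =>
    (Nat.beq (vDep (fldW 64 T j)) 0 && Nat.beq (fldW 192 E j) W0) ||
    (Nat.blt (vPar (fldW 64 T j)) N &&
      (Nat.blt (vDep (fldW 64 T (vPar (fldW 64 T j)))) (vDep (fldW 64 T j)) &&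
      (runOK (gens.getD (vGen (fldW 64 T j)) []) (fldW 192 E (vPar (fldW 64 T j))) &&
       Nat.beq (runW (gens.getD (vGen (fldW 64 T j)) []) (fldW 192 E (vPar (fldW 64 T j))))
         (fldW 192 E j))))) N

theorem vforest_sound {A W0 : ℕ} (hA : vec A ∈ leechLattice) (hW0 : vec W0 ∈ leechLattice)
    {gens : List (List (ℕ × ℕ))} (hgens : gens.all (genOK A) = true) {E T N : ℕ}
    (h : chkVForest gens W0 E T N = true) :
    ∀ j < N, ∃ g ∈ Co0, g ⟨vec A, hA⟩ = ⟨vec A, hA⟩ ∧
      ((g ⟨vec W0, hW0⟩ : leechLattice) : GolayPt → ℤ) = vec (fldW 192 E j) := by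
  have key : ∀ d j, j < N → vDep (fldW 64 T j) = d → ∃ g ∈ Co0, g ⟨vec A, hA⟩ = ⟨vec A, hA⟩ ∧
      ((g ⟨vec W0, hW0⟩ : leechLattice) : GolayPt → ℤ) = vec (fldW 192 E j) := by
    intro d
    induction d using Nat.strong_induction_on with
    | _ d ih =>
      intro j hj hd
      have hc := (allB_iff _ _).mp h j hj
      simp only [Bool.or_eq_true, Bool.and_eq_true] at hc
      rcases hc with ⟨-, h0⟩ | ⟨hp, hdep, hok, hrun⟩
      · refine ⟨1, one_mem _, rfl, ?_⟩
        rw [Nat.eq_of_beq_eq_true h0]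
        rfl
      · have hp' : vPar (fldW 64 T j) < N := lt_of_blt hp
        have hdep' : vDep (fldW 64 T (vPar (fldW 64 T j))) < vDep (fldW 64 T j) := lt_of_blt hdep
        obtain ⟨g1, hg1, ea1, e1⟩ := ih _ (hd ▸ hdep') _ hp' rfl
        obtain ⟨g2, hg2, ea2, e2⟩ := gen_elt hA (getD_genOK A gens hgens (vGen (fldW 64 T j)))
        have hP' : vec (fldW 192 E (vPar (fldW 64 T j))) ∈ leechLattice := by
          rw [← e1]; exact (g1 ⟨vec W0, hW0⟩).2
        refine ⟨g2 * g1, mul_mem hg2 hg1, ?_, ?_⟩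
        · show g2 (g1 ⟨vec A, hA⟩) = ⟨vec A, hA⟩
          rw [ea1, ea2]
        · show ((g2 (g1 ⟨vec W0, hW0⟩) : leechLattice) : GolayPt → ℤ) = _
          have e : g1 ⟨vec W0, hW0⟩ = ⟨vec (fldW 192 E (vPar (fldW 64 T j))), hP'⟩ :=
            Subtype.ext e1
          rw [e, e2 _ hok hP', Nat.eq_of_beq_eq_true hrun]
  intro j hj
  exact key _ j hj rfl

/-! ## Injectivity of the coding -/

theorem f8_testBit (P i b : ℕ) (hb : b < 8) : (f8 P i).testBit b = P.testBit (8 * i + b) := by
  rw [f8_eq, show (256 : ℕ) = 2 ^ 8 by norm_num, Nat.testBit_mod_two_pow, Nat.testBit_div_two_pow]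
  simp [hb, Nat.add_comm]

theorem eq_of_vec_eq {P P' : ℕ} (hP : P < 2 ^ 192) (hP' : P' < 2 ^ 192) (h : vec P = vec P') :
    P = P' := by
  have hf : ∀ i < 24, f8 P i = f8 P' i := by
    intro i hi
    have := congrFun h (gPt i)
    rw [vec_gPt P hi, vec_gPt P' hi] at this
    omega
  apply Nat.eq_of_testBit_eq
  intro k
  by_cases hk : k < 192
  · have e : k = 8 * (k / 8) + k % 8 := by omega
    rw [e, ← f8_testBit P (k / 8) (k % 8) (by omega), ← f8_testBit P' (k / 8) (k % 8) (by omega),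
      hf (k / 8) (by omega)]
  · have h1 : P < 2 ^ k := lt_of_lt_of_le hP (Nat.pow_le_pow_right (by norm_num) (by omega))
    have h2 : P' < 2 ^ k := lt_of_lt_of_le hP' (Nat.pow_le_pow_right (by norm_num) (by omega))
    rw [Nat.testBit_lt_two_pow h1, Nat.testBit_lt_two_pow h2]

theorem fldW_lt (W E j : ℕ) : fldW W E j < 2 ^ W := by
  unfold fldW
  have e : Nat.sub (Nat.shiftLeft 1 W) 1 = 2 ^ W - 1 := by
    show 1 <<< W - 1 = 2 ^ W - 1
    rw [Nat.one_shiftLeft]
  rw [e]
  have h2 : Nat.land (Nat.shiftRight E (Nat.mul W j)) (2 ^ W - 1)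
      = Nat.shiftRight E (Nat.mul W j) % 2 ^ W := Nat.and_two_pow_sub_one_eq_mod _ W
  rw [h2]
  exact Nat.mod_lt _ (by positivity)

/-- transitivity of the stabiliser of `vec A` on an invariant set with at most `N` elements,
from a forest with `N` entries -/
theorem forest_trans {A W0 : ℕ} (hA : vec A ∈ leechLattice) (hW0 : vec W0 ∈ leechLattice)
    {gens : List (List (ℕ × ℕ))} (hgens : gens.all (genOK A) = true) {E T N : ℕ}
    (hsorted : chkSorted (fun _ => true) 192 E N = true)
    (hforest : chkVForest gens W0 E T N = true)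
    (X : Set leechLattice) (hXfin : X.Finite) (hXN : X.ncard ≤ N)
    (hw0 : (⟨vec W0, hW0⟩ : leechLattice) ∈ X)
    (hinv : ∀ g ∈ Co0, g ⟨vec A, hA⟩ = ⟨vec A, hA⟩ → ∀ x ∈ X, g x ∈ X) :
    (∀ x ∈ X, ∃ g ∈ Co0, g ⟨vec A, hA⟩ = ⟨vec A, hA⟩ ∧ g ⟨vec W0, hW0⟩ = x) ∧ X.ncard = N ∧
      ∀ x ∈ X, ∃ j < N, (x : GolayPt → ℤ) = vec (fldW 192 E j) := by
  classical
  have hs := vforest_sound hA hW0 hgens hforest
  have hmem : ∀ j, j < N → vec (fldW 192 E j) ∈ leechLattice := by
    intro j hj
    obtain ⟨g, -, -, e⟩ := hs j hj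
    rw [← e]; exact (g ⟨vec W0, hW0⟩).2
  obtain ⟨f, hf⟩ : ∃ f : Fin N → leechLattice, ∀ j : Fin N,
      (f j : GolayPt → ℤ) = vec (fldW 192 E j) :=
    ⟨fun j => ⟨vec (fldW 192 E j), hmem j j.2⟩, fun _ => rfl⟩
  have hfinj : Function.Injective f := by
    intro j k hjk
    have e1 : vec (fldW 192 E j) = vec (fldW 192 E k) := by rw [← hf j, ← hf k, hjk]
    have e2 := eq_of_vec_eq (fldW_lt 192 E j) (fldW_lt 192 E k) e1
    exact Fin.ext (sorted_inj hsorted j j.2 k k.2 e2)
  have hfX : ∀ j, f j ∈ X := by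
    intro j
    obtain ⟨g, hg, ea, e⟩ := hs j j.2
    have : f j = g ⟨vec W0, hW0⟩ := Subtype.ext (by rw [hf j, e])
    rw [this]
    exact hinv g hg ea _ hw0
  have hrange : Set.range f ⊆ X := by
    rintro _ ⟨j, rfl⟩
    exact hfX j
  have hcard : (Set.range f).ncard = N := by
    rw [Set.ncard_range_of_injective hfinj, Nat.card_eq_fintype_card, Fintype.card_fin]
  have heq : Set.range f = X :=
    Set.eq_of_subset_of_ncard_le hrange (by rw [hcard]; exact hXN) hXfin
  refine ⟨?_, ?_, ?_⟩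
  · intro x hx
    rw [← heq] at hx
    obtain ⟨j, rfl⟩ := hx
    obtain ⟨g, hg, ea, e⟩ := hs j j.2
    exact ⟨g, hg, ea, Subtype.ext (by rw [hf j, e])⟩
  · rw [← heq, hcard]
  · intro x hx
    rw [← heq] at hx
    obtain ⟨j, rfl⟩ := hx
    exact ⟨j, j.2, hf j⟩

end Cfsg.Agent.H33
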