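import Mathlib
import Cfsg.Agent.H33.LWord
import Cfsg.Agent.H33.LCountSets

/-!
Inner products of packed vectors, the lower bound given by a forest, and the transport of the
transitivity of a vector stabiliser along the transitivity on a shell.
-/

set_option autoImplicit false

namespace Cfsg.Agent.H33

open Cfsg Cfsg.Agent.H9 Cfsg.Agent.H93

/-- `(f - 128) * (g - 128) + 16384` for two fields -/
def dot8 (f g : ℕ) : ℕ := Nat.sub (Nat.add (Nat.mul f g) 32768) (Nat.mul 128 (Nat.add f g))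

theorem dot8_cast (f g : ℕ) (hf : f < 256) (hg : g < 256) :
    ((dot8 f g : ℕ) : ℤ) = ((f : ℤ) - 128) * ((g : ℤ) - 128) + 16384 := by
  have h : 128 * (f + g) ≤ f * g + 32768 := by
    have hf' : (0 : ℤ) ≤ 256 - (f : ℤ) := by omega
    have hg' : (0 : ℤ) ≤ 256 - (g : ℤ) := by omega
    have h1 := mul_nonneg hf' hg'
    have h2 : (0 : ℤ) ≤ (f : ℤ) * (g : ℤ) := by positivity
    have : (128 * ((f : ℤ) + g)) ≤ f * g + 32768 := by nlinarith
    exact_mod_cast this
  show ((f * g + 32768 - 128 * (f + g) : ℕ) : ℤ) = _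
  rw [Nat.cast_sub h]
  push_cast
  ring

/-- the inner product of two coded vectors, shifted by `24 * 16384` -/
def dotV (P R : ℕ) : ℕ := sumF (fun i => dot8 (f8 P i) (f8 R i)) 24

theorem dotInt_vec (P R : ℕ) : dotInt (vec P) (vec R) = (dotV P R : ℤ) - 393216 := by
  unfold dotInt dotV
  rw [sumF_eq]
  have e1 : ∑ p : GolayPt, vec P p * vec R p
      = ∑ i ∈ Finset.range 24, ((f8 P i : ℤ) - 128) * ((f8 R i : ℤ) - 128) :=
    sum_gIdx (fun i => ((f8 P i : ℤ) - 128) * ((f8 R i : ℤ) - 128))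
  rw [e1]
  push_cast
  rw [Finset.sum_congr rfl (fun i _ => dot8_cast _ _ (f8_lt P i) (f8_lt R i)),
    Finset.sum_add_distrib]
  simp

/-- A forest gives at least as many vectors as it has nodes. -/
theorem forest_lower {A W0 : ℕ} (hA : vec A ∈ leechLattice) (hW0 : vec W0 ∈ leechLattice)
    {gens : List (List (ℕ × ℕ))} (hgens : gens.all (genOK A) = true) {E T N : ℕ}
    (hsorted : chkSorted (fun _ => true) 192 E N = true)
    (hforest : chkVForest gens W0 E T N = true)
    (X : Set leechLattice) (hXfin : X.Finite)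
    (hw0 : (⟨vec W0, hW0⟩ : leechLattice) ∈ X)
    (hinv : ∀ g ∈ Co0, g ⟨vec A, hA⟩ = ⟨vec A, hA⟩ → ∀ x ∈ X, g x ∈ X) :
    N ≤ X.ncard := by
  classical
  have hs := vforest_sound hA hW0 hgens hforest
  have hmem : ∀ j, j < N → vec (fldW 192 E j) ∈ leechLattice := by
    intro j hj
    obtain ⟨g, -, -, e⟩ := hs j hj
    rw [← e]; exact (g ⟨vec W0, hW0⟩).2
  obtain ⟨f, hf⟩ : ∃ f : Fin N → leechLattice, ∀ j : Fin N,
      (f j : GolayPt → ℤ) = vec (fldW 192 E j) :=
    ⟨fun j => ⟨vec (fldW 192 E j), hmem j j.2⟩, fun _ => rfl⟩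
  have hfinj : Function.Injective f := by
    intro j k hjk
    have e1 : vec (fldW 192 E j) = vec (fldW 192 E k) := by rw [← hf j, ← hf k, hjk]
    have e2 := eq_of_vec_eq (fldW_lt 192 E j) (fldW_lt 192 E k) e1
    exact Fin.ext (sorted_inj hsorted j j.2 k k.2 e2)
  have hfX : ∀ j, f j ∈ X := by
    intro j
    obtain ⟨g, hg, ea, e⟩ := hs j j.2
    have : f j = g ⟨vec W0, hW0⟩ := Subtype.ext (by rw [hf j, e])
    rw [this]
    exact hinv g hg ea _ hw0
  have hrange : Set.range f ⊆ X := by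
    rintro _ ⟨j, rfl⟩
    exact hfX j
  have hcard : (Set.range f).ncard = N := by
    rw [Set.ncard_range_of_injective hfinj, Nat.card_eq_fintype_card, Fintype.card_fin]
  rw [← hcard]
  exact Set.ncard_le_ncard hrange hXfin

/-- Transport of the transitivity of a vector stabiliser. -/
theorem pair_trans_transport {X : leechLattice → Set leechLattice}
    (hX : ∀ g ∈ Co0, ∀ (u x : leechLattice), x ∈ X u → g x ∈ X (g u))
    {a w0 : leechLattice}
    (hstab : ∀ x ∈ X a, ∃ g ∈ Co0, g a = a ∧ g w0 = x)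
    {u : leechLattice} (hua : ∃ h ∈ Co0, h u = a) {v v' : leechLattice} (hv : v ∈ X u)
    (hv' : v' ∈ X u) : ∃ g ∈ Co0, g u = u ∧ g v = v' := by
  obtain ⟨h, hh, e⟩ := hua
  have h1 : h v ∈ X a := e ▸ hX h hh u v hv
  have h2 : h v' ∈ X a := e ▸ hX h hh u v' hv'
  obtain ⟨g1, hg1, ea1, e1⟩ := hstab _ h1
  obtain ⟨g2, hg2, ea2, e2⟩ := hstab _ h2
  have ea1' : g1⁻¹ a = a := by rw [Equiv.Perm.inv_eq_iff_eq]; exact ea1.symm
  have e1' : g1⁻¹ (h v) = w0 := by rw [Equiv.Perm.inv_eq_iff_eq]; exact e1.symm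
  have eu : h⁻¹ a = u := by rw [Equiv.Perm.inv_eq_iff_eq]; exact e.symm
  refine ⟨h⁻¹ * g2 * g1⁻¹ * h, mul_mem (mul_mem (mul_mem (inv_mem hh) hg2) (inv_mem hg1)) hh,
    ?_, ?_⟩
  · simp only [Equiv.Perm.mul_apply]
    rw [e, ea1', ea2, eu]
  · simp only [Equiv.Perm.mul_apply]
    rw [e1', e2]
    simp

/-- The automorphism group preserves inner products with a fixed pair. -/
theorem co0_dot {g : Equiv.Perm leechLattice} (hg : g ∈ Co0) (u x : leechLattice) :
    dotInt ((g u : leechLattice) : GolayPt → ℤ) ((g x : leechLattice) : GolayPt → ℤ)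
      = dotInt (u : GolayPt → ℤ) (x : GolayPt → ℤ) := dot_preserved hg u x

end Cfsg.Agent.H33
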