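import Mathlib
import Cfsg.Agent.H33.LWord2
import Cfsg.Agent.H33.LF2048

/-!
The census for a vector of the second shell: at most 11178 minimal vectors have inner
product `-16` with it.
-/

set_option autoImplicit false
set_option maxRecDepth 100000

namespace Cfsg.Agent.H33

open Cfsg Cfsg.Agent.H9 Cfsg.Agent.H93

theorem finite_sub (P : (GolayPt → ℤ) → Prop) :
    {x : leechLattice | sqNorm (x : GolayPt → ℤ) = 32 ∧ P x}.Finite := by
  apply Set.Finite.subset ((V 32).finite_toSet.preimage Subtype.val_injective.injOn)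
  intro x hx
  exact (mem_V (by norm_num)).mpr ⟨x.2, by exact_mod_cast hx.1⟩

theorem LF2048A_sq : sqV LF2048A = 64 := by decide +kernel

theorem LF2048W_sq : sqV LF2048W = 32 := by decide +kernel

theorem LF2048_dot : dotV LF2048A LF2048W = 393240 := by decide +kernel

theorem LF2048A_mem_V : vec LF2048A ∈ V 64 :=
  (mem_V (by norm_num)).mpr ⟨LF2048A_mem, by rw [sqNorm_vec, LF2048A_sq]⟩

theorem cnt_2048 : 2048 ≤ cnt 32 (vec LF2048A) 24 := by
  rw [← ncard_sub_dot]
  apply forest_lower LF2048A_mem LF2048W_mem LF2048_gens LF2048_sorted LF2048_forest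
  · exact finite_sub (fun w => dotInt (vec LF2048A) w = 24)
  · refine ⟨?_, ?_⟩
    · show sqNorm (vec LF2048W) = 32
      rw [sqNorm_vec, LF2048W_sq]; rfl
    · show dotInt (vec LF2048A) (vec LF2048W) = 24
      rw [dotInt_vec, LF2048_dot]; rfl
  · intro g hg ea x hx
    refine ⟨by rw [hg.2]; exact hx.1, ?_⟩
    have h := co0_dot hg ⟨vec LF2048A, LF2048A_mem⟩ x
    rw [ea] at h
    rw [h]; exact hx.2

theorem cnt48_16_le {u : GolayPt → ℤ} (hu : u ∈ V 48) : cnt 32 u (-16) ≤ 11178 := by
  have h32 : (32 : ℕ) ≤ 64 := by norm_num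
  have h48 : (48 : ℕ) ≤ 64 := by norm_num
  have hu' := (mem_V h48).mp hu
  have hs := cnt_shift (A := 48) (B := 64) h48 (le_refl _) (-8) (by norm_num)
  rw [sum_cnt48 h32 hu, sum_cnt64 h32 LF2048A_mem_V] at hs
  have h24 : (-8 : ℤ) + 32 = 24 := by norm_num
  rw [h24] at hs
  have h2048 := cnt_2048
  have e8 : 48600 ≤ cnt 32 u (-8) := by
    generalize cnt 32 (vec LF2048A) 24 = f3 at hs h2048
    generalize cnt 32 u (-8) = e8 at hs
    omega
  clear hs h2048
  have hm := cnt_moment u _ (fun w hw => dot_vals_48 hu hw)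
  rw [second_moment_32, hu'.2] at hm
  have e1 : cnt 32 u 24 = 552 := cnt48_24 hu
  have e2 : cnt 32 u (-24) = 552 := by rw [cnt_neg h32]; exact e1
  have e3 : cnt 32 u 8 = cnt 32 u (-8) := (cnt_neg h32 u 8).symm
  have e4 : cnt 32 u 16 = cnt 32 u (-16) := (cnt_neg h32 u 16).symm
  rw [Finset.sum_insert (by decide), Finset.sum_insert (by decide), Finset.sum_insert (by decide),
    Finset.sum_insert (by decide), Finset.sum_insert (by decide), Finset.sum_insert (by decide),
    Finset.sum_singleton] at hm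
  rw [e1, e2, e3, e4] at hm
  push_cast at hm
  generalize cnt 32 u (-8) = a8 at hm e8
  generalize cnt 32 u (-16) = a16 at hm
  generalize cnt 32 u 0 = a0 at hm
  omega

end Cfsg.Agent.H33
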