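import Mathlib
import Cfsg.Agent.H33.LCount2

/-!
Stabilisers of several vectors: sets of minimal vectors cut out by inner products against a
list of lattice vectors, their transport along automorphisms, and forests of words fixing
several packed vectors.
-/

set_option autoImplicit false

namespace Cfsg.Agent.H33

open Cfsg Cfsg.Agent.H9 Cfsg.Agent.H93

/-! ### Constraint sets -/

/-- The minimal vectors with prescribed inner products against the vectors of a list. -/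
def XD (cs : List (leechLattice × ℤ)) : Set leechLattice :=
  {x | sqNorm (x : GolayPt → ℤ) = 32 ∧
    ∀ c ∈ cs, dotInt ((c.1 : leechLattice) : GolayPt → ℤ) (x : GolayPt → ℤ) = c.2}

/-- `g` fixes the vectors of the list. -/
def FixS (g : Equiv.Perm leechLattice) (cs : List (leechLattice × ℤ)) : Prop :=
  ∀ c ∈ cs, g c.1 = c.1

/-- The image of a constraint list. -/
def actC (g : Equiv.Perm leechLattice) (cs : List (leechLattice × ℤ)) :
    List (leechLattice × ℤ) := cs.map (fun c => (g c.1, c.2))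

theorem XD_finite (cs : List (leechLattice × ℤ)) : (XD cs).Finite :=
  finite_sub (fun w => ∀ c ∈ cs, dotInt ((c.1 : leechLattice) : GolayPt → ℤ) w = c.2)

theorem XD_act {g : Equiv.Perm leechLattice} (hg : g ∈ Co0) {cs : List (leechLattice × ℤ)}
    {x : leechLattice} (hx : x ∈ XD cs) : g x ∈ XD (actC g cs) := by
  refine ⟨by rw [hg.2]; exact hx.1, ?_⟩
  intro c hc
  obtain ⟨c0, hc0, rfl⟩ := List.mem_map.mp hc
  show dotInt ((g c0.1 : leechLattice) : GolayPt → ℤ) ((g x : leechLattice) : GolayPt → ℤ) = c0.2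
  rw [co0_dot hg]; exact hx.2 c0 hc0

theorem actC_of_fix {g : Equiv.Perm leechLattice} {cs : List (leechLattice × ℤ)}
    (h : FixS g cs) : actC g cs = cs := by
  unfold actC
  conv_rhs => rw [← List.map_id cs]
  apply List.map_congr_left
  intro c hc
  show (g c.1, c.2) = id c
  rw [h c hc]; rfl

theorem actC_inv (g : Equiv.Perm leechLattice) (cs : List (leechLattice × ℤ)) :
    actC g⁻¹ (actC g cs) = cs := by
  unfold actC
  rw [List.map_map]
  conv_rhs => rw [← List.map_id cs]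
  apply List.map_congr_left
  intro c _
  simp

theorem XD_inv {g : Equiv.Perm leechLattice} (hg : g ∈ Co0) {cs : List (leechLattice × ℤ)}
    (hfix : FixS g cs) {x : leechLattice} (hx : x ∈ XD cs) : g x ∈ XD cs := by
  have := XD_act hg hx
  rwa [actC_of_fix hfix] at this

/-- Transport of cardinalities. -/
theorem XD_ncard_act {g : Equiv.Perm leechLattice} (hg : g ∈ Co0) (cs : List (leechLattice × ℤ)) :
    (XD (actC g cs)).ncard = (XD cs).ncard := by
  have : XD (actC g cs) = g '' XD cs := by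
    ext y
    constructor
    · intro hy
      refine ⟨g⁻¹ y, ?_, by simp⟩
      have := XD_act (inv_mem hg) hy
      rwa [actC_inv g cs] at this
    · rintro ⟨x, hx, rfl⟩
      exact XD_act hg hx
  rw [this, Set.ncard_image_of_injective _ g.injective]

/-- Transport of transitivity. -/
theorem XD_trans_act {cs0 : List (leechLattice × ℤ)} {w0 : leechLattice}
    (hstab : ∀ x ∈ XD cs0, ∃ g ∈ Co0, FixS g cs0 ∧ g w0 = x)
    {h : Equiv.Perm leechLattice} (hh : h ∈ Co0) {cs : List (leechLattice × ℤ)}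
    (he : actC h cs = cs0) {x x' : leechLattice} (hx : x ∈ XD cs) (hx' : x' ∈ XD cs) :
    ∃ g ∈ Co0, FixS g cs ∧ g x = x' := by
  have h1 : h x ∈ XD cs0 := he ▸ XD_act hh hx
  have h2 : h x' ∈ XD cs0 := he ▸ XD_act hh hx'
  obtain ⟨g1, hg1, f1, e1⟩ := hstab _ h1
  obtain ⟨g2, hg2, f2, e2⟩ := hstab _ h2
  have e1' : g1⁻¹ (h x) = w0 := by rw [Equiv.Perm.inv_eq_iff_eq]; exact e1.symm
  refine ⟨h⁻¹ * g2 * g1⁻¹ * h, mul_mem (mul_mem (mul_mem (inv_mem hh) hg2) (inv_mem hg1)) hh,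
    ?_, ?_⟩
  · intro c hc
    have hmem : (h c.1, c.2) ∈ cs0 := by rw [← he]; exact List.mem_map.mpr ⟨c, hc, rfl⟩
    have q1 : g1 (h c.1) = h c.1 := f1 _ hmem
    have q2 : g2 (h c.1) = h c.1 := f2 _ hmem
    have q1' : g1⁻¹ (h c.1) = h c.1 := by rw [Equiv.Perm.inv_eq_iff_eq]; exact q1.symm
    simp only [Equiv.Perm.mul_apply]
    rw [q1', q2]
    simp
  · simp only [Equiv.Perm.mul_apply]
    rw [e1', e2]
    simp

theorem XD_mono {cs cs' : List (leechLattice × ℤ)} (h : ∀ c ∈ cs, c ∈ cs') : XD cs' ⊆ XD cs :=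
  fun _ hx => ⟨hx.1, fun c hc => hx.2 c (h c hc)⟩

/-! ### Packed configurations -/

/-- The constraint list of a packed configuration: pairs of a packed vector and a shifted
inner product. -/
def csOf : (Ps : List (ℕ × ℕ)) → (∀ p ∈ Ps, vec p.1 ∈ leechLattice) → List (leechLattice × ℤ)
  | [], _ => []
  | p :: Ps, h => (⟨vec p.1, h p List.mem_cons_self⟩, (p.2 : ℤ) - 393216) ::
      csOf Ps (fun q hq => h q (List.mem_cons_of_mem _ hq))

theorem mem_csOf : ∀ (Ps : List (ℕ × ℕ)) (hPs : ∀ p ∈ Ps, vec p.1 ∈ leechLattice)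
    (c : leechLattice × ℤ), c ∈ csOf Ps hPs →
    ∃ p ∈ Ps, ∃ hp : vec p.1 ∈ leechLattice, c = (⟨vec p.1, hp⟩, (p.2 : ℤ) - 393216)
  | [], _, c, hc => by simp [csOf] at hc
  | p :: Ps, h, c, hc => by
    rw [csOf, List.mem_cons] at hc
    rcases hc with rfl | hc
    · exact ⟨p, List.mem_cons_self, _, rfl⟩
    · obtain ⟨q, hq, hp, e⟩ := mem_csOf Ps _ c hc
      exact ⟨q, List.mem_cons_of_mem _ hq, hp, e⟩

theorem csOf_mem : ∀ (Ps : List (ℕ × ℕ)) (hPs : ∀ p ∈ Ps, vec p.1 ∈ leechLattice)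
    (p : ℕ × ℕ) (hp : p ∈ Ps),
    ((⟨vec p.1, hPs p hp⟩ : leechLattice), (p.2 : ℤ) - 393216) ∈ csOf Ps hPs
  | [], _, p, hp => by simp at hp
  | q :: Ps, h, p, hp => by
    rw [csOf, List.mem_cons]
    rcases List.mem_cons.mp hp with rfl | hp'
    · exact Or.inl rfl
    · exact Or.inr (csOf_mem Ps _ p hp')

theorem memL_of_chk {Ps : List (ℕ × ℕ)} (h : Ps.all (fun p => chkL p.1) = true) :
    ∀ p ∈ Ps, vec p.1 ∈ leechLattice :=
  fun p hp => vec_mem_of_chkL (List.all_eq_true.mp h p hp)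

/-! ### Words fixing several packed vectors -/

/-- the word is valid and fixes the packed vectors of the configuration -/
def genOKL (Ps : List (ℕ × ℕ)) (w : List (ℕ × ℕ)) : Bool :=
  wordG w && Ps.all (fun p => runOK w p.1 && Nat.beq (runW w p.1) p.1)

theorem genOKL_nil (Ps : List (ℕ × ℕ)) : genOKL Ps [] = true := by
  simp [genOKL, wordG, runOK, runW]

theorem gen_eltL {Ps : List (ℕ × ℕ)} {w : List (ℕ × ℕ)} (h : genOKL Ps w = true) :
    ∃ g ∈ Co0, (∀ p ∈ Ps, ∀ hA : vec p.1 ∈ leechLattice, g ⟨vec p.1, hA⟩ = ⟨vec p.1, hA⟩) ∧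
      ∀ P, runOK w P = true → ∀ hP : vec P ∈ leechLattice,
        ((g ⟨vec P, hP⟩ : leechLattice) : GolayPt → ℤ) = vec (runW w P) := by
  unfold genOKL at h
  simp only [Bool.and_eq_true] at h
  obtain ⟨h1, h2⟩ := h
  obtain ⟨g, hg, e⟩ := word_elt w h1
  refine ⟨g, hg, ?_, e⟩
  intro p hp hA
  have h3 := List.all_eq_true.mp h2 p hp
  simp only [Bool.and_eq_true] at h3
  apply Subtype.ext
  rw [e p.1 h3.1 hA, Nat.eq_of_beq_eq_true h3.2]

theorem getD_genOKL (Ps : List (ℕ × ℕ)) (gens : List (List (ℕ × ℕ)))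
    (h : gens.all (genOKL Ps) = true) (i : ℕ) : genOKL Ps (gens.getD i []) = true := by
  by_cases hi : i < gens.length
  · rw [List.getD_eq_getElem _ _ hi]
    exact List.all_eq_true.mp h _ (List.getElem_mem hi)
  · rw [List.getD_eq_default _ _ (by omega)]
    exact genOKL_nil Ps

theorem vforest_soundL {Ps : List (ℕ × ℕ)} {W0 : ℕ} (hW0 : vec W0 ∈ leechLattice)
    {gens : List (List (ℕ × ℕ))} (hgens : gens.all (genOKL Ps) = true) {E T N : ℕ}
    (h : chkVForest gens W0 E T N = true) :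
    ∀ j < N, ∃ g ∈ Co0,
      (∀ p ∈ Ps, ∀ hA : vec p.1 ∈ leechLattice, g ⟨vec p.1, hA⟩ = ⟨vec p.1, hA⟩) ∧
      ((g ⟨vec W0, hW0⟩ : leechLattice) : GolayPt → ℤ) = vec (fldW 192 E j) := by
  have key : ∀ d j, j < N → vDep (fldW 64 T j) = d → ∃ g ∈ Co0,
      (∀ p ∈ Ps, ∀ hA : vec p.1 ∈ leechLattice, g ⟨vec p.1, hA⟩ = ⟨vec p.1, hA⟩) ∧
      ((g ⟨vec W0, hW0⟩ : leechLattice) : GolayPt → ℤ) = vec (fldW 192 E j) := by
    intro d
    induction d using Nat.strong_induction_on with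
    | _ d ih =>
      intro j hj hd
      have hc := (allB_iff _ _).mp h j hj
      simp only [Bool.or_eq_true, Bool.and_eq_true] at hc
      rcases hc with ⟨-, h0⟩ | ⟨hp, hdep, hok, hrun⟩
      · refine ⟨1, one_mem _, fun _ _ _ => rfl, ?_⟩
        rw [Nat.eq_of_beq_eq_true h0]
        rfl
      · have hp' : vPar (fldW 64 T j) < N := lt_of_blt hp
        have hdep' : vDep (fldW 64 T (vPar (fldW 64 T j))) < vDep (fldW 64 T j) := lt_of_blt hdep
        obtain ⟨g1, hg1, ea1, e1⟩ := ih _ (hd ▸ hdep') _ hp' rfl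
        obtain ⟨g2, hg2, ea2, e2⟩ := gen_eltL (getD_genOKL Ps gens hgens (vGen (fldW 64 T j)))
        have hP' : vec (fldW 192 E (vPar (fldW 64 T j))) ∈ leechLattice := by
          rw [← e1]; exact (g1 ⟨vec W0, hW0⟩).2
        refine ⟨g2 * g1, mul_mem hg2 hg1, ?_, ?_⟩
        · intro p hp hA
          show g2 (g1 ⟨vec p.1, hA⟩) = ⟨vec p.1, hA⟩
          rw [ea1 p hp hA, ea2 p hp hA]
        · show ((g2 (g1 ⟨vec W0, hW0⟩) : leechLattice) : GolayPt → ℤ) = _
          have e : g1 ⟨vec W0, hW0⟩ = ⟨vec (fldW 192 E (vPar (fldW 64 T j))), hP'⟩ :=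
            Subtype.ext e1
          rw [e, e2 _ hok hP', Nat.eq_of_beq_eq_true hrun]
  intro j hj
  exact key _ j hj rfl

/-- The forest theorem for an arbitrary class `S` of automorphisms. -/
theorem forest_trans_gen {W0 : ℕ} (hW0 : vec W0 ∈ leechLattice) {E N : ℕ}
    (S : Equiv.Perm leechLattice → Prop)
    (hsorted : chkSorted (fun _ => true) 192 E N = true)
    (hs : ∀ j < N, ∃ g, S g ∧
      ((g ⟨vec W0, hW0⟩ : leechLattice) : GolayPt → ℤ) = vec (fldW 192 E j))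
    (X : Set leechLattice) (hXfin : X.Finite) (hXN : X.ncard ≤ N)
    (hw0 : (⟨vec W0, hW0⟩ : leechLattice) ∈ X)
    (hinv : ∀ g, S g → ∀ x ∈ X, g x ∈ X) :
    (∀ x ∈ X, ∃ g, S g ∧ g ⟨vec W0, hW0⟩ = x) ∧ X.ncard = N ∧
      ∀ x ∈ X, ∃ j < N, (x : GolayPt → ℤ) = vec (fldW 192 E j) := by
  classical
  have hmem : ∀ j, j < N → vec (fldW 192 E j) ∈ leechLattice := by
    intro j hj
    obtain ⟨g, -, e⟩ := hs j hj
    rw [← e]; exact (g ⟨vec W0, hW0⟩).2
  obtain ⟨f, hf⟩ : ∃ f : Fin N → leechLattice, ∀ j : Fin N,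
      (f j : GolayPt → ℤ) = vec (fldW 192 E j) :=
    ⟨fun j => ⟨vec (fldW 192 E j), hmem j j.2⟩, fun _ => rfl⟩
  have hfinj : Function.Injective f := by
    intro j k hjk
    have e1 : vec (fldW 192 E j) = vec (fldW 192 E k) := by rw [← hf j, ← hf k, hjk]
    have e2 := eq_of_vec_eq (fldW_lt 192 E j) (fldW_lt 192 E k) e1
    exact Fin.ext (sorted_inj hsorted j j.2 k k.2 e2)
  have hfX : ∀ j, f j ∈ X := by
    intro j
    obtain ⟨g, hg, e⟩ := hs j j.2
    have : f j = g ⟨vec W0, hW0⟩ := Subtype.ext (by rw [hf j, e])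
    rw [this]
    exact hinv g hg _ hw0
  have hrange : Set.range f ⊆ X := by
    rintro _ ⟨j, rfl⟩
    exact hfX j
  have hcard : (Set.range f).ncard = N := by
    rw [Set.ncard_range_of_injective hfinj, Nat.card_eq_fintype_card, Fintype.card_fin]
  have heq : Set.range f = X :=
    Set.eq_of_subset_of_ncard_le hrange (by rw [hcard]; exact hXN) hXfin
  refine ⟨?_, ?_, ?_⟩
  · intro x hx
    rw [← heq] at hx
    obtain ⟨j, rfl⟩ := hx
    obtain ⟨g, hg, e⟩ := hs j j.2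
    exact ⟨g, hg, Subtype.ext (by rw [hf j, e])⟩
  · rw [← heq, hcard]
  · intro x hx
    rw [← heq] at hx
    obtain ⟨j, rfl⟩ := hx
    exact ⟨j, j.2, hf j⟩

/-- The forest theorem for a packed configuration. -/
theorem forest_XD {Ps : List (ℕ × ℕ)} (hPs : ∀ p ∈ Ps, vec p.1 ∈ leechLattice) {W0 : ℕ}
    (hW0 : vec W0 ∈ leechLattice) {gens : List (List (ℕ × ℕ))}
    (hgens : gens.all (genOKL Ps) = true) {E T N : ℕ}
    (hsorted : chkSorted (fun _ => true) 192 E N = true)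
    (hforest : chkVForest gens W0 E T N = true)
    (hroot : (Nat.beq (sqV W0) 32 && Ps.all (fun p => Nat.beq (dotV p.1 W0) p.2)) = true)
    (hN : (XD (csOf Ps hPs)).ncard ≤ N) :
    (∀ x ∈ XD (csOf Ps hPs), ∃ g ∈ Co0, FixS g (csOf Ps hPs) ∧ g ⟨vec W0, hW0⟩ = x) ∧
      (XD (csOf Ps hPs)).ncard = N ∧
      ∀ x ∈ XD (csOf Ps hPs), ∃ j < N, (x : GolayPt → ℤ) = vec (fldW 192 E j) := by
  have hfix : ∀ g : Equiv.Perm leechLattice,
      (∀ p ∈ Ps, ∀ hA : vec p.1 ∈ leechLattice, g ⟨vec p.1, hA⟩ = ⟨vec p.1, hA⟩) →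
      FixS g (csOf Ps hPs) := by
    intro g hg c hc
    obtain ⟨p, hp, hA, rfl⟩ := mem_csOf Ps hPs c hc
    exact hg p hp hA
  simp only [Bool.and_eq_true] at hroot
  have h := forest_trans_gen hW0 (fun g => g ∈ Co0 ∧ FixS g (csOf Ps hPs)) hsorted
    (fun j hj => by
      obtain ⟨g, hg, hf, e⟩ := vforest_soundL hW0 hgens hforest j hj
      exact ⟨g, ⟨hg, hfix g hf⟩, e⟩)
    (XD (csOf Ps hPs)) (XD_finite _) hN
    (by
      refine ⟨?_, ?_⟩
      · show sqNorm (vec W0) = 32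
        rw [sqNorm_vec, Nat.eq_of_beq_eq_true hroot.1]; rfl
      · intro c hc
        obtain ⟨p, hp, hA, rfl⟩ := mem_csOf Ps hPs c hc
        show dotInt (vec p.1) (vec W0) = (p.2 : ℤ) - 393216
        rw [dotInt_vec, Nat.eq_of_beq_eq_true (List.all_eq_true.mp hroot.2 p hp)])
    (fun g hg x hx => XD_inv hg.1 hg.2 hx)
  refine ⟨?_, h.2.1, h.2.2⟩
  intro x hx
  obtain ⟨g, ⟨hg, hf⟩, e⟩ := h.1 x hx
  exact ⟨g, hg, hf, e⟩

/-- The number of vectors of a constraint set inside a table. -/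
theorem XD_ncard_le {Ps : List (ℕ × ℕ)} (hPs : ∀ p ∈ Ps, vec p.1 ∈ leechLattice) {E N : ℕ}
    (hpar : ∀ x ∈ XD (csOf Ps hPs), ∃ j < N, (x : GolayPt → ℤ) = vec (fldW 192 E j)) :
    (XD (csOf Ps hPs)).ncard
      ≤ countB (fun j => Ps.all (fun p => Nat.beq (dotV p.1 (fldW 192 E j)) p.2)) N := by
  classical
  rw [countB_eq, ← Set.ncard_image_of_injective _ Subtype.val_injective]
  set F := (Finset.range N).filter
    (fun j => Ps.all (fun p => Nat.beq (dotV p.1 (fldW 192 E j)) p.2) = true) with hF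
  have hsub : Subtype.val '' XD (csOf Ps hPs)
      ⊆ ((F.image (fun j => vec (fldW 192 E j)) : Finset (GolayPt → ℤ)) : Set (GolayPt → ℤ)) := by
    rintro _ ⟨x, hx, rfl⟩
    obtain ⟨j, hj, e⟩ := hpar x hx
    rw [Finset.mem_coe, Finset.mem_image]
    refine ⟨j, ?_, e.symm⟩
    rw [hF, Finset.mem_filter, Finset.mem_range]
    refine ⟨hj, List.all_eq_true.mpr ?_⟩
    intro p hp
    have h1 := hx.2 _ (csOf_mem Ps hPs p hp)
    have h2 : dotInt (vec p.1) (x : GolayPt → ℤ) = (p.2 : ℤ) - 393216 := h1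
    rw [e, dotInt_vec] at h2
    have h3 : dotV p.1 (fldW 192 E j) = p.2 := by omega
    rw [h3]
    exact Nat.beq_refl _
  calc (Subtype.val '' XD (csOf Ps hPs)).ncard
      ≤ ((F.image (fun j => vec (fldW 192 E j)) : Finset (GolayPt → ℤ)) : Set (GolayPt → ℤ)).ncard :=
        Set.ncard_le_ncard hsub (Finset.finite_toSet _)
    _ = (F.image (fun j => vec (fldW 192 E j))).card := Set.ncard_coe_finset _
    _ ≤ F.card := Finset.card_image_le

/-- Inner products of the vectors of a table against a packed vector. -/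
theorem XD_dot_vals {X : Set leechLattice} {E N : ℕ}
    (htab : ∀ x ∈ X, ∃ j < N, (x : GolayPt → ℤ) = vec (fldW 192 E j)) (X0 : ℕ) (q : ℕ → Bool)
    (hq : allB (fun j => q (dotV X0 (fldW 192 E j))) N = true) :
    ∀ x ∈ X, ∃ D, q D = true ∧ dotInt (vec X0) (x : GolayPt → ℤ) = (D : ℤ) - 393216 := by
  intro x hx
  obtain ⟨j, hj, e⟩ := htab x hx
  exact ⟨_, (allB_iff _ _).mp hq j hj, by rw [e, dotInt_vec]⟩

end Cfsg.Agent.H33
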