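import Mathlib
import Cfsg.Agent.H33.LMulti

/-!
Splitting the kernel computations over long tables into chunks.
-/

set_option autoImplicit false

namespace Cfsg.Agent.H33

open Cfsg Cfsg.Agent.H9 Cfsg.Agent.H93

theorem allB_append (f : ℕ → Bool) (a b c : ℕ) (hc : a + b = c) (h1 : allB f a = true)
    (h2 : allB (fun j => f (Nat.add a j)) b = true) : allB f c = true := by
  subst hc
  rw [allB_iff] at *
  intro k hk
  by_cases h : k < a
  · exact h1 k h
  · have h3 := h2 (k - a) (by omega)
    have e : Nat.add a (k - a) = k := by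
      show a + (k - a) = k
      omega
    rw [e] at h3
    exact h3

theorem countB_append (f : ℕ → Bool) (a b : ℕ) :
    countB f (a + b) = countB f a + countB (fun j => f (Nat.add a j)) b := by
  induction b with
  | zero => rfl
  | succ b ih =>
    show Nat.add (cond (f (a + b)) 1 0) (countB f (a + b))
      = countB f a + Nat.add (cond (f (Nat.add a b)) 1 0) (countB (fun j => f (Nat.add a j)) b)
    rw [ih]
    show cond (f (a + b)) 1 0 + (countB f a + countB (fun j => f (Nat.add a j)) b)
      = countB f a + (cond (f (a + b)) 1 0 + countB (fun j => f (Nat.add a j)) b)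
    omega

theorem countB_append' (f : ℕ → Bool) (a b c na nb n : ℕ) (hc : a + b = c) (hn : na + nb = n)
    (h1 : countB f a = na) (h2 : countB (fun j => f (Nat.add a j)) b = nb) :
    countB f c = n := by
  subst hc
  rw [countB_append, h1, h2, hn]

/-- the test of one record of a forest -/
def vfBody (gens : List (List (ℕ × ℕ))) (W0 E T N : ℕ) (j : ℕ) : Bool :=
  (Nat.beq (vDep (fldW 64 T j)) 0 && Nat.beq (fldW 192 E j) W0) ||
    (Nat.blt (vPar (fldW 64 T j)) N &&
      (Nat.blt (vDep (fldW 64 T (vPar (fldW 64 T j)))) (vDep (fldW 64 T j)) &&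
      (runOK (gens.getD (vGen (fldW 64 T j)) []) (fldW 192 E (vPar (fldW 64 T j))) &&
       Nat.beq (runW (gens.getD (vGen (fldW 64 T j)) []) (fldW 192 E (vPar (fldW 64 T j))))
         (fldW 192 E j))))

theorem chkVForest_of_body {gens : List (List (ℕ × ℕ))} {W0 E T N : ℕ}
    (h : allB (vfBody gens W0 E T N) N = true) : chkVForest gens W0 E T N = true := h

end Cfsg.Agent.H33
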