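import Cfsg.Agent.H33.LMulti
import Cfsg.Agent.H33.L100

/-!
# Forest data: the 22 vectors y of the 100 with <x0,y> = 8, x0 = (4,4,0^22) (helper33; generated, checked by the kernel)
-/

set_option autoImplicit false
set_option maxRecDepth 100000

namespace Cfsg.Agent.H33

open Cfsg Cfsg.Agent.H9 Cfsg.Agent.H93

/-- the configuration: <5 1 1 1 1 1 1 1 1 1 1 1 1 1 1 1 1 1 1 1 1 1 1 1> = 24; <-1 -5 -1 -1 -1 -1 -1 -1 -1 -1 -1 -1 -1 -1 -1 -1 -1 -1 -1 -1 -1 -1 -1 -1> = -24; <4 4 0 0 0 0 0 0 0 0 0 0 0 0 0 0 0 0 0 0 0 0 0 0> = 8 -/
def L22P : List (ℕ × ℕ) := [(0x818181818181818181818181818181818181818181818185, 393240), (0x7f7f7f7f7f7f7f7f7f7f7f7f7f7f7f7f7f7f7f7f7f7f7b7f, 393192), (0x808080808080808080808080808080808080808080808484, 393224)]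

/-- the root vector: 1 1 -3 1 1 1 1 1 1 1 1 1 1 1 1 1 1 1 1 1 1 1 1 1 -/
def L22W : ℕ := 0x8181818181818181818181818181818181818181817d8181

/-- words fixing the vectors of the configuration -/
def L22Gens : List (List (ℕ × ℕ)) :=
  [[(0xb3ce6b9208155ae2a46c8aa7492c20, 0x0)],
   [(0x3aae5939e4b504bab668824cc88c20, 0x0)],
   [(0x8164678c4a4266d59ed1a12b773020, 0x0)]]

/-- the table of vectors -/
def L22E : ℕ := 0x8181818181818181818181818181818181818181817d818181818181818181818181818181818181818181817d818181818181818181818181818181818181818181817d818181818181818181818181818181818181818181817d818181818181818181818181818181818181818181817d818181818181818181818181818181818181818181817d818181818181818181818181818181818181818181817d818181818181818181818181818181818181818181817d818181818181818181818181818181818181818181817d818181818181818181818181818181818181818181817d818181818181818181818181818181818181818181817d818181818181818181818181818181818181818181817d818181818181818181818181818181818181818181817d818181818181818181818181818181818181818181817d818181818181818181818181818181818181818181817d818181818181818181818181818181818181818181817d818181818181818181818181818181818181818181817d818181818181818181818181818181818181818181817d818181818181818181818181818181818181818181817d818181818181818181818181818181818181818181817d818181818181818181818181818181818181818181817d818181818181818181818181818181818181818181817d8181818181818181818181818181818181818181818181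

/-- the forest records -/
def L22T : ℕ := 0x2100006000000000310000b0000000003000004000000000300000d000000000200000600000000022000060000000003200001000000000210000a0000000004000012000000000220000a0000000001100015000000000420000e0000000001000015000000000320000d0000000001200015000000000320001400000000022000080000000004100012000000000300001000000000020000080000000003000001

theorem L22_mem : L22P.all (fun p => chkL p.1) = true := by decide +kernel

theorem L22W_mem : vec L22W ∈ leechLattice := vec_mem_of_chkL (by decide +kernel)

theorem L22_gens : L22Gens.all (genOKL L22P) = true := by decide +kernel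

theorem L22_sorted : chkSorted (fun _ => true) 192 L22E 22 = true := by decide +kernel

theorem L22_forest : chkVForest L22Gens L22W L22E L22T 22 = true := by decide +kernel

theorem L22_root : (Nat.beq (sqV L22W) 32 && L22P.all (fun p => Nat.beq (dotV p.1 L22W) p.2)) = true := by
  decide +kernel

theorem L22_count : countB (fun j => L22P.all (fun p => Nat.beq (dotV p.1 (fldW 192 L100E j)) p.2)) 100 = 22 := by
  decide +kernel

end Cfsg.Agent.H33
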