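import Mathlib
import Cfsg.Agent.H33.LCount2
import Cfsg.Agent.H33.LF552
import Cfsg.Agent.H33.LF4600
import Cfsg.Agent.H33.LF11178

/-!
Transitivity of vector stabilisers in the automorphism group of the rank-24 lattice on the
minimal vectors with a prescribed inner product against the fixed vector.
-/

set_option autoImplicit false
set_option maxRecDepth 100000

namespace Cfsg.Agent.H33

open Cfsg Cfsg.Agent.H9 Cfsg.Agent.H93

/-- The minimal vectors with inner product `d` against `u`. -/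
def Xdot (d : ℤ) (u : leechLattice) : Set leechLattice :=
  {x | sqNorm (x : GolayPt → ℤ) = 32 ∧ dotInt (u : GolayPt → ℤ) (x : GolayPt → ℤ) = d}

theorem Xdot_inv (d : ℤ) : ∀ g ∈ Co0, ∀ (u x : leechLattice), x ∈ Xdot d u → g x ∈ Xdot d (g u) := by
  intro g hg u x hx
  exact ⟨by rw [hg.2]; exact hx.1, by rw [co0_dot hg]; exact hx.2⟩

theorem Xdot_ncard (d : ℤ) (u : leechLattice) : (Xdot d u).ncard = cnt 32 (u : GolayPt → ℤ) d :=
  ncard_sub_dot _ d

theorem stab_trans_of_forest {A W0 : ℕ} (hA : vec A ∈ leechLattice) (hW0 : vec W0 ∈ leechLattice)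
    {gens : List (List (ℕ × ℕ))} (hgens : gens.all (genOK A) = true) {E T N : ℕ}
    (hsorted : chkSorted (fun _ => true) 192 E N = true)
    (hforest : chkVForest gens W0 E T N = true) (d : ℤ)
    (hsq : sqV W0 = 32) (hdot : (dotV A W0 : ℤ) - 393216 = d) (hN : cnt 32 (vec A) d ≤ N) :
    (∀ x ∈ Xdot d ⟨vec A, hA⟩, ∃ g ∈ Co0, g ⟨vec A, hA⟩ = ⟨vec A, hA⟩ ∧ g ⟨vec W0, hW0⟩ = x) ∧
      cnt 32 (vec A) d = N := by
  have h := forest_trans hA hW0 hgens hsorted hforest (Xdot d ⟨vec A, hA⟩)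
    (finite_sub (fun w => dotInt (vec A) w = d))
    (by rw [Xdot_ncard]; exact hN)
    ⟨by show sqNorm (vec W0) = 32
        rw [sqNorm_vec, hsq]; rfl,
     by show dotInt (vec A) (vec W0) = d
        rw [dotInt_vec, hdot]⟩
    (by
      intro g hg ea x hx
      have := Xdot_inv d g hg _ x hx
      rw [ea] at this
      exact this)
  refine ⟨h.1, ?_⟩
  have := h.2.1
  rw [Xdot_ncard] at this
  exact this

/-! ### The three forests -/

theorem LF552A_sq : sqV LF552A = 48 := by decide +kernel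
theorem LF552W_sq : sqV LF552W = 32 := by decide +kernel
theorem LF552_dot : dotV LF552A LF552W = 393240 := by decide +kernel
theorem LF4600A_sq : sqV LF4600A = 32 := by decide +kernel
theorem LF4600W_sq : sqV LF4600W = 32 := by decide +kernel
theorem LF4600_dot : dotV LF4600A LF4600W = 393200 := by decide +kernel
theorem LF11178A_sq : sqV LF11178A = 48 := by decide +kernel
theorem LF11178W_sq : sqV LF11178W = 32 := by decide +kernel
theorem LF11178_dot : dotV LF11178A LF11178W = 393200 := by decide +kernel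

theorem LF552A_mem_V : vec LF552A ∈ V 48 :=
  (mem_V (by norm_num)).mpr ⟨LF552A_mem, by rw [sqNorm_vec, LF552A_sq]⟩

theorem LF4600A_mem_V : vec LF4600A ∈ V 32 :=
  (mem_V (by norm_num)).mpr ⟨LF4600A_mem, by rw [sqNorm_vec, LF4600A_sq]⟩

theorem LF11178A_mem_V : vec LF11178A ∈ V 48 :=
  (mem_V (by norm_num)).mpr ⟨LF11178A_mem, by rw [sqNorm_vec, LF11178A_sq]⟩

theorem stab_552 :
    (∀ x ∈ Xdot (24) ⟨vec LF552A, LF552A_mem⟩, ∃ g ∈ Co0,
        g ⟨vec LF552A, LF552A_mem⟩ = ⟨vec LF552A, LF552A_mem⟩ ∧ g ⟨vec LF552W, LF552W_mem⟩ = x) ∧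
      cnt 32 (vec LF552A) (24) = 552 :=
  stab_trans_of_forest LF552A_mem LF552W_mem LF552_gens LF552_sorted LF552_forest
  24 LF552W_sq (by rw [LF552_dot]; rfl) (le_of_eq (cnt48_24 LF552A_mem_V))

theorem stab_4600 :
    (∀ x ∈ Xdot (-16) ⟨vec LF4600A, LF4600A_mem⟩, ∃ g ∈ Co0,
        g ⟨vec LF4600A, LF4600A_mem⟩ = ⟨vec LF4600A, LF4600A_mem⟩ ∧ g ⟨vec LF4600W, LF4600W_mem⟩ = x) ∧
      cnt 32 (vec LF4600A) (-16) = 4600 :=
  stab_trans_of_forest LF4600A_mem LF4600W_mem LF4600_gens LF4600_sorted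
  LF4600_forest (-16) LF4600W_sq (by rw [LF4600_dot]; rfl)
  (le_of_eq (cnt32_values LF4600A_mem_V).2.2)

theorem stab_11178 :
    (∀ x ∈ Xdot (-16) ⟨vec LF11178A, LF11178A_mem⟩, ∃ g ∈ Co0,
        g ⟨vec LF11178A, LF11178A_mem⟩ = ⟨vec LF11178A, LF11178A_mem⟩ ∧ g ⟨vec LF11178W, LF11178W_mem⟩ = x) ∧
      cnt 32 (vec LF11178A) (-16) = 11178 :=
  stab_trans_of_forest LF11178A_mem LF11178W_mem LF11178_gens LF11178_sorted
  LF11178_forest (-16) LF11178W_sq (by rw [LF11178_dot]; rfl) (cnt48_16_le LF11178A_mem_V)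

/-! ### Transitivity statements -/

theorem trans_dot24 (u v v' : leechLattice) (hu : sqNorm (u : GolayPt → ℤ) = 48)
    (hv : v ∈ Xdot 24 u) (hv' : v' ∈ Xdot 24 u) : ∃ g ∈ Co0, g u = u ∧ g v = v' :=
  pair_trans_transport (X := Xdot 24) (Xdot_inv 24) stab_552.1
    (co0_trans48 u ⟨vec LF552A, LF552A_mem⟩ hu (by
      show sqNorm (vec LF552A) = 48
      rw [sqNorm_vec, LF552A_sq]; rfl)) hv hv'

theorem trans_min16 (v w w' : leechLattice) (hv : sqNorm (v : GolayPt → ℤ) = 32)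
    (hw : w ∈ Xdot (-16) v) (hw' : w' ∈ Xdot (-16) v) : ∃ g ∈ Co0, g v = v ∧ g w = w' :=
  pair_trans_transport (X := Xdot (-16)) (Xdot_inv (-16)) stab_4600.1
    (co0_trans32 v ⟨vec LF4600A, LF4600A_mem⟩ hv (by
      show sqNorm (vec LF4600A) = 32
      rw [sqNorm_vec, LF4600A_sq]; rfl)) hw hw'

theorem trans_48_16 (u x x' : leechLattice) (hu : sqNorm (u : GolayPt → ℤ) = 48)
    (hx : x ∈ Xdot (-16) u) (hx' : x' ∈ Xdot (-16) u) : ∃ g ∈ Co0, g u = u ∧ g x = x' :=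
  pair_trans_transport (X := Xdot (-16)) (Xdot_inv (-16)) stab_11178.1
    (co0_trans48 u ⟨vec LF11178A, LF11178A_mem⟩ hu (by
      show sqNorm (vec LF11178A) = 48
      rw [sqNorm_vec, LF11178A_sq]; rfl)) hx hx'

theorem ncard_48_16 (u : leechLattice) (hu : sqNorm (u : GolayPt → ℤ) = 48) :
    (Xdot (-16) u).ncard = 11178 := by
  rw [Xdot_ncard, cnt_const48 (by norm_num) (mem_V_of (by norm_num) u (by exact_mod_cast hu))
    LF11178A_mem_V]
  exact stab_11178.2

theorem lc_dot_add_right (x y z : GolayPt → ℤ) : dotInt x (y + z) = dotInt x y + dotInt x z := by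
  rw [lc_dot_comm, lc_dot_add_left, lc_dot_comm y, lc_dot_comm z]

/-- The stabiliser of a minimal vector `v` is transitive on the minimal vectors `w` with
`⟨v, w⟩ = -8`. -/
theorem trans_min8 (v w w' : leechLattice) (hv : sqNorm (v : GolayPt → ℤ) = 32)
    (hw : sqNorm (w : GolayPt → ℤ) = 32) (hw' : sqNorm (w' : GolayPt → ℤ) = 32)
    (hd : dotInt (v : GolayPt → ℤ) (w : GolayPt → ℤ) = -8)
    (hd' : dotInt (v : GolayPt → ℤ) (w' : GolayPt → ℤ) = -8) :
    ∃ g ∈ Co0, g v = v ∧ g w = w' := by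
  have hu : sqNorm ((v + w : leechLattice) : GolayPt → ℤ) = 48 := by
    show sqNorm ((v : GolayPt → ℤ) + (w : GolayPt → ℤ)) = 48
    rw [sqNorm_add, hv, hw, hd]; norm_num
  have hu' : sqNorm ((v + w' : leechLattice) : GolayPt → ℤ) = 48 := by
    show sqNorm ((v : GolayPt → ℤ) + (w' : GolayPt → ℤ)) = 48
    rw [sqNorm_add, hv, hw', hd']; norm_num
  obtain ⟨h, hh, e⟩ := co0_trans48 (v + w) (v + w') hu hu'
  have h1 : h v ∈ Xdot 24 (v + w') := by
    refine ⟨by rw [hh.2]; exact hv, ?_⟩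
    rw [← e, co0_dot hh]
    show dotInt ((v : GolayPt → ℤ) + (w : GolayPt → ℤ)) (v : GolayPt → ℤ) = 24
    rw [lc_dot_add_left, lc_dot_self, hv, lc_dot_comm, hd]; norm_num
  have h2 : v ∈ Xdot 24 (v + w') := by
    refine ⟨hv, ?_⟩
    show dotInt ((v : GolayPt → ℤ) + (w' : GolayPt → ℤ)) (v : GolayPt → ℤ) = 24
    rw [lc_dot_add_left, lc_dot_self, hv, lc_dot_comm, hd']; norm_num
  obtain ⟨k, hk, ek1, ek2⟩ := trans_dot24 (v + w') (h v) v hu' h1 h2
  refine ⟨k * h, mul_mem hk hh, ?_, ?_⟩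
  · rw [Equiv.Perm.mul_apply, ek2]
  · have e1 : (k * h) (v + w) = v + w' := by rw [Equiv.Perm.mul_apply, e, ek1]
    have e2 := (mul_mem hk hh).1 v w
    rw [e1, Equiv.Perm.mul_apply k h v, ek2] at e2
    exact (add_left_cancel e2).symm

/-- Two vectors of the second shell with inner product `-32` are interchanged by an
automorphism. -/
theorem swap_48 (v w : leechLattice) (hv : sqNorm (v : GolayPt → ℤ) = 48)
    (hw : sqNorm (w : GolayPt → ℤ) = 48)
    (hvw : dotInt (v : GolayPt → ℤ) (w : GolayPt → ℤ) = -32) :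
    ∃ g ∈ Co0, g v = w ∧ g w = v := by
  have hx : sqNorm ((-(v + w) : leechLattice) : GolayPt → ℤ) = 32 := by
    show sqNorm (-((v : GolayPt → ℤ) + (w : GolayPt → ℤ))) = 32
    rw [sqNorm_neg, sqNorm_add, hv, hw, hvw]; norm_num
  have h1 : -(v + w) ∈ Xdot (-16) v := by
    refine ⟨hx, ?_⟩
    show dotInt (v : GolayPt → ℤ) (-((v : GolayPt → ℤ) + (w : GolayPt → ℤ))) = -16
    rw [lc_dot_neg_right, lc_dot_add_right, lc_dot_self, hv, hvw]; norm_num
  have h2 : -(v + w) ∈ Xdot (-16) w := by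
    refine ⟨hx, ?_⟩
    show dotInt (w : GolayPt → ℤ) (-((v : GolayPt → ℤ) + (w : GolayPt → ℤ))) = -16
    rw [lc_dot_neg_right, lc_dot_add_right, lc_dot_self, hw, lc_dot_comm, hvw]; norm_num
  obtain ⟨h, hh, e⟩ := co0_trans48 v w hv hw
  have h3 : h (-(v + w)) ∈ Xdot (-16) w := by
    have := Xdot_inv (-16) h hh v _ h1
    rw [e] at this
    exact this
  obtain ⟨k, hk, ek1, ek2⟩ := trans_48_16 w (h (-(v + w))) (-(v + w)) hw h3 h2
  have hg := mul_mem hk hh
  have eg1 : (k * h) v = w := by rw [Equiv.Perm.mul_apply, e, ek1]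
  have eg2 : (k * h) (-(v + w)) = -(v + w) := by rw [Equiv.Perm.mul_apply, ek2]
  have e0 : (k * h) 0 = 0 := by
    have := hg.1 0 0
    rw [add_zero] at this
    exact left_eq_add.mp this
  refine ⟨k * h, hg, eg1, ?_⟩
  have e3 := hg.1 (-(v + w)) (v + w)
  rw [neg_add_cancel, e0, eg2, hg.1 v w, eg1] at e3
  -- e3 : 0 = -(v + w) + (w + (k * h) w)
  have e4 : (k * h) w = (v + w) - w := by
    have : (0 : leechLattice) + (v + w) = -(v + w) + (w + (k * h) w) + (v + w) := by rw [← e3]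
    rw [zero_add] at this
    rw [this]; abel
  rw [e4]; abel

end Cfsg.Agent.H33
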