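import Mathlib
import Cfsg.Agent.H33.LMulti
import Cfsg.Agent.H33.LTrans

/-!
Glue for chains of vector stabilisers: levels, their transfer to conjugate configurations,
and the tables of the single-vector forests.
-/

set_option autoImplicit false

namespace Cfsg.Agent.H33

open Cfsg Cfsg.Agent.H9 Cfsg.Agent.H93

/-- Three packed vectors adding up to zero. -/
theorem vec_add3 {P Q R : ℕ}
    (h : allB (fun i => Nat.beq (Nat.add (Nat.add (f8 P i) (f8 Q i)) (f8 R i)) 384) 24 = true) :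
    vec P + vec Q + vec R = 0 := by
  funext p
  have h1 := (allB_iff _ _).mp h (gIdx p) (gIdx_lt p)
  have e : f8 P (gIdx p) + f8 Q (gIdx p) + f8 R (gIdx p) = 384 := Nat.eq_of_beq_eq_true h1
  simp only [Pi.add_apply, vec_apply, Pi.zero_apply]
  have e' : ((f8 P (gIdx p) : ℤ) + f8 Q (gIdx p) + f8 R (gIdx p)) = 384 := by exact_mod_cast e
  linarith

/-- The table of the 552 minimal vectors nearest to `(5, 1^23)`. -/
theorem table_552 : ∀ x ∈ Xdot 24 ⟨vec LF552A, LF552A_mem⟩,
    ∃ j < 552, (x : GolayPt → ℤ) = vec (fldW 192 LF552E j) := by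
  have h := forest_trans LF552A_mem LF552W_mem LF552_gens LF552_sorted LF552_forest
    (Xdot 24 ⟨vec LF552A, LF552A_mem⟩) (finite_sub (fun w => dotInt (vec LF552A) w = 24))
    (by rw [Xdot_ncard]; exact le_of_eq (cnt48_24 LF552A_mem_V))
    ⟨by show sqNorm (vec LF552W) = 32
        rw [sqNorm_vec, LF552W_sq]; rfl,
     by show dotInt (vec LF552A) (vec LF552W) = 24
        rw [dotInt_vec, LF552_dot]; rfl⟩
    (by
      intro g hg ea x hx
      have := Xdot_inv 24 g hg _ x hx
      rw [ea] at this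
      exact this)
  exact h.2.2

/-- The table of the 11178 minimal vectors of inner product `-16` with `(5, 1^23)`. -/
theorem table_11178 : ∀ x ∈ Xdot (-16) ⟨vec LF11178A, LF11178A_mem⟩,
    ∃ j < 11178, (x : GolayPt → ℤ) = vec (fldW 192 LF11178E j) := by
  have h := forest_trans LF11178A_mem LF11178W_mem LF11178_gens LF11178_sorted LF11178_forest
    (Xdot (-16) ⟨vec LF11178A, LF11178A_mem⟩)
    (finite_sub (fun w => dotInt (vec LF11178A) w = -16))
    (by rw [Xdot_ncard]; exact cnt48_16_le LF11178A_mem_V)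
    ⟨by show sqNorm (vec LF11178W) = 32
        rw [sqNorm_vec, LF11178W_sq]; rfl,
     by show dotInt (vec LF11178A) (vec LF11178W) = -16
        rw [dotInt_vec, LF11178_dot]; rfl⟩
    (by
      intro g hg ea x hx
      have := Xdot_inv (-16) g hg _ x hx
      rw [ea] at this
      exact this)
  exact h.2.2

/-- A level of a stabiliser chain: the forest together with the count in the parent table. -/
theorem level_thm {Ps : List (ℕ × ℕ)} (hPs : ∀ p ∈ Ps, vec p.1 ∈ leechLattice) {W0 : ℕ}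
    (hW0 : vec W0 ∈ leechLattice) {gens : List (List (ℕ × ℕ))}
    (hgens : gens.all (genOKL Ps) = true) {E T N : ℕ}
    (hsorted : chkSorted (fun _ => true) 192 E N = true)
    (hforest : chkVForest gens W0 E T N = true)
    (hroot : (Nat.beq (sqV W0) 32 && Ps.all (fun p => Nat.beq (dotV p.1 W0) p.2)) = true)
    {E' N' : ℕ}
    (hpar : ∀ x ∈ XD (csOf Ps hPs), ∃ j < N', (x : GolayPt → ℤ) = vec (fldW 192 E' j))
    (hcount : countB (fun j => Ps.all (fun p => Nat.beq (dotV p.1 (fldW 192 E' j)) p.2)) N' = N) :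
    (∀ x ∈ XD (csOf Ps hPs), ∃ g ∈ Co0, FixS g (csOf Ps hPs) ∧ g ⟨vec W0, hW0⟩ = x) ∧
      (XD (csOf Ps hPs)).ncard = N ∧
      ∀ x ∈ XD (csOf Ps hPs), ∃ j < N, (x : GolayPt → ℤ) = vec (fldW 192 E j) :=
  forest_XD hPs hW0 hgens hsorted hforest hroot ((XD_ncard_le hPs hpar).trans (le_of_eq hcount))

/-- Transfer of a level to a conjugate configuration. -/
theorem level_transfer {cs0 : List (leechLattice × ℤ)} {w0 : leechLattice} {N : ℕ}
    (hstab : ∀ x ∈ XD cs0, ∃ g ∈ Co0, FixS g cs0 ∧ g w0 = x) (hcard : (XD cs0).ncard = N)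
    {h : Equiv.Perm leechLattice} (hh : h ∈ Co0) {cs : List (leechLattice × ℤ)}
    (he : actC h cs = cs0) :
    (XD cs).ncard = N ∧ ∀ x ∈ XD cs, ∀ x' ∈ XD cs, ∃ g ∈ Co0, FixS g cs ∧ g x = x' := by
  refine ⟨?_, fun x hx x' hx' => XD_trans_act hstab hh he hx hx'⟩
  rw [← XD_ncard_act hh cs, he]; exact hcard

theorem actC_mul (g h : Equiv.Perm leechLattice) (cs : List (leechLattice × ℤ)) :
    actC (g * h) cs = actC g (actC h cs) := by
  unfold actC
  rw [List.map_map]
  rfl

theorem FixS_inv {g : Equiv.Perm leechLattice} {cs : List (leechLattice × ℤ)} (h : FixS g cs) :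
    FixS g⁻¹ cs := by
  intro c hc
  rw [Equiv.Perm.inv_eq_iff_eq]
  exact (h c hc).symm

/-- Moving one more vector to the root of the level. -/
theorem extend_transfer {cs0 : List (leechLattice × ℤ)} {w0 : leechLattice}
    (hstab : ∀ x ∈ XD cs0, ∃ g ∈ Co0, FixS g cs0 ∧ g w0 = x)
    {h : Equiv.Perm leechLattice} (hh : h ∈ Co0) {cs : List (leechLattice × ℤ)}
    (he : actC h cs = cs0) {x : leechLattice} (hx : x ∈ XD cs) :
    ∃ h' ∈ Co0, actC h' cs = cs0 ∧ h' x = w0 := by
  have h1 : h x ∈ XD cs0 := he ▸ XD_act hh hx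
  obtain ⟨g, hg, hf, e⟩ := hstab _ h1
  refine ⟨g⁻¹ * h, mul_mem (inv_mem hg) hh, ?_, ?_⟩
  · rw [actC_mul, he]
    exact actC_of_fix (FixS_inv hf)
  · rw [Equiv.Perm.mul_apply, Equiv.Perm.inv_eq_iff_eq]
    exact e.symm

/-- The orbit of a vector under the stabiliser of a configuration, when that stabiliser is
transitive on the constraint set of the vector. -/
theorem orbit_eq_XD {cs : List (leechLattice × ℤ)} (K : Subgroup ↥Co0)
    (hK : ∀ g : ↥Co0, g ∈ K ↔ FixS (g : Equiv.Perm leechLattice) cs)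
    (htrans : ∀ x ∈ XD cs, ∀ x' ∈ XD cs, ∃ g ∈ Co0, FixS g cs ∧ g x = x')
    {y : leechLattice} (hy : y ∈ XD cs) : MulAction.orbit ↥K y = XD cs := by
  ext z
  rw [MulAction.mem_orbit_iff]
  constructor
  · rintro ⟨k, rfl⟩
    exact XD_inv k.1.2 ((hK k.1).mp k.2) hy
  · intro hz
    obtain ⟨g, hg, hf, e⟩ := htrans y hy z hz
    exact ⟨⟨⟨g, hg⟩, (hK ⟨g, hg⟩).mpr hf⟩, e⟩

end Cfsg.Agent.H33
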