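import Mathlib
import Cfsg.Agent.H33.LMulti2
import Cfsg.Agent.H33.L112
import Cfsg.Agent.H33.L162

/-!
The stabiliser of a vector `u` of the second shell and a minimal vector `v` with `u - v`
minimal: its transitive action on 275 minimal vectors, of rank 3 with subdegrees 112 and 162.
-/

set_option autoImplicit false
set_option maxRecDepth 100000

namespace Cfsg.Agent.H33

open Cfsg Cfsg.Agent.H9 Cfsg.Agent.H93

theorem XD_two (u v : leechLattice) (d e : ℤ) (x : leechLattice) :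
    x ∈ XD [(u, d), (v, e)] ↔ sqNorm (x : GolayPt → ℤ) = 32 ∧
      dotInt (u : GolayPt → ℤ) (x : GolayPt → ℤ) = d ∧
      dotInt (v : GolayPt → ℤ) (x : GolayPt → ℤ) = e := by
  unfold XD
  simp only [Set.mem_setOf_eq, List.forall_mem_cons, List.not_mem_nil, false_imp_iff,
    implies_true, and_true]

theorem XD_three (u v w : leechLattice) (d e f : ℤ) (x : leechLattice) :
    x ∈ XD [(u, d), (v, e), (w, f)] ↔ sqNorm (x : GolayPt → ℤ) = 32 ∧
      dotInt (u : GolayPt → ℤ) (x : GolayPt → ℤ) = d ∧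
      dotInt (v : GolayPt → ℤ) (x : GolayPt → ℤ) = e ∧
      dotInt (w : GolayPt → ℤ) (x : GolayPt → ℤ) = f := by
  unfold XD
  simp only [Set.mem_setOf_eq, List.forall_mem_cons, List.not_mem_nil, false_imp_iff,
    implies_true, and_true]

theorem actC_append (g : Equiv.Perm leechLattice) (cs cs' : List (leechLattice × ℤ)) :
    actC g (cs ++ cs') = actC g cs ++ actC g cs' := List.map_append

theorem XD_sub_two (u v w : leechLattice) (d e f : ℤ) :
    XD [(u, d), (v, e), (w, f)] ⊆ XD [(u, d), (v, e)] :=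
  XD_mono (fun c hc => by
    simp only [List.mem_cons, List.not_mem_nil, or_false] at hc ⊢
    tauto)

/-- two minimal vectors with inner product 32 are equal -/
theorem eq_of_dot32 {x y : leechLattice} (hx : sqNorm (x : GolayPt → ℤ) = 32)
    (hy : sqNorm (y : GolayPt → ℤ) = 32)
    (h : dotInt (x : GolayPt → ℤ) (y : GolayPt → ℤ) = 32) : y = x := by
  have h0 : sqNorm ((x : GolayPt → ℤ) - (y : GolayPt → ℤ)) = 0 := by
    rw [lc_sqNorm_sub, hx, hy, h]; norm_num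
  exact Subtype.ext (sub_eq_zero.mp (lc_sqNorm_eq_zero h0)).symm

/-! ### The standard configuration -/

/-- the vector `(5, 1^23)` -/
def a48 : leechLattice := ⟨vec LF552A, LF552A_mem⟩

/-- the vector `(4, 4, 0^22)` -/
def b48 : leechLattice := ⟨vec LF552W, LF552W_mem⟩

/-- the vector `(4, 0, 4, 0^21)` -/
def x275 : leechLattice := ⟨vec L275W, L275W_mem⟩

theorem a48_sq : sqNorm (a48 : GolayPt → ℤ) = 48 := by
  show sqNorm (vec LF552A) = 48
  rw [sqNorm_vec, LF552A_sq]; rfl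

theorem L275_cs : csOf L275P (memL_of_chk L275_mem) = [(a48, 24), (b48, 16)] := by
  show [((⟨vec LF552A, _⟩ : leechLattice), ((393240 : ℕ) : ℤ) - 393216),
    ((⟨vec LF552W, _⟩ : leechLattice), ((393232 : ℕ) : ℤ) - 393216)] = _
  norm_num
  exact ⟨rfl, rfl⟩

theorem L275_level :
    (∀ x ∈ XD [(a48, 24), (b48, 16)], ∃ g ∈ Co0, FixS g [(a48, 24), (b48, 16)] ∧ g x275 = x) ∧
      (XD [(a48, 24), (b48, 16)]).ncard = 275 ∧
      ∀ x ∈ XD [(a48, 24), (b48, 16)], ∃ j < 275, (x : GolayPt → ℤ) = vec (fldW 192 L275E j) := by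
  have h := level_thm (memL_of_chk L275_mem) L275W_mem L275_gens L275_sorted L275_forest
    L275_root (E' := LF552E) (N' := 552)
    (by
      intro x hx
      rw [L275_cs, XD_two] at hx
      exact table_552 x ⟨hx.1, hx.2.1⟩)
    L275_count
  rw [L275_cs] at h
  exact h

/-- every such pair is conjugate to the standard one -/
theorem pair_to_std (u v : leechLattice) (hu : sqNorm (u : GolayPt → ℤ) = 48)
    (hv : v ∈ Xdot 24 u) : ∃ h ∈ Co0, actC h [(u, 24), (v, 16)] = [(a48, 24), (b48, 16)] := by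
  obtain ⟨h1, hh1, e1⟩ := co0_trans48 u a48 hu a48_sq
  have hv1 : h1 v ∈ Xdot 24 a48 := by
    have := Xdot_inv 24 h1 hh1 u v hv
    rwa [e1] at this
  obtain ⟨g, hg, ea, eb⟩ := stab_552.1 _ hv1
  have ea' : g⁻¹ a48 = a48 := by rw [Equiv.Perm.inv_eq_iff_eq]; exact ea.symm
  have eb' : g⁻¹ (h1 v) = b48 := by rw [Equiv.Perm.inv_eq_iff_eq]; exact eb.symm
  refine ⟨g⁻¹ * h1, mul_mem (inv_mem hg) hh1, ?_⟩
  show [((g⁻¹ * h1) u, (24 : ℤ)), ((g⁻¹ * h1) v, (16 : ℤ))] = _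
  rw [Equiv.Perm.mul_apply, Equiv.Perm.mul_apply, e1, ea', eb']

theorem xdot24_of (u x : leechLattice) (hu : sqNorm (u : GolayPt → ℤ) = 48)
    (hx : sqNorm (x : GolayPt → ℤ) = 32 ∧
      sqNorm ((u : GolayPt → ℤ) - (x : GolayPt → ℤ)) = 32) : x ∈ Xdot 24 u := by
  refine ⟨hx.1, ?_⟩
  have := lc_sqNorm_sub (u : GolayPt → ℤ) (x : GolayPt → ℤ)
  rw [hx.2, hu, hx.1] at this
  linarith

theorem set275_eq (u v : leechLattice) (hu : sqNorm (u : GolayPt → ℤ) = 48) :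
    {x : leechLattice | sqNorm (x : GolayPt → ℤ) = 32 ∧
      sqNorm ((u : GolayPt → ℤ) - (x : GolayPt → ℤ)) = 32 ∧
      dotInt (v : GolayPt → ℤ) (x : GolayPt → ℤ) = 16} = XD [(u, 24), (v, 16)] := by
  ext x
  rw [XD_two, Set.mem_setOf_eq]
  have key := lc_sqNorm_sub (u : GolayPt → ℤ) (x : GolayPt → ℤ)
  constructor
  · rintro ⟨h1, h2, h3⟩
    refine ⟨h1, ?_, h3⟩
    rw [h2, hu, h1] at key; linarith
  · rintro ⟨h1, h2, h3⟩
    refine ⟨h1, ?_, h3⟩
    rw [key, hu, h1, h2]; norm_num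

/-- The action on the 275 vectors. -/
theorem mcl_275 (u v : leechLattice) (hu : sqNorm (u : GolayPt → ℤ) = 48)
    (hv : sqNorm (v : GolayPt → ℤ) = 32 ∧
      sqNorm ((u : GolayPt → ℤ) - (v : GolayPt → ℤ)) = 32) :
    (XD [(u, 24), (v, 16)]).ncard = 275 ∧ ∀ x ∈ XD [(u, 24), (v, 16)],
      ∀ x' ∈ XD [(u, 24), (v, 16)], ∃ g ∈ Co0, g u = u ∧ g v = v ∧ g x = x' := by
  obtain ⟨h, hh, he⟩ := pair_to_std u v hu (xdot24_of u v hu hv)
  obtain ⟨hc, ht⟩ := level_transfer L275_level.1 L275_level.2.1 hh he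
  refine ⟨hc, fun x hx x' hx' => ?_⟩
  obtain ⟨g, hg, hf, e⟩ := ht x hx x' hx'
  exact ⟨g, hg, hf (u, 24) (by simp), hf (v, 16) (by simp), e⟩

/-! ### The point stabiliser -/

theorem L112_cs : csOf L112P (memL_of_chk L112_mem) = [(a48, 24), (b48, 16), (x275, 8)] := by
  show [((⟨vec LF552A, _⟩ : leechLattice), ((393240 : ℕ) : ℤ) - 393216),
    ((⟨vec LF552W, _⟩ : leechLattice), ((393232 : ℕ) : ℤ) - 393216),
    ((⟨vec L275W, _⟩ : leechLattice), ((393224 : ℕ) : ℤ) - 393216)] = _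
  norm_num
  exact ⟨rfl, rfl, rfl⟩

theorem L162_cs : csOf L162P (memL_of_chk L162_mem) = [(a48, 24), (b48, 16), (x275, 16)] := by
  show [((⟨vec LF552A, _⟩ : leechLattice), ((393240 : ℕ) : ℤ) - 393216),
    ((⟨vec LF552W, _⟩ : leechLattice), ((393232 : ℕ) : ℤ) - 393216),
    ((⟨vec L275W, _⟩ : leechLattice), ((393232 : ℕ) : ℤ) - 393216)] = _
  norm_num
  exact ⟨rfl, rfl, rfl⟩

theorem L112_level :
    (∀ x ∈ XD [(a48, 24), (b48, 16), (x275, 8)], ∃ g ∈ Co0,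
        FixS g [(a48, 24), (b48, 16), (x275, 8)] ∧ g ⟨vec L112W, L112W_mem⟩ = x) ∧
      (XD [(a48, 24), (b48, 16), (x275, 8)]).ncard = 112 := by
  have h := level_thm (memL_of_chk L112_mem) L112W_mem L112_gens L112_sorted L112_forest
    L112_root (E' := L275E) (N' := 275)
    (by
      intro x hx
      rw [L112_cs] at hx
      exact L275_level.2.2 x (XD_sub_two _ _ _ _ _ _ hx))
    L112_count
  rw [L112_cs] at h
  exact ⟨h.1, h.2.1⟩

theorem L162_level :
    (∀ x ∈ XD [(a48, 24), (b48, 16), (x275, 16)], ∃ g ∈ Co0,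
        FixS g [(a48, 24), (b48, 16), (x275, 16)] ∧ g ⟨vec L162W, L162W_mem⟩ = x) ∧
      (XD [(a48, 24), (b48, 16), (x275, 16)]).ncard = 162 := by
  have h := level_thm (memL_of_chk L162_mem) L162W_mem L162_gens L162_sorted L162_forest
    L162_root (E' := L275E) (N' := 275)
    (by
      intro x hx
      rw [L162_cs] at hx
      exact L275_level.2.2 x (XD_sub_two _ _ _ _ _ _ hx))
    L162_count
  rw [L162_cs] at h
  exact ⟨h.1, h.2.1⟩

theorem L275_valsB : allB (fun j => Nat.beq (dotV L275W (fldW 192 L275E j)) 393248 ||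
    (Nat.beq (dotV L275W (fldW 192 L275E j)) 393224 ||
      Nat.beq (dotV L275W (fldW 192 L275E j)) 393232)) 275 = true := by decide +kernel

theorem L275_vals : ∀ y ∈ XD [(a48, 24), (b48, 16)],
    dotInt (x275 : GolayPt → ℤ) (y : GolayPt → ℤ) = 32 ∨
    dotInt (x275 : GolayPt → ℤ) (y : GolayPt → ℤ) = 8 ∨
    dotInt (x275 : GolayPt → ℤ) (y : GolayPt → ℤ) = 16 := by
  intro y hy
  obtain ⟨D, hq, e⟩ := XD_dot_vals L275_level.2.2 L275W
    (fun D => Nat.beq D 393248 || (Nat.beq D 393224 || Nat.beq D 393232)) L275_valsB y hy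
  have e' : dotInt (x275 : GolayPt → ℤ) (y : GolayPt → ℤ) = (D : ℤ) - 393216 := e
  simp only [Bool.or_eq_true] at hq
  rcases hq with h | h | h
  · left; rw [e', Nat.eq_of_beq_eq_true h]; norm_num
  · right; left; rw [e', Nat.eq_of_beq_eq_true h]; norm_num
  · right; right; rw [e', Nat.eq_of_beq_eq_true h]; norm_num

/-- The rank 3 action on the 275 vectors. -/
theorem mcl_rank3 (u v x : leechLattice) (hu : sqNorm (u : GolayPt → ℤ) = 48)
    (hv : sqNorm (v : GolayPt → ℤ) = 32 ∧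
      sqNorm ((u : GolayPt → ℤ) - (v : GolayPt → ℤ)) = 32)
    (hx : x ∈ XD [(u, 24), (v, 16)]) :
    (XD [(u, 24), (v, 16), (x, 8)]).ncard = 112 ∧ (XD [(u, 24), (v, 16), (x, 16)]).ncard = 162 ∧
    (∀ y ∈ XD [(u, 24), (v, 16)], y ≠ x →
      dotInt (x : GolayPt → ℤ) (y : GolayPt → ℤ) = 8 ∨
      dotInt (x : GolayPt → ℤ) (y : GolayPt → ℤ) = 16) ∧
    ∀ d : ℤ, ∀ y ∈ XD [(u, 24), (v, 16), (x, d)], ∀ y' ∈ XD [(u, 24), (v, 16), (x, d)], y ≠ x →
      ∃ g ∈ Co0, g u = u ∧ g v = v ∧ g x = x ∧ g y = y' := by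
  obtain ⟨h0, hh0, he0⟩ := pair_to_std u v hu (xdot24_of u v hu hv)
  obtain ⟨h, hh, he, ex⟩ := extend_transfer L275_level.1 hh0 he0 hx
  have he3 : ∀ d : ℤ, actC h [(u, 24), (v, 16), (x, d)] = [(a48, 24), (b48, 16), (x275, d)] := by
    intro d
    show actC h ([(u, 24), (v, 16)] ++ [(x, d)]) = _
    rw [actC_append, he]
    show [(a48, (24 : ℤ)), (b48, (16 : ℤ))] ++ [(h x, d)] = _
    rw [ex]
    rfl
  have hvals : ∀ y ∈ XD [(u, 24), (v, 16)], y ≠ x →
      dotInt (x : GolayPt → ℤ) (y : GolayPt → ℤ) = 8 ∨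
      dotInt (x : GolayPt → ℤ) (y : GolayPt → ℤ) = 16 := by
    intro y hy hne
    have h1 : h y ∈ XD [(a48, 24), (b48, 16)] := he ▸ XD_act hh hy
    have h2 := L275_vals _ h1
    rw [← ex, co0_dot hh] at h2
    rcases h2 with h2 | h2 | h2
    · exact absurd (eq_of_dot32 hx.1 hy.1 h2) hne
    · exact Or.inl h2
    · exact Or.inr h2
  obtain ⟨c8, t8⟩ := level_transfer L112_level.1 L112_level.2 hh (he3 8)
  obtain ⟨c16, t16⟩ := level_transfer L162_level.1 L162_level.2 hh (he3 16)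
  refine ⟨c8, c16, hvals, ?_⟩
  intro d y hy y' hy' hne
  have hd := hvals y (XD_sub_two _ _ _ _ _ _ hy) hne
  have hdy : dotInt (x : GolayPt → ℤ) (y : GolayPt → ℤ) = d := ((XD_three _ _ _ _ _ _ _).mp hy).2.2.2
  rw [hdy] at hd
  rcases hd with rfl | rfl
  · obtain ⟨g, hg, hf, e⟩ := t8 y hy y' hy'
    exact ⟨g, hg, hf (u, 24) (by simp), hf (v, 16) (by simp), hf (x, 8) (by simp), e⟩
  · obtain ⟨g, hg, hf, e⟩ := t16 y hy y' hy'
    exact ⟨g, hg, hf (u, 24) (by simp), hf (v, 16) (by simp), hf (x, 16) (by simp), e⟩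

end Cfsg.Agent.H33
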