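import Mathlib
import Cfsg.Agent.H33.LMcL

/-!
A generic form of the rank 3 argument for the stabiliser of two vectors, and the action of
an automorphism on negatives.
-/

set_option autoImplicit false

namespace Cfsg.Agent.H33

open Cfsg Cfsg.Agent.H9 Cfsg.Agent.H93

theorem co0_map_zero {g : Equiv.Perm leechLattice} (hg : g ∈ Co0) : g 0 = 0 := by
  have := hg.1 0 0
  rw [add_zero] at this
  exact left_eq_add.mp this

theorem co0_map_neg {g : Equiv.Perm leechLattice} (hg : g ∈ Co0) (y : leechLattice) :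
    g (-y) = -g y := by
  have := hg.1 (-y) y
  rw [neg_add_cancel, co0_map_zero hg] at this
  exact eq_neg_of_add_eq_zero_left this.symm

theorem rank3_generic {a b x0 : leechLattice} {da db : ℤ} {N8 N16 : ℕ} {w8 w16 : leechLattice}
    (hvals : ∀ y ∈ XD [(a, da), (b, db)],
      dotInt (x0 : GolayPt → ℤ) (y : GolayPt → ℤ) = 32 ∨
      dotInt (x0 : GolayPt → ℤ) (y : GolayPt → ℤ) = 8 ∨
      dotInt (x0 : GolayPt → ℤ) (y : GolayPt → ℤ) = 16)
    (hstab2 : ∀ x ∈ XD [(a, da), (b, db)], ∃ g ∈ Co0, FixS g [(a, da), (b, db)] ∧ g x0 = x)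
    (h8 : (∀ x ∈ XD [(a, da), (b, db), (x0, 8)], ∃ g ∈ Co0,
        FixS g [(a, da), (b, db), (x0, 8)] ∧ g w8 = x) ∧
      (XD [(a, da), (b, db), (x0, 8)]).ncard = N8)
    (h16 : (∀ x ∈ XD [(a, da), (b, db), (x0, 16)], ∃ g ∈ Co0,
        FixS g [(a, da), (b, db), (x0, 16)] ∧ g w16 = x) ∧
      (XD [(a, da), (b, db), (x0, 16)]).ncard = N16)
    (u v x : leechLattice) {h0 : Equiv.Perm leechLattice} (hh0 : h0 ∈ Co0)
    (he0 : actC h0 [(u, da), (v, db)] = [(a, da), (b, db)]) (hx : x ∈ XD [(u, da), (v, db)]) :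
    (XD [(u, da), (v, db), (x, 8)]).ncard = N8 ∧ (XD [(u, da), (v, db), (x, 16)]).ncard = N16 ∧
    (∀ y ∈ XD [(u, da), (v, db)], y ≠ x →
      dotInt (x : GolayPt → ℤ) (y : GolayPt → ℤ) = 8 ∨
      dotInt (x : GolayPt → ℤ) (y : GolayPt → ℤ) = 16) ∧
    ∀ d : ℤ, ∀ y ∈ XD [(u, da), (v, db), (x, d)], ∀ y' ∈ XD [(u, da), (v, db), (x, d)], y ≠ x →
      ∃ g ∈ Co0, g u = u ∧ g v = v ∧ g x = x ∧ g y = y' := by
  obtain ⟨h, hh, he, ex⟩ := extend_transfer hstab2 hh0 he0 hx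
  have he3 : ∀ d : ℤ, actC h [(u, da), (v, db), (x, d)] = [(a, da), (b, db), (x0, d)] := by
    intro d
    show actC h ([(u, da), (v, db)] ++ [(x, d)]) = _
    rw [actC_append, he]
    show [(a, da), (b, db)] ++ [(h x, d)] = _
    rw [ex]
    rfl
  have hvals' : ∀ y ∈ XD [(u, da), (v, db)], y ≠ x →
      dotInt (x : GolayPt → ℤ) (y : GolayPt → ℤ) = 8 ∨
      dotInt (x : GolayPt → ℤ) (y : GolayPt → ℤ) = 16 := by
    intro y hy hne
    have h1 : h y ∈ XD [(a, da), (b, db)] := he ▸ XD_act hh hy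
    have h2 := hvals _ h1
    rw [← ex, co0_dot hh] at h2
    rcases h2 with h2 | h2 | h2
    · exact absurd (eq_of_dot32 hx.1 hy.1 h2) hne
    · exact Or.inl h2
    · exact Or.inr h2
  obtain ⟨c8, t8⟩ := level_transfer h8.1 h8.2 hh (he3 8)
  obtain ⟨c16, t16⟩ := level_transfer h16.1 h16.2 hh (he3 16)
  refine ⟨c8, c16, hvals', ?_⟩
  intro d y hy y' hy' hne
  have hd := hvals' y (XD_sub_two _ _ _ _ _ _ hy) hne
  have hdy : dotInt (x : GolayPt → ℤ) (y : GolayPt → ℤ) = d :=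
    ((XD_three _ _ _ _ _ _ _).mp hy).2.2.2
  rw [hdy] at hd
  rcases hd with rfl | rfl
  · obtain ⟨g, hg, hf, e⟩ := t8 y hy y' hy'
    exact ⟨g, hg, hf (u, da) (by simp), hf (v, db) (by simp), hf (x, 8) (by simp), e⟩
  · obtain ⟨g, hg, hf, e⟩ := t16 y hy y' hy'
    exact ⟨g, hg, hf (u, da) (by simp), hf (v, db) (by simp), hf (x, 16) (by simp), e⟩

end Cfsg.Agent.H33
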