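import Mathlib
import Cfsg.Agent.H33.LRank3
import Cfsg.Agent.H33.L22
import Cfsg.Agent.H33.L77

/-!
The stabiliser of two vectors `v`, `w` of the second shell with inner product `-32`: its
transitive action on 100 minimal vectors, of rank 3 with subdegrees 22 and 77.
-/

set_option autoImplicit false
set_option maxRecDepth 100000

namespace Cfsg.Agent.H33

open Cfsg Cfsg.Agent.H9 Cfsg.Agent.H93

/-- the packed vector `(-1, -5, -1^22)` -/
def LHSW : ℕ := 0x7f7f7f7f7f7f7f7f7f7f7f7f7f7f7f7f7f7f7f7f7f7f7b7f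

theorem LHSW_mem : vec LHSW ∈ leechLattice := vec_mem_of_chkL (by decide +kernel)

/-- the vector `(-1, -5, -1^22)` -/
def w48 : leechLattice := ⟨vec LHSW, LHSW_mem⟩

/-- the vector `(-4, 4, 0^22)` -/
def xh48 : leechLattice := ⟨vec LF11178W, LF11178W_mem⟩

/-- the vector `(4, 4, 0^22)` -/
def x100 : leechLattice := ⟨vec L100W, L100W_mem⟩

theorem LHS_add3 : vec LF11178A + vec LF11178W + vec LHSW = 0 := vec_add3 (by decide +kernel)

theorem w48_eq : w48 = -(a48 + xh48) := by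
  apply Subtype.ext
  show vec LHSW = -(vec LF552A + vec LF11178W)
  have h := LHS_add3
  have e : vec LF552A = vec LF11178A := rfl
  rw [e]
  exact eq_neg_of_add_eq_zero_right h

theorem L100_cs : csOf L100P (memL_of_chk L100_mem) = [(a48, 24), (w48, -24)] := by
  show [((⟨vec LF552A, _⟩ : leechLattice), ((393240 : ℕ) : ℤ) - 393216),
    ((⟨vec LHSW, _⟩ : leechLattice), ((393192 : ℕ) : ℤ) - 393216)] = _
  norm_num
  exact ⟨rfl, rfl⟩

theorem L100_level :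
    (∀ x ∈ XD [(a48, 24), (w48, -24)], ∃ g ∈ Co0, FixS g [(a48, 24), (w48, -24)] ∧ g x100 = x) ∧
      (XD [(a48, 24), (w48, -24)]).ncard = 100 ∧
      ∀ x ∈ XD [(a48, 24), (w48, -24)], ∃ j < 100, (x : GolayPt → ℤ) = vec (fldW 192 L100E j) := by
  have h := level_thm (memL_of_chk L100_mem) L100W_mem L100_gens L100_sorted L100_forest
    L100_root (E' := LF552E) (N' := 552)
    (by
      intro x hx
      rw [L100_cs, XD_two] at hx
      exact table_552 x ⟨hx.1, hx.2.1⟩)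
    L100_count
  rw [L100_cs] at h
  exact h

/-- every pair of vectors of the second shell with inner product `-32` is conjugate to the
standard one -/
theorem hs_pair_to_std (v w : leechLattice) (hv : sqNorm (v : GolayPt → ℤ) = 48)
    (hw : sqNorm (w : GolayPt → ℤ) = 48)
    (hvw : dotInt (v : GolayPt → ℤ) (w : GolayPt → ℤ) = -32) :
    ∃ h ∈ Co0, actC h [(v, 24), (w, -24)] = [(a48, 24), (w48, -24)] := by
  obtain ⟨h1, hh1, e1⟩ := co0_trans48 v a48 hv a48_sq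
  have hw1 : sqNorm ((h1 w : leechLattice) : GolayPt → ℤ) = 48 := by rw [hh1.2]; exact hw
  have hd1 : dotInt (a48 : GolayPt → ℤ) ((h1 w : leechLattice) : GolayPt → ℤ) = -32 := by
    rw [← e1, co0_dot hh1]; exact hvw
  have hx' : -(a48 + h1 w) ∈ Xdot (-16) a48 := by
    refine ⟨?_, ?_⟩
    · show sqNorm (-((a48 : GolayPt → ℤ) + ((h1 w : leechLattice) : GolayPt → ℤ))) = 32
      rw [sqNorm_neg, sqNorm_add, a48_sq, hw1, hd1]; norm_num
    · show dotInt (a48 : GolayPt → ℤ)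
        (-((a48 : GolayPt → ℤ) + ((h1 w : leechLattice) : GolayPt → ℤ))) = -16
      rw [lc_dot_neg_right, lc_dot_add_right, lc_dot_self, a48_sq, hd1]; norm_num
  obtain ⟨g, hg, ea, eb⟩ := stab_11178.1 _ hx'
  have ea' : g a48 = a48 := ea
  have eb' : g xh48 = -(a48 + h1 w) := eb
  have ew : g w48 = h1 w := by
    rw [w48_eq, co0_map_neg hg, hg.1, ea', eb']
    abel
  have ea'' : g⁻¹ a48 = a48 := by rw [Equiv.Perm.inv_eq_iff_eq]; exact ea'.symm
  have ew' : g⁻¹ (h1 w) = w48 := by rw [Equiv.Perm.inv_eq_iff_eq]; exact ew.symm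
  refine ⟨g⁻¹ * h1, mul_mem (inv_mem hg) hh1, ?_⟩
  show [((g⁻¹ * h1) v, (24 : ℤ)), ((g⁻¹ * h1) w, (-24 : ℤ))] = _
  rw [Equiv.Perm.mul_apply, Equiv.Perm.mul_apply, e1, ea'', ew']

/-- The action on the 100 vectors. -/
theorem hs_100 (v w : leechLattice) (hv : sqNorm (v : GolayPt → ℤ) = 48)
    (hw : sqNorm (w : GolayPt → ℤ) = 48)
    (hvw : dotInt (v : GolayPt → ℤ) (w : GolayPt → ℤ) = -32) :
    (XD [(v, 24), (w, -24)]).ncard = 100 ∧ ∀ x ∈ XD [(v, 24), (w, -24)],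
      ∀ x' ∈ XD [(v, 24), (w, -24)], ∃ g ∈ Co0, g v = v ∧ g w = w ∧ g x = x' := by
  obtain ⟨h, hh, he⟩ := hs_pair_to_std v w hv hw hvw
  obtain ⟨hc, ht⟩ := level_transfer L100_level.1 L100_level.2.1 hh he
  refine ⟨hc, fun x hx x' hx' => ?_⟩
  obtain ⟨g, hg, hf, e⟩ := ht x hx x' hx'
  exact ⟨g, hg, hf (v, 24) (by simp), hf (w, -24) (by simp), e⟩

/-! ### The point stabiliser -/

theorem L22_cs : csOf L22P (memL_of_chk L22_mem) = [(a48, 24), (w48, -24), (x100, 8)] := by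
  show [((⟨vec LF552A, _⟩ : leechLattice), ((393240 : ℕ) : ℤ) - 393216),
    ((⟨vec LHSW, _⟩ : leechLattice), ((393192 : ℕ) : ℤ) - 393216),
    ((⟨vec L100W, _⟩ : leechLattice), ((393224 : ℕ) : ℤ) - 393216)] = _
  norm_num
  exact ⟨rfl, rfl, rfl⟩

theorem L77_cs : csOf L77P (memL_of_chk L77_mem) = [(a48, 24), (w48, -24), (x100, 16)] := by
  show [((⟨vec LF552A, _⟩ : leechLattice), ((393240 : ℕ) : ℤ) - 393216),
    ((⟨vec LHSW, _⟩ : leechLattice), ((393192 : ℕ) : ℤ) - 393216),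
    ((⟨vec L100W, _⟩ : leechLattice), ((393232 : ℕ) : ℤ) - 393216)] = _
  norm_num
  exact ⟨rfl, rfl, rfl⟩

theorem L22_level :
    (∀ x ∈ XD [(a48, 24), (w48, -24), (x100, 8)], ∃ g ∈ Co0,
        FixS g [(a48, 24), (w48, -24), (x100, 8)] ∧ g ⟨vec L22W, L22W_mem⟩ = x) ∧
      (XD [(a48, 24), (w48, -24), (x100, 8)]).ncard = 22 := by
  have h := level_thm (memL_of_chk L22_mem) L22W_mem L22_gens L22_sorted L22_forest
    L22_root (E' := L100E) (N' := 100)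
    (by
      intro x hx
      rw [L22_cs] at hx
      exact L100_level.2.2 x (XD_sub_two _ _ _ _ _ _ hx))
    L22_count
  rw [L22_cs] at h
  exact ⟨h.1, h.2.1⟩

theorem L77_level :
    (∀ x ∈ XD [(a48, 24), (w48, -24), (x100, 16)], ∃ g ∈ Co0,
        FixS g [(a48, 24), (w48, -24), (x100, 16)] ∧ g ⟨vec L77W, L77W_mem⟩ = x) ∧
      (XD [(a48, 24), (w48, -24), (x100, 16)]).ncard = 77 := by
  have h := level_thm (memL_of_chk L77_mem) L77W_mem L77_gens L77_sorted L77_forest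
    L77_root (E' := L100E) (N' := 100)
    (by
      intro x hx
      rw [L77_cs] at hx
      exact L100_level.2.2 x (XD_sub_two _ _ _ _ _ _ hx))
    L77_count
  rw [L77_cs] at h
  exact ⟨h.1, h.2.1⟩

theorem L100_valsB : allB (fun j => Nat.beq (dotV L100W (fldW 192 L100E j)) 393248 ||
    (Nat.beq (dotV L100W (fldW 192 L100E j)) 393224 ||
      Nat.beq (dotV L100W (fldW 192 L100E j)) 393232)) 100 = true := by decide +kernel

theorem L100_vals : ∀ y ∈ XD [(a48, 24), (w48, -24)],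
    dotInt (x100 : GolayPt → ℤ) (y : GolayPt → ℤ) = 32 ∨
    dotInt (x100 : GolayPt → ℤ) (y : GolayPt → ℤ) = 8 ∨
    dotInt (x100 : GolayPt → ℤ) (y : GolayPt → ℤ) = 16 := by
  intro y hy
  obtain ⟨D, hq, e⟩ := XD_dot_vals L100_level.2.2 L100W
    (fun D => Nat.beq D 393248 || (Nat.beq D 393224 || Nat.beq D 393232)) L100_valsB y hy
  have e' : dotInt (x100 : GolayPt → ℤ) (y : GolayPt → ℤ) = (D : ℤ) - 393216 := e
  simp only [Bool.or_eq_true] at hq
  rcases hq with h | h | h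
  · left; rw [e', Nat.eq_of_beq_eq_true h]; norm_num
  · right; left; rw [e', Nat.eq_of_beq_eq_true h]; norm_num
  · right; right; rw [e', Nat.eq_of_beq_eq_true h]; norm_num

/-- The rank 3 action on the 100 vectors. -/
theorem hs_rank3 (v w x : leechLattice) (hv : sqNorm (v : GolayPt → ℤ) = 48)
    (hw : sqNorm (w : GolayPt → ℤ) = 48)
    (hvw : dotInt (v : GolayPt → ℤ) (w : GolayPt → ℤ) = -32)
    (hx : x ∈ XD [(v, 24), (w, -24)]) :
    (XD [(v, 24), (w, -24), (x, 8)]).ncard = 22 ∧ (XD [(v, 24), (w, -24), (x, 16)]).ncard = 77 ∧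
    (∀ y ∈ XD [(v, 24), (w, -24)], y ≠ x →
      dotInt (x : GolayPt → ℤ) (y : GolayPt → ℤ) = 8 ∨
      dotInt (x : GolayPt → ℤ) (y : GolayPt → ℤ) = 16) ∧
    ∀ d : ℤ, ∀ y ∈ XD [(v, 24), (w, -24), (x, d)], ∀ y' ∈ XD [(v, 24), (w, -24), (x, d)], y ≠ x →
      ∃ g ∈ Co0, g v = v ∧ g w = w ∧ g x = x ∧ g y = y' := by
  obtain ⟨h0, hh0, he0⟩ := hs_pair_to_std v w hv hw hvw
  exact rank3_generic L100_vals L100_level.1 L22_level L77_level v w x hh0 he0 hx

theorem s1583_aux (v w : leechLattice) (hv : sqNorm (v : GolayPt → ℤ) = 48)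
    (hw : sqNorm (w : GolayPt → ℤ) = 48)
    (hvw : dotInt (v : GolayPt → ℤ) (w : GolayPt → ℤ) = -32)
    (S : Set leechLattice) (hS : S = XD [(v, 24), (w, -24)]) :
    S.ncard = 100 ∧ ∀ x ∈ S, ∀ x' ∈ S, ∃ g : ↥Co0, g • v = v ∧ g • w = w ∧ g • x = x' := by
  subst hS
  obtain ⟨hc, ht⟩ := hs_100 v w hv hw hvw
  refine ⟨hc, fun x hx x' hx' => ?_⟩
  obtain ⟨g, hg, e1, e2, e3⟩ := ht x hx x' hx'
  exact ⟨⟨g, hg⟩, e1, e2, e3⟩

theorem s1584_aux (v w x : leechLattice) (hv : sqNorm (v : GolayPt → ℤ) = 48)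
    (hw : sqNorm (w : GolayPt → ℤ) = 48)
    (hvw : dotInt (v : GolayPt → ℤ) (w : GolayPt → ℤ) = -32)
    (S : Set leechLattice) (hS : S = XD [(v, 24), (w, -24)]) (hx : x ∈ S) :
    {y : leechLattice | y ∈ S ∧ dotInt (x : GolayPt → ℤ) (y : GolayPt → ℤ) = 8}.ncard = 22 ∧
    {y : leechLattice | y ∈ S ∧ y ≠ x ∧
      dotInt (x : GolayPt → ℤ) (y : GolayPt → ℤ) ≠ 8}.ncard = 77 ∧
    ∀ y ∈ S, ∀ y' ∈ S, y ≠ x → y' ≠ x →
      (dotInt (x : GolayPt → ℤ) (y : GolayPt → ℤ) = 8 ↔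
        dotInt (x : GolayPt → ℤ) (y' : GolayPt → ℤ) = 8) →
      ∃ g : ↥Co0, g • v = v ∧ g • w = w ∧ g • x = x ∧ g • y = y' := by
  subst hS
  obtain ⟨c8, c16, hvals, ht⟩ := hs_rank3 v w x hv hw hvw hx
  have eA : {y : leechLattice | y ∈ XD [(v, 24), (w, -24)] ∧
      dotInt (x : GolayPt → ℤ) (y : GolayPt → ℤ) = 8} = XD [(v, 24), (w, -24), (x, 8)] := by
    ext y
    rw [XD_three, Set.mem_setOf_eq, XD_two]
    tauto
  have eB : {y : leechLattice | y ∈ XD [(v, 24), (w, -24)] ∧ y ≠ x ∧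
      dotInt (x : GolayPt → ℤ) (y : GolayPt → ℤ) ≠ 8} = XD [(v, 24), (w, -24), (x, 16)] := by
    ext y
    constructor
    · rintro ⟨h1, h2, h3⟩
      have h4 := hvals y h1 h2
      rw [XD_two] at h1
      rw [XD_three]
      rcases h4 with h4 | h4
      · exact absurd h4 h3
      · exact ⟨h1.1, h1.2.1, h1.2.2, h4⟩
    · intro hy
      rw [XD_three] at hy
      obtain ⟨h1, h2, h3, h4⟩ := hy
      refine ⟨(XD_two _ _ _ _ _).mpr ⟨h1, h2, h3⟩, ?_, by rw [h4]; norm_num⟩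
      rintro rfl
      rw [lc_dot_self, h1] at h4
      norm_num at h4
  rw [eA, eB]
  refine ⟨c8, c16, ?_⟩
  intro y hy y' hy' hne hne' hd
  have hv1 := hvals y hy hne
  have hv2 := hvals y' hy' hne'
  rw [XD_two] at hy hy'
  have key : dotInt (x : GolayPt → ℤ) (y' : GolayPt → ℤ)
      = dotInt (x : GolayPt → ℤ) (y : GolayPt → ℤ) := by
    rcases hv1 with h1 | h1
    · rw [h1, hd.mp h1]
    · rcases hv2 with h2 | h2
      · have := hd.mpr h2
        rw [h1] at this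
        norm_num at this
      · rw [h1, h2]
  have hy3 : y ∈ XD [(v, 24), (w, -24), (x, dotInt (x : GolayPt → ℤ) (y : GolayPt → ℤ))] :=
    (XD_three _ _ _ _ _ _ _).mpr ⟨hy.1, hy.2.1, hy.2.2, rfl⟩
  have hy3' : y' ∈ XD [(v, 24), (w, -24), (x, dotInt (x : GolayPt → ℤ) (y : GolayPt → ℤ))] :=
    (XD_three _ _ _ _ _ _ _).mpr ⟨hy'.1, hy'.2.1, hy'.2.2, key⟩
  obtain ⟨g, hg, e1, e2, e3, e4⟩ := ht _ y hy3 y' hy3' hne
  exact ⟨⟨g, hg⟩, e1, e2, e3, e4⟩

end Cfsg.Agent.H33
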