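import Mathlib
import Cfsg.Agent.H33.LHS
import Cfsg.Agent.H33.L352
import Cfsg.Agent.H33.L1100
import Cfsg.Agent.H33.L4125
import Cfsg.Agent.H33.L5600

/-!
The stabiliser of a vector `u` of the second shell and a minimal vector `x` with `⟨u, x⟩ = -16`:
its four nontrivial orbits, of lengths 352, 1100, 4125 and 5600, on the 11178 minimal vectors of
inner product `-16` with `u`.
-/

set_option autoImplicit false
set_option maxRecDepth 100000

namespace Cfsg.Agent.H33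

open Cfsg Cfsg.Agent.H9 Cfsg.Agent.H93

theorem XD_one (u : leechLattice) (d : ℤ) (x : leechLattice) :
    x ∈ XD [(u, d)] ↔ sqNorm (x : GolayPt → ℤ) = 32 ∧
      dotInt (u : GolayPt → ℤ) (x : GolayPt → ℤ) = d := by
  unfold XD
  simp only [Set.mem_setOf_eq, List.forall_mem_cons, List.not_mem_nil, false_imp_iff,
    implies_true, and_true]

theorem XD_sub_one (u v : leechLattice) (d e : ℤ) : XD [(u, d), (v, e)] ⊆ XD [(u, d)] :=
  XD_mono (fun c hc => by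
    simp only [List.mem_cons, List.not_mem_nil, or_false] at hc ⊢
    tauto)

theorem fixS_two (g : Equiv.Perm leechLattice) (v w : leechLattice) (d e : ℤ) :
    FixS g [(v, d), (w, e)] ↔ g v = v ∧ g w = w := by
  unfold FixS
  simp only [List.forall_mem_cons, List.not_mem_nil, false_imp_iff, implies_true, and_true]

theorem L352_cs : csOf L352P (memL_of_chk L352_mem) = [(a48, -16), (xh48, -8)] := by
  show [((⟨vec LF552A, _⟩ : leechLattice), ((393200 : ℕ) : ℤ) - 393216),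
    ((⟨vec LF11178W, _⟩ : leechLattice), ((393208 : ℕ) : ℤ) - 393216)] = _
  norm_num
  exact ⟨rfl, rfl⟩

theorem L1100_cs : csOf L1100P (memL_of_chk L1100_mem) = [(a48, -16), (xh48, 16)] := by
  show [((⟨vec LF552A, _⟩ : leechLattice), ((393200 : ℕ) : ℤ) - 393216),
    ((⟨vec LF11178W, _⟩ : leechLattice), ((393232 : ℕ) : ℤ) - 393216)] = _
  norm_num
  exact ⟨rfl, rfl⟩

theorem L4125_cs : csOf L4125P (memL_of_chk L4125_mem) = [(a48, -16), (xh48, 0)] := by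
  show [((⟨vec LF552A, _⟩ : leechLattice), ((393200 : ℕ) : ℤ) - 393216),
    ((⟨vec LF11178W, _⟩ : leechLattice), ((393216 : ℕ) : ℤ) - 393216)] = _
  norm_num
  exact ⟨rfl, rfl⟩

theorem L5600_cs : csOf L5600P (memL_of_chk L5600_mem) = [(a48, -16), (xh48, 8)] := by
  show [((⟨vec LF552A, _⟩ : leechLattice), ((393200 : ℕ) : ℤ) - 393216),
    ((⟨vec LF11178W, _⟩ : leechLattice), ((393224 : ℕ) : ℤ) - 393216)] = _
  norm_num
  exact ⟨rfl, rfl⟩

theorem co3_par (d : ℤ) : ∀ x ∈ XD [(a48, -16), (xh48, d)],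
    ∃ j < 11178, (x : GolayPt → ℤ) = vec (fldW 192 LF11178E j) := by
  intro x hx
  rw [XD_two] at hx
  exact table_11178 x ⟨hx.1, hx.2.1⟩

theorem L352_level :
    (∀ x ∈ XD [(a48, -16), (xh48, -8)], ∃ g ∈ Co0,
        FixS g [(a48, -16), (xh48, -8)] ∧ g ⟨vec L352W, L352W_mem⟩ = x) ∧
      (XD [(a48, -16), (xh48, -8)]).ncard = 352 := by
  have h := level_thm (memL_of_chk L352_mem) L352W_mem L352_gens L352_sorted L352_forest
    L352_root (E' := LF11178E) (N' := 11178)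
    (by rw [L352_cs]; exact co3_par (-8)) L352_count
  rw [L352_cs] at h
  exact ⟨h.1, h.2.1⟩

theorem L1100_level :
    (∀ x ∈ XD [(a48, -16), (xh48, 16)], ∃ g ∈ Co0,
        FixS g [(a48, -16), (xh48, 16)] ∧ g ⟨vec L1100W, L1100W_mem⟩ = x) ∧
      (XD [(a48, -16), (xh48, 16)]).ncard = 1100 := by
  have h := level_thm (memL_of_chk L1100_mem) L1100W_mem L1100_gens L1100_sorted L1100_forest
    L1100_root (E' := LF11178E) (N' := 11178)
    (by rw [L1100_cs]; exact co3_par 16) L1100_count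
  rw [L1100_cs] at h
  exact ⟨h.1, h.2.1⟩

theorem L4125_level :
    (∀ x ∈ XD [(a48, -16), (xh48, 0)], ∃ g ∈ Co0,
        FixS g [(a48, -16), (xh48, 0)] ∧ g ⟨vec L4125W, L4125W_mem⟩ = x) ∧
      (XD [(a48, -16), (xh48, 0)]).ncard = 4125 := by
  have h := level_thm (memL_of_chk L4125_mem) L4125W_mem L4125_gens L4125_sorted L4125_forest
    L4125_root (E' := LF11178E) (N' := 11178)
    (by rw [L4125_cs]; exact co3_par 0) L4125_count
  rw [L4125_cs] at h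
  exact ⟨h.1, h.2.1⟩

theorem L5600_level :
    (∀ x ∈ XD [(a48, -16), (xh48, 8)], ∃ g ∈ Co0,
        FixS g [(a48, -16), (xh48, 8)] ∧ g ⟨vec L5600W, L5600W_mem⟩ = x) ∧
      (XD [(a48, -16), (xh48, 8)]).ncard = 5600 := by
  have h := level_thm (memL_of_chk L5600_mem) L5600W_mem L5600_gens L5600_sorted L5600_forest
    L5600_root (E' := LF11178E) (N' := 11178)
    (by rw [L5600_cs]; exact co3_par 8) L5600_count
  rw [L5600_cs] at h
  exact ⟨h.1, h.2.1⟩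

theorem co3_valsB : allB (fun j => Nat.beq (dotV LF11178W (fldW 192 LF11178E j)) 393248 ||
    (Nat.beq (dotV LF11178W (fldW 192 LF11178E j)) 393208 ||
    (Nat.beq (dotV LF11178W (fldW 192 LF11178E j)) 393232 ||
    (Nat.beq (dotV LF11178W (fldW 192 LF11178E j)) 393216 ||
      Nat.beq (dotV LF11178W (fldW 192 LF11178E j)) 393224)))) 11178 = true := by decide +kernel

theorem co3_vals : ∀ y ∈ XD [(a48, -16)],
    dotInt (xh48 : GolayPt → ℤ) (y : GolayPt → ℤ) = 32 ∨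
    dotInt (xh48 : GolayPt → ℤ) (y : GolayPt → ℤ) = -8 ∨
    dotInt (xh48 : GolayPt → ℤ) (y : GolayPt → ℤ) = 16 ∨
    dotInt (xh48 : GolayPt → ℤ) (y : GolayPt → ℤ) = 0 ∨
    dotInt (xh48 : GolayPt → ℤ) (y : GolayPt → ℤ) = 8 := by
  intro y hy
  rw [XD_one] at hy
  obtain ⟨D, hq, e⟩ := XD_dot_vals table_11178 LF11178W
    (fun D => Nat.beq D 393248 || (Nat.beq D 393208 || (Nat.beq D 393232 ||
      (Nat.beq D 393216 || Nat.beq D 393224)))) co3_valsB y ⟨hy.1, hy.2⟩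
  have e' : dotInt (xh48 : GolayPt → ℤ) (y : GolayPt → ℤ) = (D : ℤ) - 393216 := e
  simp only [Bool.or_eq_true] at hq
  rcases hq with h | h | h | h | h
  · left; rw [e', Nat.eq_of_beq_eq_true h]; norm_num
  · right; left; rw [e', Nat.eq_of_beq_eq_true h]; norm_num
  · right; right; left; rw [e', Nat.eq_of_beq_eq_true h]; norm_num
  · right; right; right; left; rw [e', Nat.eq_of_beq_eq_true h]; norm_num
  · right; right; right; right; rw [e', Nat.eq_of_beq_eq_true h]; norm_num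

/-- every such pair is conjugate to the standard one -/
theorem co3_pair_to_std (u x : leechLattice) (hu : sqNorm (u : GolayPt → ℤ) = 48)
    (hx : x ∈ XD [(u, -16)]) : ∃ h ∈ Co0, h u = a48 ∧ h x = xh48 := by
  rw [XD_one] at hx
  obtain ⟨h1, hh1, e1⟩ := co0_trans48 u a48 hu a48_sq
  have hx1 : h1 x ∈ Xdot (-16) a48 := by
    have := Xdot_inv (-16) h1 hh1 u x ⟨hx.1, hx.2⟩
    rwa [e1] at this
  obtain ⟨g, hg, ea, eb⟩ := stab_11178.1 _ hx1
  have ea' : g⁻¹ a48 = a48 := by rw [Equiv.Perm.inv_eq_iff_eq]; exact ea.symm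
  have eb' : g⁻¹ (h1 x) = xh48 := by rw [Equiv.Perm.inv_eq_iff_eq]; exact eb.symm
  refine ⟨g⁻¹ * h1, mul_mem (inv_mem hg) hh1, ?_, ?_⟩
  · rw [Equiv.Perm.mul_apply, e1, ea']
  · rw [Equiv.Perm.mul_apply, eb']

/-- The suborbits of the action on the 11178 vectors. -/
theorem co3_rank5 (u x : leechLattice) (hu : sqNorm (u : GolayPt → ℤ) = 48)
    (hx : x ∈ XD [(u, -16)]) :
    ((XD [(u, -16), (x, -8)]).ncard = 352 ∧ ∀ y ∈ XD [(u, -16), (x, -8)],
      ∀ y' ∈ XD [(u, -16), (x, -8)], ∃ g ∈ Co0, FixS g [(u, -16), (x, -8)] ∧ g y = y') ∧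
    ((XD [(u, -16), (x, 16)]).ncard = 1100 ∧ ∀ y ∈ XD [(u, -16), (x, 16)],
      ∀ y' ∈ XD [(u, -16), (x, 16)], ∃ g ∈ Co0, FixS g [(u, -16), (x, 16)] ∧ g y = y') ∧
    ((XD [(u, -16), (x, 0)]).ncard = 4125 ∧ ∀ y ∈ XD [(u, -16), (x, 0)],
      ∀ y' ∈ XD [(u, -16), (x, 0)], ∃ g ∈ Co0, FixS g [(u, -16), (x, 0)] ∧ g y = y') ∧
    ((XD [(u, -16), (x, 8)]).ncard = 5600 ∧ ∀ y ∈ XD [(u, -16), (x, 8)],
      ∀ y' ∈ XD [(u, -16), (x, 8)], ∃ g ∈ Co0, FixS g [(u, -16), (x, 8)] ∧ g y = y') ∧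
    ∀ y ∈ XD [(u, -16)], y = x ∨
      dotInt (x : GolayPt → ℤ) (y : GolayPt → ℤ) = -8 ∨
      dotInt (x : GolayPt → ℤ) (y : GolayPt → ℤ) = 16 ∨
      dotInt (x : GolayPt → ℤ) (y : GolayPt → ℤ) = 0 ∨
      dotInt (x : GolayPt → ℤ) (y : GolayPt → ℤ) = 8 := by
  obtain ⟨h, hh, eu, ex⟩ := co3_pair_to_std u x hu hx
  have he : ∀ d : ℤ, actC h [(u, -16), (x, d)] = [(a48, -16), (xh48, d)] := by
    intro d
    show [(h u, (-16 : ℤ)), (h x, d)] = _
    rw [eu, ex]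
  have he1 : actC h [(u, -16)] = [(a48, -16)] := by
    show [(h u, (-16 : ℤ))] = _
    rw [eu]
  refine ⟨level_transfer L352_level.1 L352_level.2 hh (he (-8)),
    level_transfer L1100_level.1 L1100_level.2 hh (he 16),
    level_transfer L4125_level.1 L4125_level.2 hh (he 0),
    level_transfer L5600_level.1 L5600_level.2 hh (he 8), ?_⟩
  intro y hy
  have h1 : h y ∈ XD [(a48, -16)] := he1 ▸ XD_act hh hy
  have h2 := co3_vals _ h1
  rw [← ex, co0_dot hh] at h2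
  rw [XD_one] at hx hy
  rcases h2 with h2 | h2
  · exact Or.inl (eq_of_dot32 hx.1 hy.1 h2)
  · exact Or.inr h2

theorem s1641_aux (u x : leechLattice) (hu : sqNorm (u : GolayPt → ℤ) = 48)
    (S : Set leechLattice) (hS : S = XD [(u, -16)]) (hx : x ∈ S) :
    ∃ y₁ ∈ S, ∃ y₂ ∈ S, ∃ y₃ ∈ S, ∃ y₄ ∈ S,
      (MulAction.orbit ↥(MulAction.stabilizer ↥Co0 u ⊓ MulAction.stabilizer ↥Co0 x) y₁).ncard
        = 352 ∧
      (MulAction.orbit ↥(MulAction.stabilizer ↥Co0 u ⊓ MulAction.stabilizer ↥Co0 x) y₂).ncard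
        = 1100 ∧
      (MulAction.orbit ↥(MulAction.stabilizer ↥Co0 u ⊓ MulAction.stabilizer ↥Co0 x) y₃).ncard
        = 4125 ∧
      (MulAction.orbit ↥(MulAction.stabilizer ↥Co0 u ⊓ MulAction.stabilizer ↥Co0 x) y₄).ncard
        = 5600 ∧
      S = {x} ∪ MulAction.orbit ↥(MulAction.stabilizer ↥Co0 u ⊓ MulAction.stabilizer ↥Co0 x) y₁ ∪
        MulAction.orbit ↥(MulAction.stabilizer ↥Co0 u ⊓ MulAction.stabilizer ↥Co0 x) y₂ ∪
        MulAction.orbit ↥(MulAction.stabilizer ↥Co0 u ⊓ MulAction.stabilizer ↥Co0 x) y₃ ∪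
        MulAction.orbit ↥(MulAction.stabilizer ↥Co0 u ⊓ MulAction.stabilizer ↥Co0 x) y₄ := by
  subst hS
  obtain ⟨⟨c1, t1⟩, ⟨c2, t2⟩, ⟨c3, t3⟩, ⟨c4, t4⟩, hv⟩ := co3_rank5 u x hu hx
  have hK : ∀ (d : ℤ) (g : ↥Co0),
      g ∈ (MulAction.stabilizer ↥Co0 u ⊓ MulAction.stabilizer ↥Co0 x) ↔
        FixS (g : Equiv.Perm leechLattice) [(u, -16), (x, d)] := by
    intro d g
    rw [fixS_two, Subgroup.mem_inf, MulAction.mem_stabilizer_iff, MulAction.mem_stabilizer_iff]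
    rfl
  obtain ⟨y1, hy1⟩ : (XD [(u, -16), (x, -8)]).Nonempty :=
    Set.nonempty_of_ncard_ne_zero (by rw [c1]; norm_num)
  obtain ⟨y2, hy2⟩ : (XD [(u, -16), (x, 16)]).Nonempty :=
    Set.nonempty_of_ncard_ne_zero (by rw [c2]; norm_num)
  obtain ⟨y3, hy3⟩ : (XD [(u, -16), (x, 0)]).Nonempty :=
    Set.nonempty_of_ncard_ne_zero (by rw [c3]; norm_num)
  obtain ⟨y4, hy4⟩ : (XD [(u, -16), (x, 8)]).Nonempty :=
    Set.nonempty_of_ncard_ne_zero (by rw [c4]; norm_num)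
  have o1 := orbit_eq_XD _ (hK (-8)) t1 hy1
  have o2 := orbit_eq_XD _ (hK 16) t2 hy2
  have o3 := orbit_eq_XD _ (hK 0) t3 hy3
  have o4 := orbit_eq_XD _ (hK 8) t4 hy4
  refine ⟨y1, XD_sub_one _ _ _ _ hy1, y2, XD_sub_one _ _ _ _ hy2, y3, XD_sub_one _ _ _ _ hy3,
    y4, XD_sub_one _ _ _ _ hy4, ?_, ?_, ?_, ?_, ?_⟩
  · rw [o1, c1]
  · rw [o2, c2]
  · rw [o3, c3]
  · rw [o4, c4]
  · rw [o1, o2, o3, o4]
    ext y
    simp only [Set.mem_union, Set.mem_singleton_iff]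
    constructor
    · intro hy
      have hy' := (XD_one _ _ _).mp hy
      rcases hv y hy with h | h | h | h | h
      · exact Or.inl (Or.inl (Or.inl (Or.inl h)))
      · exact Or.inl (Or.inl (Or.inl (Or.inr ((XD_two _ _ _ _ _).mpr ⟨hy'.1, hy'.2, h⟩))))
      · exact Or.inl (Or.inl (Or.inr ((XD_two _ _ _ _ _).mpr ⟨hy'.1, hy'.2, h⟩)))
      · exact Or.inl (Or.inr ((XD_two _ _ _ _ _).mpr ⟨hy'.1, hy'.2, h⟩))
      · exact Or.inr ((XD_two _ _ _ _ _).mpr ⟨hy'.1, hy'.2, h⟩)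
    · rintro ((((h | h) | h) | h) | h)
      · rw [h]; exact hx
      · exact XD_sub_one _ _ _ _ h
      · exact XD_sub_one _ _ _ _ h
      · exact XD_sub_one _ _ _ _ h
      · exact XD_sub_one _ _ _ _ h

end Cfsg.Agent.H33
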