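import Mathlib
import Cfsg.Agent.S0397
import Cfsg.Agent.H33.LMulti2
import Cfsg.Agent.H33.LCountSets

/-!
Orders of vector stabilisers in the automorphism group of the lattice, by the orbit-stabiliser
theorem.
-/

set_option autoImplicit false

namespace Cfsg.Agent.H33

open Cfsg Cfsg.Agent.H9 Cfsg.Agent.H93

instance co0_finite : Finite ↥Co0 :=
  Nat.finite_of_card_ne_zero (by rw [Cfsg.Agent.S0397.result]; norm_num)

/-- orbit-stabiliser inside a subgroup -/
theorem card_stab_sub {G β : Type*} [Group G] [MulAction G β] (K : Subgroup G) (y : β) :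
    Nat.card ↥K = (MulAction.orbit ↥K y).ncard * Nat.card ↥(MulAction.stabilizer ↥K y) := by
  rw [← Nat.card_coe_set_eq, ← Nat.card_prod]
  exact Nat.card_congr (MulAction.orbitProdStabilizerEquivGroup ↥K y).symm

/-- orbit-stabiliser inside a subgroup, the stabiliser as an intersection -/
theorem card_inf_stab {G β : Type*} [Group G] [MulAction G β] (K : Subgroup G) (y : β) :
    Nat.card ↥K = (MulAction.orbit ↥K y).ncard * Nat.card ↥(K ⊓ MulAction.stabilizer G y) := by
  rw [card_stab_sub K y]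
  congr 1
  exact Nat.card_congr ⟨fun k => ⟨k.1.1, ⟨k.1.2, k.2⟩⟩, fun g => ⟨⟨g.1, g.2.1⟩, g.2.2⟩,
    fun _ => rfl, fun _ => rfl⟩

/-- orbit-stabiliser in the whole group -/
theorem card_stab_top {G β : Type*} [Group G] [MulAction G β] (y : β) :
    Nat.card G = (MulAction.orbit G y).ncard * Nat.card ↥(MulAction.stabilizer G y) := by
  rw [← Nat.card_coe_set_eq, ← Nat.card_prod]
  exact Nat.card_congr (MulAction.orbitProdStabilizerEquivGroup G y).symm

/-- conjugate subgroups are isomorphic -/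
noncomputable def conjEquiv {G : Type*} [Group G] (K K' : Subgroup G) (h : G)
    (hK : ∀ g, g ∈ K ↔ h * g * h⁻¹ ∈ K') : ↥K ≃* ↥K' where
  toFun g := ⟨h * g.1 * h⁻¹, (hK g.1).mp g.2⟩
  invFun g := ⟨h⁻¹ * g.1 * h, (hK _).mpr (by
    have : h * (h⁻¹ * g.1 * h) * h⁻¹ = g.1 := by group
    rw [this]; exact g.2)⟩
  left_inv g := Subtype.ext (by show h⁻¹ * (h * g.1 * h⁻¹) * h = g.1; group)
  right_inv g := Subtype.ext (by show h * (h⁻¹ * g.1 * h) * h⁻¹ = g.1; group)
  map_mul' a b := Subtype.ext (by show h * (a.1 * b.1) * h⁻¹ = (h * a.1 * h⁻¹) * (h * b.1 * h⁻¹); group)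

theorem simple_of_mulEquiv {A B : Type*} [Group A] [Group B] (e : A ≃* B) (hB : IsSimpleGroup B) :
    IsSimpleGroup A := by
  have : Nontrivial A := e.toEquiv.nontrivial
  exact IsSimpleGroup.isSimpleGroup_of_surjective e.symm.toMonoidHom e.symm.surjective

/-! ### The shells as sets of lattice vectors -/

open Classical in
theorem ncard_shell (N : ℕ) (hN : N ≤ 64) :
    {x : leechLattice | sqNorm (x : GolayPt → ℤ) = N}.ncard = (V N).card := by
  rw [← Set.ncard_coe_finset, ← Set.ncard_image_of_injective _ Subtype.val_injective]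
  congr 1
  ext w
  simp only [Set.mem_image, Set.mem_setOf_eq, Finset.mem_coe, mem_V hN]
  constructor
  · rintro ⟨x, h1, rfl⟩; exact ⟨x.2, h1⟩
  · rintro ⟨h1, h2⟩; exact ⟨⟨w, h1⟩, h2, rfl⟩

theorem co0_smul_def (g : ↥Co0) (x : leechLattice) : g • x = (g : Equiv.Perm leechLattice) x := rfl

theorem orbit_shell48 (u : leechLattice) (hu : sqNorm (u : GolayPt → ℤ) = 48) :
    MulAction.orbit ↥Co0 u = {x : leechLattice | sqNorm (x : GolayPt → ℤ) = ((48 : ℕ) : ℤ)} := by
  ext x
  constructor
  · rintro ⟨g, rfl⟩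
    show sqNorm (((g : Equiv.Perm leechLattice) u : leechLattice) : GolayPt → ℤ) = _
    rw [g.2.2]; exact_mod_cast hu
  · intro hx
    obtain ⟨g, hg, e⟩ := co0_trans48 u x hu (by exact_mod_cast hx)
    exact ⟨⟨g, hg⟩, e⟩

theorem orbit_shell32 (u : leechLattice) (hu : sqNorm (u : GolayPt → ℤ) = 32) :
    MulAction.orbit ↥Co0 u = {x : leechLattice | sqNorm (x : GolayPt → ℤ) = ((32 : ℕ) : ℤ)} := by
  ext x
  constructor
  · rintro ⟨g, rfl⟩
    show sqNorm (((g : Equiv.Perm leechLattice) u : leechLattice) : GolayPt → ℤ) = _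
    rw [g.2.2]; exact_mod_cast hu
  · intro hx
    obtain ⟨g, hg, e⟩ := co0_trans32 u x hu (by exact_mod_cast hx)
    exact ⟨⟨g, hg⟩, e⟩

/-- The stabiliser of a vector of the second shell has order `495766656000`. -/
theorem card_stab48 (u : leechLattice) (hu : sqNorm (u : GolayPt → ℤ) = 48) :
    Nat.card ↥(MulAction.stabilizer ↥Co0 u) = 495766656000 := by
  have h := card_stab_top (G := ↥Co0) u
  rw [orbit_shell48 u hu, ncard_shell 48 (by norm_num), card_V48, Cfsg.Agent.S0397.result] at h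
  omega

/-- The stabiliser of a minimal vector has order `42305421312000`. -/
theorem card_stab32 (u : leechLattice) (hu : sqNorm (u : GolayPt → ℤ) = 32) :
    Nat.card ↥(MulAction.stabilizer ↥Co0 u) = 42305421312000 := by
  have h := card_stab_top (G := ↥Co0) u
  rw [orbit_shell32 u hu, ncard_shell 32 (by norm_num), card_V32, Cfsg.Agent.S0397.result] at h
  omega

/-- the orbit of a vector under the stabiliser of a vector, when that stabiliser is transitive
on a set containing it -/
theorem orbit_stab_eq (u : leechLattice) (X : Set leechLattice)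
    (hinv : ∀ g ∈ Co0, g u = u → ∀ x ∈ X, g x ∈ X)
    (htrans : ∀ x ∈ X, ∀ x' ∈ X, ∃ g ∈ Co0, g u = u ∧ g x = x') {y : leechLattice} (hy : y ∈ X) :
    MulAction.orbit ↥(MulAction.stabilizer ↥Co0 u) y = X := by
  ext z
  constructor
  · rintro ⟨k, rfl⟩
    exact hinv k.1.1 k.1.2 (MulAction.mem_stabilizer_iff.mp k.2) y hy
  · intro hz
    obtain ⟨g, hg, e1, e2⟩ := htrans y hy z hz
    exact ⟨⟨⟨g, hg⟩, MulAction.mem_stabilizer_iff.mpr e1⟩, e2⟩

/-- The joint stabiliser of a vector `u` of the second shell and a minimal vector `x` with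
`⟨u, x⟩ = -16` has order `44352000`. -/
theorem card_stab48_16 (u x : leechLattice) (hu : sqNorm (u : GolayPt → ℤ) = 48)
    (hx : x ∈ Xdot (-16) u) :
    Nat.card ↥(MulAction.stabilizer ↥Co0 u ⊓ MulAction.stabilizer ↥Co0 x) = 44352000 := by
  have h := card_inf_stab (MulAction.stabilizer ↥Co0 u) x
  rw [orbit_stab_eq u (Xdot (-16) u)
    (fun g hg e y hy => by have := Xdot_inv (-16) g hg u y hy; rwa [e] at this)
    (fun y hy y' hy' => trans_48_16 u y y' hu hy hy') hx, ncard_48_16 u hu, card_stab48 u hu] at h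
  omega

theorem ncard_32_8 (v : leechLattice) (hv : sqNorm (v : GolayPt → ℤ) = 32) :
    (Xdot (-8) v).ncard = 47104 := by
  rw [Xdot_ncard]
  exact (cnt32_values (mem_V_of (by norm_num) v (by exact_mod_cast hv))).2.1

/-- The joint stabiliser of two minimal vectors with inner product `-8` has order
`898128000`. -/
theorem card_stab32_8 (v w : leechLattice) (hv : sqNorm (v : GolayPt → ℤ) = 32)
    (hw : w ∈ Xdot (-8) v) :
    Nat.card ↥(MulAction.stabilizer ↥Co0 v ⊓ MulAction.stabilizer ↥Co0 w) = 898128000 := by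
  have h := card_inf_stab (MulAction.stabilizer ↥Co0 v) w
  rw [orbit_stab_eq v (Xdot (-8) v)
    (fun g hg e y hy => by have := Xdot_inv (-8) g hg v y hy; rwa [e] at this)
    (fun y hy y' hy' => trans_min8 v y y' hv hy.1 hy'.1 hy.2 hy'.2) hw, ncard_32_8 v hv,
    card_stab32 v hv] at h
  omega

end Cfsg.Agent.H33
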