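import Cfsg.Agent.H33.Orbit
import Cfsg.Agent.H9.M24d

/-!
# Upper bounds for stabilisers in `M24` (helper33)

* `chain_bound` : the subgroup `stabOf fixed` (fixing the sets with the given masks) has order at
  most the product of the sizes of the sets used along a chain of points, times the order of the
  stabiliser of the points;
* `coset_bound` : a subset `B` of a subgroup `H` with `k` pairwise disjoint translates has at most
  `|H| / k` elements;
* the orders of the stabilisers of the first points.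
-/

set_option autoImplicit false

namespace Cfsg.Agent.H33

open Cfsg Cfsg.Agent.H9 MulAction
open scoped Pointwise

theorem fs_single {b : ℕ} (hb : b < 24) : fs (Nat.shiftLeft 1 b) = {gPt b} := by
  ext p
  rw [mem_fs, Finset.mem_singleton]
  have e : Nat.shiftLeft 1 b = 2 ^ b := Nat.one_shiftLeft b
  rw [e, Nat.testBit_two_pow]
  constructor
  · intro h
    have h1 : b = gIdx p := by simpa using h
    rw [h1, gPt_gIdx]
  · rintro rfl
    rw [gIdx_gPt hb]
    simp

theorem smul_fs_single {g : Equiv.Perm GolayPt} {b : ℕ} (hb : b < 24) :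
    g • fs (Nat.shiftLeft 1 b) = fs (Nat.shiftLeft 1 b) ↔ g (gPt b) = gPt b := by
  rw [fs_single hb, Finset.smul_finset_singleton, Finset.singleton_inj]
  rfl

theorem stabOf_step (fixed : List ℕ) (m b : ℕ) (hm : m ∈ fixed) (hb : b < 24)
    (hbm : tb m b = true) :
    Nat.card (stabOf fixed) ≤ pcT m *
      Nat.card (stabOf (Nat.shiftLeft 1 b :: Nat.xor m (Nat.shiftLeft 1 b) :: fixed)) := by
  have h1 := card_eq_orbit_mul_inf (G := Equiv.Perm GolayPt) (stabOf fixed) (gPt b)
  have h2 : (orbit ↥(stabOf fixed) (gPt b)).ncard ≤ pcT m := by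
    rw [← card_fs', ← Set.ncard_coe_finset]
    apply Set.ncard_le_ncard _ (Finset.finite_toSet _)
    rintro _ ⟨g, rfl⟩
    have hg := g.2.2 m hm
    rw [Finset.mem_coe, ← hg]
    exact Finset.smul_mem_smul_finset (mem_fs.mpr (by rw [gIdx_gPt hb, ← tb_eq]; exact hbm))
  have h3 : stabOf fixed ⊓ stabilizer (Equiv.Perm GolayPt) (gPt b)
      ≤ stabOf (Nat.shiftLeft 1 b :: Nat.xor m (Nat.shiftLeft 1 b) :: fixed) := by
    intro g hg
    obtain ⟨hg1, hg2⟩ := Subgroup.mem_inf.mp hg
    have hs : g • fs (Nat.shiftLeft 1 b) = fs (Nat.shiftLeft 1 b) :=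
      (smul_fs_single hb).mpr (mem_stabilizer_iff.mp hg2)
    refine ⟨hg1.1, ?_⟩
    intro m' hm'
    rcases List.mem_cons.mp hm' with rfl | hm'
    · exact hs
    rcases List.mem_cons.mp hm' with rfl | hm'
    · rw [xor_eq, fs_xor, Finset.smul_finset_symmDiff, hg1.2 m hm, hs]
    · exact hg1.2 m' hm'
  calc Nat.card (stabOf fixed)
      = (orbit ↥(stabOf fixed) (gPt b)).ncard
        * Nat.card ↥(stabOf fixed ⊓ stabilizer (Equiv.Perm GolayPt) (gPt b)) := h1
    _ ≤ pcT m * Nat.card (stabOf (Nat.shiftLeft 1 b :: Nat.xor m (Nat.shiftLeft 1 b) :: fixed)) :=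
        Nat.mul_le_mul h2 (Subgroup.card_le_of_le h3)

/-- the masks known to be fixed after the steps -/
def chainFix : List ℕ → List (ℕ × ℕ) → List ℕ
  | fixed, [] => fixed
  | fixed, (m, b) :: r =>
    chainFix (Nat.shiftLeft 1 b :: Nat.xor m (Nat.shiftLeft 1 b) :: fixed) r

/-- the product of the sizes of the sets used by the steps -/
def chainMul : List (ℕ × ℕ) → ℕ
  | [] => 1
  | (m, _) :: r => Nat.mul (pcT m) (chainMul r)

/-- each step `(m, b)` uses a mask `m` known to be fixed and a point `b` of it -/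
def chainOK : List ℕ → List (ℕ × ℕ) → Bool
  | _, [] => true
  | fixed, (m, b) :: r => memB m fixed && (tb m b && (Nat.blt b 24 &&
      chainOK (Nat.shiftLeft 1 b :: Nat.xor m (Nat.shiftLeft 1 b) :: fixed) r))

theorem chain_sound : ∀ (steps : List (ℕ × ℕ)) (fixed : List ℕ), chainOK fixed steps = true →
    Nat.card (stabOf fixed) ≤ chainMul steps * Nat.card (stabOf (chainFix fixed steps)) := by
  intro steps
  induction steps with
  | nil =>
    intro fixed _
    show _ ≤ 1 * _
    rw [one_mul]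
    exact le_rfl
  | cons s r ih =>
    intro fixed h
    obtain ⟨m, b⟩ := s
    simp only [chainOK, Bool.and_eq_true] at h
    obtain ⟨h1, h2, h3, h4⟩ := h
    have hb : b < 24 := by simpa [Nat.blt_eq] using h3
    have e1 := stabOf_step fixed m b ((memB_iff _ _).mp h1) hb h2
    have e2 := ih _ h4
    calc Nat.card (stabOf fixed)
        ≤ pcT m * Nat.card (stabOf (Nat.shiftLeft 1 b :: Nat.xor m (Nat.shiftLeft 1 b) :: fixed)) :=
          e1
      _ ≤ pcT m * (chainMul r * Nat.card (stabOf (chainFix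
            (Nat.shiftLeft 1 b :: Nat.xor m (Nat.shiftLeft 1 b) :: fixed) r))) :=
          Nat.mul_le_mul_left _ e2
      _ = chainMul ((m, b) :: r) * Nat.card (stabOf (chainFix fixed ((m, b) :: r))) := by
          show _ = (pcT m * chainMul r) * _
          rw [mul_assoc]
          rfl

theorem stabOf_le_Stab (fixed l : List ℕ)
    (h : l.all (fun i => Nat.blt i 24 && memB (Nat.shiftLeft 1 i) fixed) = true) :
    stabOf fixed ≤ Stab l := by
  intro g hg
  refine ⟨hg.1, fun i hi => ?_⟩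
  have h1 := List.all_eq_true.mp h i hi
  rw [Bool.and_eq_true] at h1
  have hi24 : i < 24 := by simpa [Nat.blt_eq] using h1.1
  exact (smul_fs_single hi24).mp (hg.2 _ ((memB_iff _ _).mp h1.2))

/-- the chain bound -/
theorem chain_bound (fixed : List ℕ) (steps : List (ℕ × ℕ)) (l : List ℕ) (N : ℕ)
    (h1 : chainOK fixed steps = true)
    (h2 : l.all (fun i => Nat.blt i 24 && memB (Nat.shiftLeft 1 i) (chainFix fixed steps)) = true)
    (h3 : Nat.card (Stab l) ≤ N) : Nat.card (stabOf fixed) ≤ chainMul steps * N :=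
  (chain_sound steps fixed h1).trans
    (Nat.mul_le_mul_left _ ((Subgroup.card_le_of_le (stabOf_le_Stab _ _ h2)).trans h3))

/-- a subset of a subgroup with `k` pairwise disjoint translates -/
theorem coset_bound {G : Type*} [Group G] (H : Subgroup G) [Finite H] (B : Set G)
    (hB : B ⊆ (H : Set G)) (k : ℕ) (τ : ℕ → G) (hτ : ∀ j < k, τ j ∈ H)
    (hinj : ∀ j < k, ∀ j' < k, ∀ β ∈ B, ∀ β' ∈ B, τ j * β = τ j' * β' → j = j') :
    B.ncard * k ≤ Nat.card H := by
  classical
  have hHfin : (H : Set G).Finite := Set.toFinite _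
  have hS : (B ×ˢ ((Finset.range k : Finset ℕ) : Set ℕ)).ncard = B.ncard * k := by
    rw [Set.ncard_prod, Set.ncard_coe_finset, Finset.card_range]
  have h1 : (B ×ˢ ((Finset.range k : Finset ℕ) : Set ℕ)).ncard ≤ (H : Set G).ncard := by
    apply Set.ncard_le_ncard_of_injOn (fun p : G × ℕ => τ p.2 * p.1) _ _ hHfin
    · rintro ⟨β, j⟩ ⟨hβ, hj⟩
      have hj' : j < k := by simpa using hj
      exact H.mul_mem (hτ j hj') (hB hβ)
    · rintro ⟨β, j⟩ ⟨hβ, hj⟩ ⟨β', j'⟩ ⟨hβ', hj'⟩ he
      have hj1 : j < k := by simpa using hj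
      have hj2 : j' < k := by simpa using hj'
      have e : j = j' := hinj j hj1 j' hj2 β hβ β' hβ' he
      subst e
      have e2 : β = β' := mul_left_cancel he
      rw [e2]
  rw [hS] at h1
  exact h1.trans (le_of_eq (Nat.card_coe_set_eq _))

/-! ## Orders of the stabilisers of the first points -/

theorem cardSt5 : Nat.card (Stab [4, 3, 2, 1, 0]) = 48 := by
  rw [card_Stab [4, 3, 2, 1, 0] 7, ncard_orbit_of_levelOK m24_lvl5, m24_orb5, card_Stab6]

theorem cardSt4 : Nat.card (Stab [3, 2, 1, 0]) = 960 := by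
  rw [card_Stab [3, 2, 1, 0] 4, ncard_orbit_of_levelOK m24_lvl4, m24_orb4, cardSt5]

theorem cardSt3 : Nat.card (Stab [2, 1, 0]) = 20160 := by
  rw [card_Stab [2, 1, 0] 3, ncard_orbit_of_levelOK m24_lvl3, m24_orb3, cardSt4]

theorem cardSt2 : Nat.card (Stab [1, 0]) = 443520 := by
  rw [card_Stab [1, 0] 2, ncard_orbit_of_levelOK m24_lvl2, m24_orb2, cardSt3]

theorem cardSt1 : Nat.card (Stab [0]) = 10200960 := by
  rw [card_Stab [0] 1, ncard_orbit_of_levelOK m24_lvl1, m24_orb1, cardSt2]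

theorem cardSt6' : Nat.card (Stab [5, 4, 3, 2, 1, 0]) ≤ 3 := by
  have h1 := card_Stab [4, 3, 2, 1, 0] 5
  rw [cardSt5] at h1
  have h2 : 16 ≤ {p : GolayPt | ∃ g ∈ Stab [4, 3, 2, 1, 0], g (gPt 5) = p}.ncard := by
    rw [← m24_orb6, ← ncard_orbit_of_levelOK m24_lvl6]
    apply Set.ncard_le_ncard _ (Set.toFinite _)
    rintro p ⟨g, hg, rfl⟩
    exact ⟨g, ⟨hg.1, fun i hi => hg.2 i (List.mem_cons_of_mem _ hi)⟩, rfl⟩
  by_contra hlt
  have hlt := not_le.mp hlt
  have h3 : 16 * 4 ≤ {p : GolayPt | ∃ g ∈ Stab [4, 3, 2, 1, 0], g (gPt 5) = p}.ncard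
      * Nat.card (Stab [5, 4, 3, 2, 1, 0]) := Nat.mul_le_mul h2 hlt
  omega

end Cfsg.Agent.H33
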