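import Mathlib
import Cfsg.Agent.S0379
import Cfsg.Agent.H33.LStab
import Cfsg.Agent.H33.LOrd

/-!
The coordinate permutations fixing two points, as automorphisms of the lattice: a simple group
of order 443520 inside the stabilisers of vectors of the shape `(a, b, c^22)`.
-/

set_option autoImplicit false

namespace Cfsg.Agent.H33

open Cfsg Cfsg.Agent.H9 Cfsg.Agent.H93

theorem gPt_zero_ne_one : gPt 0 ≠ gPt 1 := by
  intro h
  have h1 := congrArg gIdx h
  rw [gIdx_gPt (by norm_num), gIdx_gPt (by norm_num)] at h1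
  exact absurd h1 (by norm_num)

/-- the two descriptions of the pointwise stabiliser of two points -/
noncomputable def stab2Equiv :
    ↥(MulAction.stabilizer M24 (gPt 0) ⊓ MulAction.stabilizer M24 (gPt 1)) ≃* ↥(Stab [1, 0]) where
  toFun g := ⟨g.1.1, ⟨g.1.2, fun i hi => by
    rcases List.mem_cons.mp hi with rfl | hi
    · exact MulAction.mem_stabilizer_iff.mp g.2.2
    · rcases List.mem_cons.mp hi with rfl | hi
      · exact MulAction.mem_stabilizer_iff.mp g.2.1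
      · exact absurd hi (List.not_mem_nil)⟩⟩
  invFun σ := ⟨⟨σ.1, σ.2.1⟩, ⟨MulAction.mem_stabilizer_iff.mpr (σ.2.2 0 (by simp)),
    MulAction.mem_stabilizer_iff.mpr (σ.2.2 1 (by simp))⟩⟩
  left_inv _ := rfl
  right_inv _ := rfl
  map_mul' _ _ := rfl

instance stab2_simple : IsSimpleGroup ↥(Stab [1, 0]) :=
  simple_of_mulEquiv stab2Equiv.symm (Cfsg.Agent.S0379.result (gPt 0) (gPt 1) gPt_zero_ne_one)

/-- the coordinate permutations as automorphisms of the lattice -/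
noncomputable def pmHom : ↥M24 →* ↥Co0 where
  toFun σ := ⟨pmPerm σ.1⁻¹ (inv_mem σ.2), pmPerm_mem _ _⟩
  map_one' := by
    apply Subtype.ext
    apply Equiv.ext
    intro v
    apply Subtype.ext
    funext i
    show (v : GolayPt → ℤ) (((1 : ↥M24) : Equiv.Perm GolayPt)⁻¹ i) = (v : GolayPt → ℤ) i
    simp
  map_mul' σ τ := by
    apply Subtype.ext
    apply Equiv.ext
    intro v
    apply Subtype.ext
    funext i
    show (v : GolayPt → ℤ) (((σ * τ : ↥M24) : Equiv.Perm GolayPt)⁻¹ i)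
      = (v : GolayPt → ℤ) ((τ : Equiv.Perm GolayPt)⁻¹ ((σ : Equiv.Perm GolayPt)⁻¹ i))
    simp [mul_inv_rev]

theorem pmHom_apply (σ : ↥M24) (v : leechLattice) (i : GolayPt) :
    (((pmHom σ : ↥Co0) : Equiv.Perm leechLattice) v : GolayPt → ℤ) i
      = (v : GolayPt → ℤ) ((σ : Equiv.Perm GolayPt)⁻¹ i) := rfl

theorem pmHom_injective : Function.Injective pmHom := by
  intro σ τ h
  apply Subtype.ext
  apply Equiv.ext
  intro i
  by_contra hne
  have h1 := pmHom_apply σ ⟨bvec i, bvec_mem i⟩ ((σ : Equiv.Perm GolayPt) i)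
  have h2 := pmHom_apply τ ⟨bvec i, bvec_mem i⟩ ((σ : Equiv.Perm GolayPt) i)
  rw [h] at h1
  rw [h1] at h2
  have e1 : (σ : Equiv.Perm GolayPt)⁻¹ ((σ : Equiv.Perm GolayPt) i) = i := by simp
  have e2 : (τ : Equiv.Perm GolayPt)⁻¹ ((σ : Equiv.Perm GolayPt) i) ≠ i := by
    intro e
    apply hne
    rw [Equiv.Perm.inv_eq_iff_eq] at e
    exact e
  have h3 : bvec i ((σ : Equiv.Perm GolayPt)⁻¹ ((σ : Equiv.Perm GolayPt) i))
      = bvec i ((τ : Equiv.Perm GolayPt)⁻¹ ((σ : Equiv.Perm GolayPt) i)) := h2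
  rw [e1] at h3
  unfold bvec at h3
  rw [Pi.single_eq_same, Pi.single_eq_of_ne e2] at h3
  norm_num at h3

/-- packed vectors of the shape `(a, b, c^22)` -/
def shapeOK (P c : ℕ) : Bool := allB (fun k => Nat.beq (f8 P (Nat.add k 2)) c) 22

theorem pmHom_fix {P c : ℕ} (h : shapeOK P c = true) (hP : vec P ∈ leechLattice)
    (σ : ↥M24) (hσ : (σ : Equiv.Perm GolayPt) ∈ Stab [1, 0]) :
    ((pmHom σ : ↥Co0) : Equiv.Perm leechLattice) ⟨vec P, hP⟩ = ⟨vec P, hP⟩ := by
  apply Subtype.ext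
  funext i
  rw [pmHom_apply]
  show vec P ((σ : Equiv.Perm GolayPt)⁻¹ i) = vec P i
  have h0 : (σ : Equiv.Perm GolayPt)⁻¹ (gPt 0) = gPt 0 := by
    rw [Equiv.Perm.inv_eq_iff_eq]; exact (hσ.2 0 (by simp)).symm
  have h1 : (σ : Equiv.Perm GolayPt)⁻¹ (gPt 1) = gPt 1 := by
    rw [Equiv.Perm.inv_eq_iff_eq]; exact (hσ.2 1 (by simp)).symm
  have hc : ∀ p : GolayPt, 2 ≤ gIdx p → f8 P (gIdx p) = c := by
    intro p hp
    have h2 := (allB_iff _ _).mp h (gIdx p - 2) (by have := gIdx_lt p; omega)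
    have h3 : Nat.add (gIdx p - 2) 2 = gIdx p := by show gIdx p - 2 + 2 = gIdx p; omega
    rw [h3] at h2
    exact Nat.eq_of_beq_eq_true h2
  by_cases hi0 : i = gPt 0
  · rw [hi0, h0]
  by_cases hi1 : i = gPt 1
  · rw [hi1, h1]
  have hi2 : 2 ≤ gIdx i := by
    by_contra hlt
    have : gIdx i = 0 ∨ gIdx i = 1 := by omega
    rcases this with e | e
    · exact hi0 (by rw [← gPt_gIdx i, e])
    · exact hi1 (by rw [← gPt_gIdx i, e])
  have hj2 : 2 ≤ gIdx ((σ : Equiv.Perm GolayPt)⁻¹ i) := by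
    by_contra hlt
    have : gIdx ((σ : Equiv.Perm GolayPt)⁻¹ i) = 0 ∨ gIdx ((σ : Equiv.Perm GolayPt)⁻¹ i) = 1 := by
      omega
    rcases this with e | e
    · have e' : (σ : Equiv.Perm GolayPt)⁻¹ i = gPt 0 := by
        rw [← gPt_gIdx ((σ : Equiv.Perm GolayPt)⁻¹ i), e]
      rw [← h0] at e'
      exact hi0 ((σ : Equiv.Perm GolayPt)⁻¹.injective e')
    · have e' : (σ : Equiv.Perm GolayPt)⁻¹ i = gPt 1 := by
        rw [← gPt_gIdx ((σ : Equiv.Perm GolayPt)⁻¹ i), e]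
      rw [← h1] at e'
      exact hi1 ((σ : Equiv.Perm GolayPt)⁻¹.injective e')
  rw [vec_apply, vec_apply, hc _ hi2, hc _ hj2]

/-- A point stabiliser of order 443520 containing the coordinate permutations fixing two points
is simple. -/
theorem stab_simple_of_card (K : Subgroup ↥Co0) (x : leechLattice)
    (hK : ∀ σ : ↥M24, (σ : Equiv.Perm GolayPt) ∈ Stab [1, 0] → pmHom σ ∈ K)
    (hx : ∀ σ : ↥M24, (σ : Equiv.Perm GolayPt) ∈ Stab [1, 0] →
      ((pmHom σ : ↥Co0) : Equiv.Perm leechLattice) x = x)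
    (hcard : Nat.card ↥(MulAction.stabilizer ↥K x) = 443520) :
    IsSimpleGroup ↥(MulAction.stabilizer ↥K x) := by
  let Φ : ↥(Stab [1, 0]) →* ↥(MulAction.stabilizer ↥K x) :=
    { toFun := fun σ => ⟨⟨pmHom ⟨σ.1, σ.2.1⟩, hK ⟨σ.1, σ.2.1⟩ σ.2⟩,
        MulAction.mem_stabilizer_iff.mpr (hx ⟨σ.1, σ.2.1⟩ σ.2)⟩
      map_one' := by
        apply Subtype.ext
        apply Subtype.ext
        exact pmHom.map_one
      map_mul' := fun σ τ => by
        apply Subtype.ext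
        apply Subtype.ext
        exact pmHom.map_mul ⟨σ.1, σ.2.1⟩ ⟨τ.1, τ.2.1⟩ }
  have hinj : Function.Injective Φ := by
    intro σ τ h
    have h1 : pmHom ⟨σ.1, σ.2.1⟩ = pmHom ⟨τ.1, τ.2.1⟩ :=
      congrArg (fun k : ↥(MulAction.stabilizer ↥K x) => k.1.1) h
    have h2 := pmHom_injective h1
    exact Subtype.ext (congrArg (fun k : ↥M24 => (k : Equiv.Perm GolayPt)) h2)
  have hbij : Function.Bijective Φ :=
    hinj.bijective_of_nat_card_le (by rw [hcard, cardSt2])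
  have : Nontrivial ↥(MulAction.stabilizer ↥K x) :=
    (Equiv.ofBijective Φ hbij).symm.nontrivial
  exact IsSimpleGroup.isSimpleGroup_of_surjective Φ hbij.2

end Cfsg.Agent.H33
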