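import Mathlib

/-!
A simplicity criterion for a transitive permutation group with a simple point stabiliser, in
terms of the lengths of the orbits of the point stabiliser.
-/

set_option autoImplicit false

namespace Cfsg.Agent.H33

open Equiv Equiv.Perm

/-- In a finite group of order divisible by the prime `p`, the number of solutions of
`g ^ p = 1` is divisible by `p`. -/
theorem card_pow_eq_one_dvd (N : Type*) [Group N] [Finite N] (p : ℕ) [hp : Fact p.Prime]
    (hdvd : p ∣ Nat.card N) : p ∣ Nat.card {g : N // g ^ p = 1} := by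
  classical
  have := Fintype.ofFinite N
  rw [Nat.card_eq_fintype_card] at hdvd
  have hp' : p - 1 ≠ 0 := mt tsub_eq_zero_iff_le.mp (not_le_of_gt hp.out.one_lt)
  have Scard : p ∣ Fintype.card (vectorsProdEqOne N p) := by
    rw [VectorsProdEqOne.card]
    exact hdvd.trans (dvd_pow (dvd_refl _) hp')
  let f : ℕ → vectorsProdEqOne N p → vectorsProdEqOne N p := fun k v =>
    VectorsProdEqOne.rotate v k
  have hf1 : ∀ v, f 0 v = v := VectorsProdEqOne.rotate_zero
  have hf2 : ∀ j k v, f k (f j v) = f (j + k) v := fun j k v =>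
    VectorsProdEqOne.rotate_rotate v j k
  have hf3 : ∀ v, f p v = v := VectorsProdEqOne.rotate_length
  let σ : Equiv.Perm (vectorsProdEqOne N p) :=
    Equiv.mk (f 1) (f (p - 1)) (fun s => by rw [hf2, add_tsub_cancel_of_le hp.out.one_lt.le, hf3])
      fun s => by rw [hf2, tsub_add_cancel_of_le hp.out.one_lt.le, hf3]
  have hσ : ∀ k v, (σ ^ k) v = f k v := fun k =>
    Nat.rec (fun v => (hf1 v).symm) (fun k hk v => by
      rw [pow_succ, Perm.mul_apply, hk (σ v), Nat.succ_eq_one_add, ← hf2 1 k]
      simp only [σ, coe_fn_mk]) k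
  replace hσ : σ ^ p ^ 1 = 1 := Perm.ext fun v => by rw [pow_one, hσ, hf3, one_apply]
  have hmod := card_compl_support_modEq hσ
  have hfix : p ∣ σ.supportᶜ.card :=
    Nat.modEq_zero_iff_dvd.mp (hmod.trans (Nat.modEq_zero_iff_dvd.mpr Scard))
  have hcard : Nat.card {g : N // g ^ p = 1} = σ.supportᶜ.card := by
    rw [← Nat.card_eq_finsetCard]
    have hmem : ∀ g : {g : N // g ^ p = 1},
        (⟨List.Vector.replicate p g.1, (List.prod_replicate p g.1).trans g.2⟩ :
          vectorsProdEqOne N p) ∈ σ.supportᶜ := by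
      intro g
      rw [Finset.mem_compl, mem_support, Classical.not_not]
      exact Subtype.ext (Subtype.ext (List.rotate_replicate g.1 p 1))
    refine Nat.card_congr (Equiv.ofBijective (fun g => ⟨_, hmem g⟩) ⟨?_, ?_⟩)
    · intro g g' h
      have h1 : List.replicate p g.1 = List.replicate p g'.1 :=
        congrArg (fun v : ↥(σ.supportᶜ) => v.1.1.1) h
      have h2 : g.1 ∈ List.replicate p g'.1 := by
        rw [← h1]
        exact List.mem_replicate.mpr ⟨hp.out.pos.ne', rfl⟩
      exact Subtype.ext (List.eq_of_mem_replicate h2)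
    · rintro ⟨v, hv⟩
      rw [Finset.mem_compl, mem_support, Classical.not_not] at hv
      have hv1 : v.1.1.rotate 1 = v.1.1 :=
        congrArg (fun v : vectorsProdEqOne N p => v.1.1) hv
      obtain ⟨g, hg⟩ := List.rotate_one_eq_self_iff_eq_replicate.mp hv1
      have hlen : v.1.1.length = p := v.1.2
      rw [hlen] at hg
      have hgp : g ^ p = 1 := by
        rw [← List.prod_replicate, ← hg]
        exact v.2
      refine ⟨⟨g, hgp⟩, ?_⟩
      apply Subtype.ext
      apply Subtype.ext
      apply Subtype.ext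
      exact hg.symm
  rw [hcard]
  exact hfix

/-- The sums of the sublists of a list of numbers. -/
def subsetSums : List ℕ → List ℕ
  | [] => [0]
  | a :: l => subsetSums l ++ (subsetSums l).map (· + a)

/-- A set which is a union of classes of a colouring of a finite set `U`, with prescribed
class sizes, has a subset sum as cardinality. -/
theorem ncard_mem_subsetSums {β : Type*} (c : β → ℤ) (U : Set β) (hU : U.Finite) :
    ∀ (ds : List (ℤ × ℕ)), (∀ p ∈ ds, {y : β | y ∈ U ∧ c y = p.1}.ncard = p.2) →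
      ∀ T : Set β, T ⊆ U → (∀ y ∈ T, ∀ z ∈ U, c z = c y → z ∈ T) →
        (∀ y ∈ T, c y ∈ ds.map Prod.fst) → T.ncard ∈ subsetSums (ds.map Prod.snd) := by
  intro ds
  induction ds with
  | nil =>
    intro _ T _ _ hT
    have : T = ∅ := by
      ext y
      simp only [Set.mem_empty_iff_false, iff_false]
      intro hy
      have := hT y hy
      simp at this
    rw [this, Set.ncard_empty]
    simp [subsetSums]
  | cons p ds ih =>
    intro hsz T hTU hsat hT
    have hsz' : ∀ q ∈ ds, {y : β | y ∈ U ∧ c y = q.1}.ncard = q.2 :=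
      fun q hq => hsz q (List.mem_cons_of_mem _ hq)
    have hsat' : ∀ y ∈ {y | y ∈ T ∧ c y ≠ p.1}, ∀ z ∈ U, c z = c y →
        z ∈ {y | y ∈ T ∧ c y ≠ p.1} := by
      rintro y ⟨hy, hne⟩ z hzU hz
      exact ⟨hsat y hy z hzU hz, by rw [hz]; exact hne⟩
    have hT' : ∀ y ∈ {y | y ∈ T ∧ c y ≠ p.1}, c y ∈ ds.map Prod.fst := by
      rintro y ⟨hy, hne⟩
      have := hT y hy
      rw [List.map_cons, List.mem_cons] at this
      rcases this with h | h
      · exact absurd h hne
      · exact h
    have ih' := ih hsz' {y | y ∈ T ∧ c y ≠ p.1} (fun y hy => hTU hy.1) hsat' hT'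
    show T.ncard ∈ subsetSums (p.2 :: ds.map Prod.snd)
    unfold subsetSums
    rw [List.mem_append]
    by_cases hex : ∃ y ∈ T, c y = p.1
    · right
      obtain ⟨y0, hy0, hc0⟩ := hex
      have hsplit : T = {y | y ∈ T ∧ c y ≠ p.1} ∪ {y : β | y ∈ U ∧ c y = p.1} := by
        ext y
        simp only [Set.mem_union, Set.mem_setOf_eq]
        constructor
        · intro hy
          by_cases h : c y = p.1
          · exact Or.inr ⟨hTU hy, h⟩
          · exact Or.inl ⟨hy, h⟩
        · rintro (⟨hy, _⟩ | ⟨hyU, h⟩)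
          · exact hy
          · exact hsat y0 hy0 y hyU (by rw [h, hc0])
      have hdisj : Disjoint {y | y ∈ T ∧ c y ≠ p.1} {y : β | y ∈ U ∧ c y = p.1} := by
        rw [Set.disjoint_left]
        rintro y ⟨_, hne⟩ ⟨_, h⟩
        exact hne h
      rw [List.mem_map]
      refine ⟨{y | y ∈ T ∧ c y ≠ p.1}.ncard, ih', ?_⟩
      have hf1 : {y | y ∈ T ∧ c y ≠ p.1}.Finite := hU.subset (fun y hy => hTU hy.1)
      have hf2 : {y : β | y ∈ U ∧ c y = p.1}.Finite := hU.subset (fun y hy => hy.1)
      conv_rhs => rw [hsplit]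
      rw [Set.ncard_union_eq hdisj hf1 hf2, hsz p List.mem_cons_self]
    · left
      have : T = {y | y ∈ T ∧ c y ≠ p.1} := by
        ext y
        simp only [Set.mem_setOf_eq]
        constructor
        · intro hy
          exact ⟨hy, fun h => hex ⟨y, hy, h⟩⟩
        · exact fun h => h.1
      rw [this]
      exact ih'

/-- A transitive group with a simple point stabiliser `H` is simple, as soon as the possible
sizes of the `H`-invariant sets containing the base point exclude a proper block and a regular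
normal subgroup. -/
theorem simple_of_suborbits {G α : Type*} [Group G] [Finite G] [MulAction G α] [Finite α]
    (x : α) (htrans : ∀ y : α, ∃ g : G, g • x = y)
    (hH : IsSimpleGroup ↥(MulAction.stabilizer G x))
    (hmove : ∃ h ∈ MulAction.stabilizer G x, ∃ y : α, h • y ≠ y)
    (L : List ℕ)
    (hL : ∀ T : Set α, x ∈ T → (∀ h ∈ MulAction.stabilizer G x, ∀ y ∈ T, h • y ∈ T) →
      T.ncard ∈ L)
    (hdiv : ∀ m ∈ L, m ∣ Nat.card α → m = 1 ∨ m = Nat.card α)
    (p q : ℕ) (hp : p.Prime) (hq : q.Prime) (hpq : p ≠ q) (hpn : p ∣ Nat.card α)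
    (hqn : q ∣ Nat.card α)
    (hreg : ∀ m ∈ L, ∀ m' ∈ L, p ∣ m → q ∣ m' → Nat.card α + 1 < m + m') :
    IsSimpleGroup G := by
  classical
  have hnt : Nontrivial G := by
    obtain ⟨a, b, hab⟩ := hH.toNontrivial.exists_pair_ne
    exact ⟨⟨a.1, b.1, fun h => hab (Subtype.ext h)⟩⟩
  refine ⟨fun N hN => ?_⟩
  by_contra hcon
  push Not at hcon
  obtain ⟨hNbot, hNtop⟩ := hcon
  have hpre : MulAction.IsPretransitive G α := ⟨fun a b => by
    obtain ⟨g, hg⟩ := htrans a
    obtain ⟨g', hg'⟩ := htrans b
    exact ⟨g' * g⁻¹, by rw [← hg, ← hg', mul_smul, inv_smul_smul]⟩⟩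
  have hstab : ∀ h : G, h ∈ MulAction.stabilizer G x ↔ h • x = x :=
    fun h => MulAction.mem_stabilizer_iff
  -- the orbit of `x` under `N`
  have hxT : x ∈ MulAction.orbit N x := MulAction.mem_orbit_self x
  have hTinv : ∀ h ∈ MulAction.stabilizer G x, ∀ y ∈ MulAction.orbit N x,
      h • y ∈ MulAction.orbit N x := by
    rintro h hh y ⟨n, rfl⟩
    refine ⟨⟨h * n.1 * h⁻¹, hN.conj_mem n.1 n.2 h⟩, ?_⟩
    show (h * n.1 * h⁻¹) • x = h • (n.1 • x)
    rw [mul_smul, mul_smul, (hstab _).mp (inv_mem hh)]
  have hTL := hL _ hxT hTinv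
  have hTdvd : (MulAction.orbit N x).ncard ∣ Nat.card α :=
    (MulAction.IsBlock.orbit_of_normal (G := G) (N := N) x).ncard_dvd_card ⟨x, hxT⟩
  have hsimp := hH.eq_bot_or_eq_top_of_normal (N.subgroupOf (MulAction.stabilizer G x))
    inferInstance
  rcases hdiv _ hTL hTdvd with h1 | hn
  · -- `N` fixes `x`
    obtain ⟨a, ha⟩ := Set.ncard_eq_one.mp h1
    have hax : x = a := by
      have := hxT
      rw [ha] at this
      exact this
    have hNH : N ≤ MulAction.stabilizer G x := by
      intro n hn
      rw [hstab]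
      have h2 : n • x ∈ MulAction.orbit N x := ⟨⟨n, hn⟩, rfl⟩
      rw [ha] at h2
      have h3 : n • x = a := h2
      rw [h3]
      exact hax.symm
    rcases hsimp with hb | ht
    · rw [Subgroup.subgroupOf_eq_bot] at hb
      exact hNbot (hb.eq_bot_of_le hNH)
    · rw [Subgroup.subgroupOf_eq_top] at ht
      obtain ⟨h, hh, y, hy⟩ := hmove
      obtain ⟨g, rfl⟩ := htrans y
      apply hy
      have h2 : g⁻¹ * h * g ∈ N := by
        have := hN.conj_mem h (ht hh) g⁻¹
        rwa [inv_inv] at this
      have h3 := (hstab _).mp (hNH h2)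
      rw [mul_smul, mul_smul] at h3
      calc h • g • x = g • (g⁻¹ • h • g • x) := by rw [smul_inv_smul]
        _ = g • x := by rw [h3]
  · -- `N` is transitive
    have hTuniv : MulAction.orbit N x = Set.univ := by
      apply Set.eq_of_subset_of_ncard_le (Set.subset_univ _) _ (Set.toFinite _)
      rw [Set.ncard_univ, hn]
    have hNtrans : ∀ y : α, ∃ n ∈ N, n • x = y := by
      intro y
      have : y ∈ MulAction.orbit N x := by rw [hTuniv]; trivial
      obtain ⟨n, rfl⟩ := this
      exact ⟨n.1, n.2, rfl⟩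
    rcases hsimp with hb | ht
    · -- the regular case
      rw [Subgroup.subgroupOf_eq_bot] at hb
      have hinj : Function.Injective (fun n : N => n.1 • x) := by
        intro n m hnm
        have h1 : (m.1⁻¹ * n.1) • x = x := by
          rw [mul_smul]
          show m.1⁻¹ • (n.1 • x) = x
          have : n.1 • x = m.1 • x := hnm
          rw [this, inv_smul_smul]
        have h2 : m.1⁻¹ * n.1 ∈ N ⊓ MulAction.stabilizer G x :=
          Subgroup.mem_inf.mpr ⟨N.mul_mem (N.inv_mem m.2) n.2, (hstab _).mpr h1⟩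
        rw [hb.eq_bot, Subgroup.mem_bot] at h2
        apply Subtype.ext
        have : n.1 = m.1 * (m.1⁻¹ * n.1) := by group
        rw [this, h2, mul_one]
      have hbij : Function.Bijective (fun n : N => n.1 • x) :=
        ⟨hinj, fun y => by
          obtain ⟨n, hn, e⟩ := hNtrans y
          exact ⟨⟨n, hn⟩, e⟩⟩
      have hcardN : Nat.card N = Nat.card α := Nat.card_eq_of_bijective _ hbij
      -- the solutions of `n ^ r = 1`
      have key : ∀ r : ℕ, r.Prime → r ∣ Nat.card α →
          ((fun n : N => n.1 • x) '' {n : N | n ^ r = 1}).ncard ∈ L ∧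
            r ∣ ((fun n : N => n.1 • x) '' {n : N | n ^ r = 1}).ncard := by
        intro r hr hrn
        have : Fact r.Prime := ⟨hr⟩
        refine ⟨hL _ ⟨1, one_pow r, one_smul _ x⟩ ?_, ?_⟩
        · rintro h hh y ⟨n, hn, rfl⟩
          refine ⟨⟨h * n.1 * h⁻¹, hN.conj_mem n.1 n.2 h⟩, ?_, ?_⟩
          · show (⟨h * n.1 * h⁻¹, hN.conj_mem n.1 n.2 h⟩ : N) ^ r = 1
            apply Subtype.ext
            show (h * n.1 * h⁻¹) ^ r = 1
            have h4 : n.1 ^ r = 1 := congrArg Subtype.val hn
            rw [conj_pow, h4, mul_one, mul_inv_cancel]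
          · show (h * n.1 * h⁻¹) • x = h • (n.1 • x)
            rw [mul_smul, mul_smul, (hstab _).mp (inv_mem hh)]
        · rw [Set.ncard_image_of_injective _ hinj]
          have := card_pow_eq_one_dvd N r (by rw [hcardN]; exact hrn)
          exact this
      obtain ⟨hpL, hpd⟩ := key p hp hpn
      obtain ⟨hqL, hqd⟩ := key q hq hqn
      have hlt := hreg _ hpL _ hqL hpd hqd
      have hinter : ((fun n : N => n.1 • x) '' {n : N | n ^ p = 1}) ∩
          ((fun n : N => n.1 • x) '' {n : N | n ^ q = 1}) ⊆ {x} := by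
        rintro y ⟨⟨n, hn, rfl⟩, ⟨m, hm, e⟩⟩
        have hmn : m = n := hinj e
        subst hmn
        have h5 : m ^ Nat.gcd p q = 1 := pow_gcd_eq_one.mpr ⟨hn, hm⟩
        rw [(Nat.coprime_primes hp hq).mpr hpq, pow_one] at h5
        rw [h5]
        show (1 : G) • x ∈ ({x} : Set α)
        rw [one_smul]
        rfl
      have h6 := Set.ncard_union_add_ncard_inter
        ((fun n : N => n.1 • x) '' {n : N | n ^ p = 1})
        ((fun n : N => n.1 • x) '' {n : N | n ^ q = 1}) (Set.toFinite _) (Set.toFinite _)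
      have h7 : (((fun n : N => n.1 • x) '' {n : N | n ^ p = 1}) ∩
          ((fun n : N => n.1 • x) '' {n : N | n ^ q = 1})).ncard ≤ 1 := by
        have := Set.ncard_le_ncard hinter (Set.toFinite _)
        rwa [Set.ncard_singleton] at this
      have h8 : (((fun n : N => n.1 • x) '' {n : N | n ^ p = 1}) ∪
          ((fun n : N => n.1 • x) '' {n : N | n ^ q = 1})).ncard ≤ Nat.card α := by
        have := Set.ncard_le_ncard (Set.subset_univ
          (((fun n : N => n.1 • x) '' {n : N | n ^ p = 1}) ∪
          ((fun n : N => n.1 • x) '' {n : N | n ^ q = 1}))) (Set.toFinite _)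
        rwa [Set.ncard_univ] at this
      omega
    · -- `N` contains the point stabiliser
      rw [Subgroup.subgroupOf_eq_top] at ht
      apply hNtop
      rw [eq_top_iff]
      intro g _
      obtain ⟨n, hn, e⟩ := hNtrans (g • x)
      have h1 : (n⁻¹ * g) • x = x := by rw [mul_smul, ← e, inv_smul_smul]
      have h2 : n⁻¹ * g ∈ N := ht ((hstab _).mpr h1)
      have : g = n * (n⁻¹ * g) := by group
      rw [this]
      exact mul_mem hn h2

end Cfsg.Agent.H33
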