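import Mathlib
import Cfsg.Agent.H33.GSimple
import Cfsg.Agent.H33.LOrd

/-!
The simplicity criterion of `GSimple`, for a subgroup of the automorphism group of the lattice
acting on an invariant set of lattice vectors.
-/

set_option autoImplicit false

namespace Cfsg.Agent.H33

open Cfsg Cfsg.Agent.H9 Cfsg.Agent.H93

theorem leech_simple (K : Subgroup ↥Co0) (S : Set leechLattice)
    (hS : ∀ k ∈ K, ∀ y ∈ S, (k : Equiv.Perm leechLattice) y ∈ S)
    (x : leechLattice) (hx : x ∈ S)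
    (htrans : ∀ y ∈ S, ∃ k ∈ K, (k : Equiv.Perm leechLattice) x = y)
    (hH : IsSimpleGroup ↥(MulAction.stabilizer ↥K x))
    (c : leechLattice → ℤ) (ds : List (ℤ × ℕ))
    (hds : ∀ y ∈ S, y ≠ x → c y ∈ ds.map Prod.fst)
    (hsz : ∀ p ∈ ds, {y : leechLattice | y ∈ S \ {x} ∧ c y = p.1}.ncard = p.2)
    (horb : ∀ y ∈ S, ∀ y' ∈ S, y ≠ x → y' ≠ x → c y' = c y →
      ∃ k ∈ K, (k : Equiv.Perm leechLattice) x = x ∧ (k : Equiv.Perm leechLattice) y = y')
    (hbig : ∃ p ∈ ds, 1 < p.2)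
    (n : ℕ) (hn : S.ncard = n) (hn0 : 0 < n)
    (hdiv : ∀ m ∈ (subsetSums (ds.map Prod.snd)).map (· + 1), m ∣ n → m = 1 ∨ m = n)
    (p q : ℕ) (hp : p.Prime) (hq : q.Prime) (hpq : p ≠ q) (hpn : p ∣ n) (hqn : q ∣ n)
    (hreg : ∀ m ∈ (subsetSums (ds.map Prod.snd)).map (· + 1),
      ∀ m' ∈ (subsetSums (ds.map Prod.snd)).map (· + 1), p ∣ m → q ∣ m' → n + 1 < m + m') :
    IsSimpleGroup ↥K := by
  classical
  have hSfin : S.Finite := Set.finite_of_ncard_ne_zero (by omega)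
  let A : SubMulAction ↥K leechLattice :=
    { carrier := S, smul_mem' := fun k y hy => hS k.1 k.2 y hy }
  have hfinA : Finite ↥A := hSfin.to_subtype
  have hcardA : Nat.card ↥A = n := by
    rw [← hn]
    exact Nat.card_coe_set_eq S
  have hstabA : MulAction.stabilizer ↥K (⟨x, hx⟩ : ↥A) = MulAction.stabilizer ↥K x :=
    SubMulAction.stabilizer_of_subMul _
  refine simple_of_suborbits (G := ↥K) (α := ↥A) ⟨x, hx⟩ ?_ ?_ ?_
    ((subsetSums (ds.map Prod.snd)).map (· + 1)) ?_ ?_ p q hp hq hpq ?_ ?_ ?_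
  · rintro ⟨y, hy⟩
    obtain ⟨k, hk, e⟩ := htrans y hy
    exact ⟨⟨k, hk⟩, Subtype.ext e⟩
  · rw [hstabA]; exact hH
  · obtain ⟨pp, hpp, h1⟩ := hbig
    have h2 := hsz pp hpp
    have h3 : 1 < {y : leechLattice | y ∈ S \ {x} ∧ c y = pp.1}.ncard := by rw [h2]; exact h1
    obtain ⟨a, b, ha, hb, hab⟩ :=
      (Set.one_lt_ncard_iff (hSfin.subset (fun y hy => hy.1.1))).mp h3
    obtain ⟨k, hk, e1, e2⟩ := horb a ha.1.1 b hb.1.1 ha.1.2 hb.1.2 (by rw [hb.2, ha.2])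
    refine ⟨⟨k, hk⟩, ?_, ⟨a, ha.1.1⟩, ?_⟩
    · rw [hstabA]; exact MulAction.mem_stabilizer_iff.mpr e1
    · intro h
      apply hab
      have h4 : (k : Equiv.Perm leechLattice) a = a := congrArg Subtype.val h
      rw [← h4, e2]
  · intro T hxT hTinv
    have hT0S : Subtype.val '' T ⊆ S := by rintro _ ⟨y, _, rfl⟩; exact y.2
    have hxT0 : x ∈ Subtype.val '' T := ⟨⟨x, hx⟩, hxT, rfl⟩
    have hcard : T.ncard = ((Subtype.val '' T : Set leechLattice) \ {x}).ncard + 1 := by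
      rw [Set.ncard_diff_singleton_add_one hxT0 (hSfin.subset hT0S)]
      exact (Set.ncard_image_of_injective _ Subtype.val_injective).symm
    rw [hcard, List.mem_map]
    refine ⟨_, ?_, rfl⟩
    apply ncard_mem_subsetSums c (S \ {x}) (hSfin.subset Set.diff_subset) ds hsz
      ((Subtype.val '' T : Set leechLattice) \ {x})
    · exact Set.diff_subset_diff_left hT0S
    · rintro y ⟨⟨y', hy'T, rfl⟩, hyx⟩ z ⟨hzS, hzx⟩ hcz
      obtain ⟨k, hk, e1, e2⟩ := horb y'.1 y'.2 z hzS hyx hzx hcz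
      refine ⟨⟨⟨z, hzS⟩, ?_, rfl⟩, hzx⟩
      have h5 := hTinv ⟨k, hk⟩ (by rw [hstabA]; exact MulAction.mem_stabilizer_iff.mpr e1)
        y' hy'T
      have e3 : (⟨k, hk⟩ : ↥K) • y' = ⟨z, hzS⟩ := Subtype.ext e2
      rwa [e3] at h5
    · rintro y ⟨hyT0, hyx⟩
      exact hds y (hT0S hyT0) hyx
  · rw [hcardA]; exact hdiv
  · rw [hcardA]; exact hpn
  · rw [hcardA]; exact hqn
  · rw [hcardA]; exact hreg

/-- from transitivity in root form to transitivity on pairs -/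
theorem level_pair {cs : List (leechLattice × ℤ)} {w0 : leechLattice}
    (hstab : ∀ x ∈ XD cs, ∃ g ∈ Co0, FixS g cs ∧ g w0 = x) :
    ∀ x ∈ XD cs, ∀ x' ∈ XD cs, ∃ g ∈ Co0, FixS g cs ∧ g x = x' := by
  intro x hx x' hx'
  obtain ⟨g, hg, hf, e⟩ := hstab x hx
  obtain ⟨g', hg', hf', e'⟩ := hstab x' hx'
  have e2 : g⁻¹ x = w0 := by rw [Equiv.Perm.inv_eq_iff_eq]; exact e.symm
  refine ⟨g' * g⁻¹, mul_mem hg' (inv_mem hg), ?_, ?_⟩
  · intro c hc
    rw [Equiv.Perm.mul_apply, (FixS_inv hf) c hc, hf' c hc]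
  · rw [Equiv.Perm.mul_apply, e2, e']

theorem XD_append (cs : List (leechLattice × ℤ)) (x : leechLattice) (d : ℤ) (y : leechLattice) :
    y ∈ XD (cs ++ [(x, d)]) ↔ y ∈ XD cs ∧ dotInt (x : GolayPt → ℤ) (y : GolayPt → ℤ) = d := by
  unfold XD
  simp only [Set.mem_setOf_eq, List.mem_append, List.mem_singleton]
  constructor
  · rintro ⟨h1, h2⟩
    exact ⟨⟨h1, fun c hc => h2 c (Or.inl hc)⟩, h2 (x, d) (Or.inr rfl)⟩
  · rintro ⟨⟨h1, h2⟩, h3⟩
    refine ⟨h1, fun c hc => ?_⟩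
    rcases hc with hc | rfl
    · exact h2 c hc
    · exact h3

theorem FixS_append (g : Equiv.Perm leechLattice) (cs : List (leechLattice × ℤ))
    (x : leechLattice) (d : ℤ) : FixS g (cs ++ [(x, d)]) ↔ FixS g cs ∧ g x = x := by
  unfold FixS
  simp only [List.mem_append, List.mem_singleton]
  constructor
  · intro h
    exact ⟨fun c hc => h c (Or.inl hc), h (x, d) (Or.inr rfl)⟩
  · rintro ⟨h1, h2⟩ c hc
    rcases hc with hc | rfl
    · exact h1 c hc
    · exact h2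

/-- The criterion for the stabiliser of a configuration acting on the minimal vectors with
prescribed inner products, the orbits of the point stabiliser being given by the inner product
with the base point. -/
theorem leech_simple_XD (cs : List (leechLattice × ℤ)) (K : Subgroup ↥Co0)
    (hK : ∀ g : ↥Co0, g ∈ K ↔ FixS (g : Equiv.Perm leechLattice) cs)
    (x : leechLattice) (hx : x ∈ XD cs)
    (htrans : ∀ y ∈ XD cs, ∃ g ∈ Co0, FixS g cs ∧ g x = y)
    (hH : IsSimpleGroup ↥(MulAction.stabilizer ↥K x))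
    (ds : List (ℤ × ℕ))
    (hds : ∀ y ∈ XD cs, y = x ∨
      dotInt (x : GolayPt → ℤ) (y : GolayPt → ℤ) ∈ ds.map Prod.fst)
    (h32 : ∀ p ∈ ds, p.1 ≠ 32)
    (hlev : ∀ p ∈ ds, (XD (cs ++ [(x, p.1)])).ncard = p.2 ∧
      ∀ y ∈ XD (cs ++ [(x, p.1)]), ∀ y' ∈ XD (cs ++ [(x, p.1)]),
        ∃ g ∈ Co0, FixS g (cs ++ [(x, p.1)]) ∧ g y = y')
    (hbig : ∃ p ∈ ds, 1 < p.2)
    (n : ℕ) (hn : (XD cs).ncard = n) (hn0 : 0 < n)
    (hdiv : ∀ m ∈ (subsetSums (ds.map Prod.snd)).map (· + 1), m ∣ n → m = 1 ∨ m = n)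
    (p q : ℕ) (hp : p.Prime) (hq : q.Prime) (hpq : p ≠ q) (hpn : p ∣ n) (hqn : q ∣ n)
    (hreg : ∀ m ∈ (subsetSums (ds.map Prod.snd)).map (· + 1),
      ∀ m' ∈ (subsetSums (ds.map Prod.snd)).map (· + 1), p ∣ m → q ∣ m' → n + 1 < m + m') :
    IsSimpleGroup ↥K := by
  have hxx : dotInt (x : GolayPt → ℤ) (x : GolayPt → ℤ) = 32 := by
    rw [lc_dot_self]; exact hx.1
  have hcls : ∀ d : ℤ, d ≠ 32 →
      {y : leechLattice | y ∈ XD cs \ {x} ∧ dotInt (x : GolayPt → ℤ) (y : GolayPt → ℤ) = d}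
        = XD (cs ++ [(x, d)]) := by
    intro d hd
    ext y
    rw [XD_append]
    constructor
    · rintro ⟨⟨h1, _⟩, h2⟩
      exact ⟨h1, h2⟩
    · rintro ⟨h1, h2⟩
      refine ⟨⟨h1, ?_⟩, h2⟩
      intro hyx
      have hyx' : y = x := hyx
      rw [hyx', hxx] at h2
      exact hd h2.symm
  refine leech_simple K (XD cs) (fun k hk y hy => XD_inv k.2 ((hK k).mp hk) hy) x hx ?_ hH
    (fun y => dotInt (x : GolayPt → ℤ) (y : GolayPt → ℤ)) ds ?_ ?_ ?_ hbig n hn hn0 hdiv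
    p q hp hq hpq hpn hqn hreg
  · intro y hy
    obtain ⟨g, hg, hf, e⟩ := htrans y hy
    exact ⟨⟨g, hg⟩, (hK _).mpr hf, e⟩
  · intro y hy hne
    rcases hds y hy with h | h
    · exact absurd h hne
    · exact h
  · intro pp hpp
    rw [hcls pp.1 (h32 pp hpp)]
    exact (hlev pp hpp).1
  · intro y hy y' hy' hne hne' hc
    have hc' : dotInt (x : GolayPt → ℤ) (y' : GolayPt → ℤ)
        = dotInt (x : GolayPt → ℤ) (y : GolayPt → ℤ) := hc
    rcases hds y hy with h | h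
    · exact absurd h hne
    · rw [List.mem_map] at h
      obtain ⟨pp, hpp, e⟩ := h
      have hy1 : y ∈ XD (cs ++ [(x, pp.1)]) := (XD_append _ _ _ _).mpr ⟨hy, e.symm⟩
      have hy1' : y' ∈ XD (cs ++ [(x, pp.1)]) :=
        (XD_append _ _ _ _).mpr ⟨hy', by rw [hc', e]⟩
      obtain ⟨g, hg, hf, eg⟩ := (hlev pp hpp).2 y hy1 y' hy1'
      rw [FixS_append] at hf
      exact ⟨⟨g, hg⟩, (hK _).mpr hf.1, hf.2, eg⟩

theorem fixS_pair (g : Equiv.Perm leechLattice) (v w : leechLattice) (d e : ℤ) :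
    FixS g [(v, d), (w, e)] ↔ g v = v ∧ g w = w := by
  unfold FixS
  simp only [List.forall_mem_cons, List.not_mem_nil, false_imp_iff, implies_true, and_true]

theorem fixS_single (g : Equiv.Perm leechLattice) (v : leechLattice) (d : ℤ) :
    FixS g [(v, d)] ↔ g v = v := by
  unfold FixS
  simp only [List.forall_mem_cons, List.not_mem_nil, false_imp_iff, implies_true, and_true]

theorem mem_stab_pair (v w : leechLattice) (d e : ℤ) (g : ↥Co0) :
    g ∈ MulAction.stabilizer ↥Co0 v ⊓ MulAction.stabilizer ↥Co0 w ↔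
      FixS (g : Equiv.Perm leechLattice) [(v, d), (w, e)] := by
  rw [fixS_pair, Subgroup.mem_inf, MulAction.mem_stabilizer_iff, MulAction.mem_stabilizer_iff]
  rfl

theorem mem_stab_single (v : leechLattice) (d : ℤ) (g : ↥Co0) :
    g ∈ MulAction.stabilizer ↥Co0 v ↔ FixS (g : Equiv.Perm leechLattice) [(v, d)] := by
  rw [fixS_single, MulAction.mem_stabilizer_iff]
  rfl

/-- the root of a level lies in its set -/
theorem root_mem {cs : List (leechLattice × ℤ)} {w0 : leechLattice} {N : ℕ}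
    (hstab : ∀ x ∈ XD cs, ∃ g ∈ Co0, FixS g cs ∧ g w0 = x) (hcard : (XD cs).ncard = N + 1) :
    w0 ∈ XD cs := by
  obtain ⟨x, hx⟩ : (XD cs).Nonempty := Set.nonempty_of_ncard_ne_zero (by rw [hcard]; omega)
  obtain ⟨g, hg, hf, e⟩ := hstab x hx
  have e2 : g⁻¹ x = w0 := by rw [Equiv.Perm.inv_eq_iff_eq]; exact e.symm
  rw [← e2]
  exact XD_inv (inv_mem hg) (FixS_inv hf) hx

end Cfsg.Agent.H33
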