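import Mathlib
import Cfsg.Agent.H33.LSimple
import Cfsg.Agent.H33.LM22
import Cfsg.Agent.H33.LHS

/-!
The joint stabiliser of two vectors of the second shell with inner product `-32` is a simple
group of order `44352000`.
-/

set_option autoImplicit false
set_option maxRecDepth 100000

namespace Cfsg.Agent.H33

open Cfsg Cfsg.Agent.H9 Cfsg.Agent.H93

theorem LF552A_shape : shapeOK LF552A 129 = true := by decide +kernel
theorem LHSW_shape : shapeOK LHSW 127 = true := by decide +kernel
theorem L100W_shape : shapeOK L100W 128 = true := by decide +kernel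

theorem xh48_mem_Xdot : xh48 ∈ Xdot (-16) a48 :=
  ⟨by show sqNorm (vec LF11178W) = 32
      rw [sqNorm_vec, LF11178W_sq]; rfl,
   by show dotInt (vec LF11178A) (vec LF11178W) = -16
      rw [dotInt_vec, LF11178_dot]; rfl⟩

/-- a vector and the negative of its sum with a fixed vector have the same stabiliser in the
stabiliser of the fixed vector -/
theorem stab_neg_add (u y : leechLattice) :
    MulAction.stabilizer ↥Co0 u ⊓ MulAction.stabilizer ↥Co0 (-(u + y))
      = MulAction.stabilizer ↥Co0 u ⊓ MulAction.stabilizer ↥Co0 y := by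
  ext g
  simp only [Subgroup.mem_inf, MulAction.mem_stabilizer_iff]
  have hadd := g.2.1
  constructor
  · rintro ⟨h1, h2⟩
    refine ⟨h1, ?_⟩
    have h1' : (g : Equiv.Perm leechLattice) u = u := h1
    have h2' : (g : Equiv.Perm leechLattice) (-(u + y)) = -(u + y) := h2
    rw [co0_map_neg g.2, hadd, h1'] at h2'
    show (g : Equiv.Perm leechLattice) y = y
    have h3 := neg_injective h2'
    exact add_left_cancel h3
  · rintro ⟨h1, h2⟩
    refine ⟨h1, ?_⟩
    have h1' : (g : Equiv.Perm leechLattice) u = u := h1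
    have h2' : (g : Equiv.Perm leechLattice) y = y := h2
    show (g : Equiv.Perm leechLattice) (-(u + y)) = -(u + y)
    rw [co0_map_neg g.2, hadd, h1', h2']

theorem hs_std_card :
    Nat.card ↥(MulAction.stabilizer ↥Co0 a48 ⊓ MulAction.stabilizer ↥Co0 w48) = 44352000 := by
  rw [w48_eq, stab_neg_add]
  exact card_stab48_16 a48 xh48 a48_sq xh48_mem_Xdot

theorem x100_mem : x100 ∈ XD [(a48, 24), (w48, -24)] :=
  root_mem L100_level.1 L100_level.2.1

theorem hs_std_stab_card :
    Nat.card ↥(MulAction.stabilizer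
      ↥(MulAction.stabilizer ↥Co0 a48 ⊓ MulAction.stabilizer ↥Co0 w48) x100) = 443520 := by
  have h := card_stab_sub (MulAction.stabilizer ↥Co0 a48 ⊓ MulAction.stabilizer ↥Co0 w48) x100
  rw [orbit_eq_XD _ (mem_stab_pair a48 w48 24 (-24)) (level_pair L100_level.1) x100_mem,
    L100_level.2.1, hs_std_card] at h
  omega

theorem hs_std_stab_simple :
    IsSimpleGroup ↥(MulAction.stabilizer
      ↥(MulAction.stabilizer ↥Co0 a48 ⊓ MulAction.stabilizer ↥Co0 w48) x100) :=
  stab_simple_of_card _ x100
    (fun σ hσ => Subgroup.mem_inf.mpr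
      ⟨MulAction.mem_stabilizer_iff.mpr (pmHom_fix LF552A_shape LF552A_mem σ hσ),
       MulAction.mem_stabilizer_iff.mpr (pmHom_fix LHSW_shape LHSW_mem σ hσ)⟩)
    (fun σ hσ => pmHom_fix L100W_shape L100W_mem σ hσ) hs_std_stab_card

/-- The standard copy of the group is simple. -/
theorem hs_std_simple :
    IsSimpleGroup ↥(MulAction.stabilizer ↥Co0 a48 ⊓ MulAction.stabilizer ↥Co0 w48) := by
  refine leech_simple_XD [(a48, 24), (w48, -24)] _ (mem_stab_pair a48 w48 24 (-24)) x100
    x100_mem L100_level.1 hs_std_stab_simple [(8, 22), (16, 77)] ?_ (by decide) ?_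
    ⟨(8, 22), by simp, by norm_num⟩ 100 L100_level.2.1 (by norm_num) (by decide) 5 2
    (by norm_num) (by norm_num) (by norm_num) (by norm_num) (by norm_num) (by decide)
  · intro y hy
    rcases L100_vals y hy with h | h | h
    · left
      exact eq_of_dot32 x100_mem.1 hy.1 h
    · right; rw [h]; simp
    · right; rw [h]; simp
  · intro p hp
    simp only [List.mem_cons, List.not_mem_nil, or_false] at hp
    rcases hp with rfl | rfl
    · exact ⟨L22_level.2, level_pair L22_level.1⟩
    · exact ⟨L77_level.2, level_pair L77_level.1⟩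

/-- The joint stabiliser of two vectors of the second shell with inner product `-32` is
simple of order `44352000`. -/
theorem hs_isHS (v w : leechLattice) (hv : sqNorm (v : GolayPt → ℤ) = 48)
    (hw : sqNorm (w : GolayPt → ℤ) = 48)
    (hvw : dotInt (v : GolayPt → ℤ) (w : GolayPt → ℤ) = -32) :
    IsSimpleGroup ↥(MulAction.stabilizer ↥Co0 v ⊓ MulAction.stabilizer ↥Co0 w) ∧
      Nat.card ↥(MulAction.stabilizer ↥Co0 v ⊓ MulAction.stabilizer ↥Co0 w) = 44352000 := by
  obtain ⟨h, hh, he⟩ := hs_pair_to_std v w hv hw hvw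
  have hev : h v = a48 := by
    have : [(h v, (24 : ℤ)), (h w, (-24 : ℤ))] = [(a48, 24), (w48, -24)] := he
    simp only [List.cons.injEq, Prod.mk.injEq, and_true] at this
    exact this.1
  have hew : h w = w48 := by
    have : [(h v, (24 : ℤ)), (h w, (-24 : ℤ))] = [(a48, 24), (w48, -24)] := he
    simp only [List.cons.injEq, Prod.mk.injEq, and_true] at this
    exact this.2
  have hconj : ∀ g : ↥Co0, g ∈ MulAction.stabilizer ↥Co0 v ⊓ MulAction.stabilizer ↥Co0 w ↔
      (⟨h, hh⟩ : ↥Co0) * g * (⟨h, hh⟩ : ↥Co0)⁻¹ ∈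
        MulAction.stabilizer ↥Co0 a48 ⊓ MulAction.stabilizer ↥Co0 w48 := by
    intro g
    simp only [Subgroup.mem_inf, MulAction.mem_stabilizer_iff]
    have key : ∀ (z z' : leechLattice), h z = z' →
        (((⟨h, hh⟩ : ↥Co0) * g * (⟨h, hh⟩ : ↥Co0)⁻¹) • z' = z' ↔ g • z = z) := by
      intro z z' e
      have e' : h⁻¹ z' = z := by rw [Equiv.Perm.inv_eq_iff_eq]; exact e.symm
      show h ((g : Equiv.Perm leechLattice) (h⁻¹ z')) = z' ↔ (g : Equiv.Perm leechLattice) z = z
      rw [e', ← e]
      exact h.injective.eq_iff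
    rw [key v a48 hev, key w w48 hew]
  let e := conjEquiv _ _ (⟨h, hh⟩ : ↥Co0) hconj
  exact ⟨simple_of_mulEquiv e hs_std_simple, by
    rw [Nat.card_congr e.toEquiv]; exact hs_std_card⟩

end Cfsg.Agent.H33
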