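import Mathlib
import Cfsg.Agent.H33.LHSSimple
import Cfsg.Agent.H33.LCo3

/-!
The stabiliser of a vector of the second shell is a simple group of order `495766656000`.
-/

set_option autoImplicit false
set_option maxRecDepth 100000

namespace Cfsg.Agent.H33

open Cfsg Cfsg.Agent.H9 Cfsg.Agent.H93

/-- the stabiliser of a point in a subgroup, as an intersection -/
noncomputable def stabInfEquiv {G β : Type*} [Group G] [MulAction G β] (K : Subgroup G) (y : β) :
    ↥(MulAction.stabilizer ↥K y) ≃* ↥(K ⊓ MulAction.stabilizer G y) where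
  toFun k := ⟨k.1.1, ⟨k.1.2, k.2⟩⟩
  invFun g := ⟨⟨g.1, g.2.1⟩, g.2.2⟩
  left_inv _ := rfl
  right_inv _ := rfl
  map_mul' _ _ := rfl

theorem xh48_mem : xh48 ∈ XD [(a48, -16)] :=
  (XD_one a48 (-16) xh48).mpr ⟨xh48_mem_Xdot.1, xh48_mem_Xdot.2⟩

theorem co3_std_stab_simple :
    IsSimpleGroup ↥(MulAction.stabilizer ↥(MulAction.stabilizer ↥Co0 a48) xh48) := by
  have h := hs_std_simple
  rw [w48_eq, stab_neg_add] at h
  exact simple_of_mulEquiv (stabInfEquiv (MulAction.stabilizer ↥Co0 a48) xh48) h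

theorem ncard_XD_48_16 : (XD [(a48, -16)]).ncard = 11178 := by
  have e : XD [(a48, -16)] = Xdot (-16) a48 := Set.ext fun y => XD_one a48 (-16) y
  rw [e]
  exact ncard_48_16 a48 a48_sq

/-- The standard copy of the group is simple. -/
theorem co3_std_simple : IsSimpleGroup ↥(MulAction.stabilizer ↥Co0 a48) := by
  refine leech_simple_XD [(a48, -16)] _ (mem_stab_single a48 (-16)) xh48
    xh48_mem ?_ co3_std_stab_simple [(-8, 352), (16, 1100), (0, 4125), (8, 5600)] ?_ (by decide) ?_
    ⟨(-8, 352), by simp, by norm_num⟩ 11178 ncard_XD_48_16 (by norm_num) (by decide) 23 2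
    (by norm_num) (by norm_num) (by norm_num) (by norm_num) (by norm_num) (by decide)
  · intro y hy
    rw [XD_one] at hy
    obtain ⟨g, hg, e1, e2⟩ := stab_11178.1 y ⟨hy.1, hy.2⟩
    exact ⟨g, hg, (fixS_single g a48 (-16)).mpr e1, e2⟩
  · intro y hy
    rcases co3_vals y hy with h | h | h | h | h
    · left
      exact eq_of_dot32 xh48_mem.1 hy.1 h
    · right; rw [h]; simp
    · right; rw [h]; simp
    · right; rw [h]; simp
    · right; rw [h]; simp
  · intro p hp
    simp only [List.mem_cons, List.not_mem_nil, or_false] at hp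
    rcases hp with rfl | rfl | rfl | rfl
    · exact ⟨L352_level.2, level_pair L352_level.1⟩
    · exact ⟨L1100_level.2, level_pair L1100_level.1⟩
    · exact ⟨L4125_level.2, level_pair L4125_level.1⟩
    · exact ⟨L5600_level.2, level_pair L5600_level.1⟩

/-- conjugation of a stabiliser -/
theorem stab_conj (h : Equiv.Perm leechLattice) (hh : h ∈ Co0) (v v' : leechLattice)
    (hev : h v = v') :
    ∀ g : ↥Co0, g ∈ MulAction.stabilizer ↥Co0 v ↔
      (⟨h, hh⟩ : ↥Co0) * g * (⟨h, hh⟩ : ↥Co0)⁻¹ ∈ MulAction.stabilizer ↥Co0 v' := by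
  intro g
  simp only [MulAction.mem_stabilizer_iff]
  have e' : h⁻¹ v' = v := by rw [Equiv.Perm.inv_eq_iff_eq]; exact hev.symm
  show (g : Equiv.Perm leechLattice) v = v ↔ h ((g : Equiv.Perm leechLattice) (h⁻¹ v')) = v'
  rw [e', ← hev]
  exact h.injective.eq_iff.symm

/-- The stabiliser of a vector of the second shell is simple of order `495766656000`. -/
theorem co3_isCo3 (v : leechLattice) (hv : sqNorm (v : GolayPt → ℤ) = 48) :
    IsSimpleGroup ↥(MulAction.stabilizer ↥Co0 v) ∧
      Nat.card ↥(MulAction.stabilizer ↥Co0 v) = 495766656000 := by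
  obtain ⟨h, hh, he⟩ := co0_trans48 v a48 hv a48_sq
  let e := conjEquiv _ _ (⟨h, hh⟩ : ↥Co0) (stab_conj h hh v a48 he)
  exact ⟨simple_of_mulEquiv e co3_std_simple, card_stab48 v hv⟩

end Cfsg.Agent.H33
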