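import Mathlib
import Cfsg.Agent.H33.GSimple

/-!
A refinement of the simplicity criterion of `GSimple`: the normal subgroups of a transitive
group with a simple point stabiliser, relative to a subgroup `Z` playing the role of the kernel,
and with the additional congruence for the number of elements of prime order.
-/

set_option autoImplicit false

namespace Cfsg.Agent.H33

/-- In a finite group the number of elements of prime order `p` is divisible by `p - 1`. -/
theorem pred_dvd_card_pow_eq_one (N : Type*) [Group N] [Finite N] (p : ℕ) [hp : Fact p.Prime] :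
    (p - 1) ∣ Nat.card {g : N // g ^ p = 1} - 1 := by
  classical
  have := Fintype.ofFinite N
  have hA : Nat.card {g : N // g ^ p = 1}
      = (Finset.univ.filter (fun g : N => orderOf g = p)).card + 1 := by
    have h1 : Nat.card {g : N // g ^ p = 1}
        = (insert (1 : N) (Finset.univ.filter (fun g : N => orderOf g = p))).card := by
      rw [← Nat.card_eq_finsetCard]
      apply Nat.card_congr
      refine Equiv.subtypeEquivRight (fun g => ?_)
      simp only [Finset.mem_insert, Finset.mem_filter, Finset.mem_univ, true_and]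
      constructor
      · intro h
        by_cases h1 : g = 1
        · exact Or.inl h1
        · exact Or.inr (orderOf_eq_prime h h1)
      · rintro (rfl | h)
        · exact one_pow p
        · rw [← h]; exact pow_orderOf_eq_one g
    rw [h1, Finset.card_insert_of_notMem]
    simp only [Finset.mem_filter, Finset.mem_univ, true_and, orderOf_one]
    exact fun h => hp.out.ne_one h.symm
  rw [hA, Nat.add_sub_cancel]
  rw [Finset.card_eq_sum_card_fiberwise (s := Finset.univ.filter (fun g : N => orderOf g = p))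
    (t := (Finset.univ.filter (fun g : N => orderOf g = p)).image Subgroup.zpowers)
    (f := Subgroup.zpowers) (fun g hg => Finset.mem_image_of_mem _ hg)]
  apply Finset.dvd_sum
  intro C hC
  obtain ⟨g0, hg0, rfl⟩ := Finset.mem_image.mp hC
  have hg0' : orderOf g0 = p := (Finset.mem_filter.mp hg0).2
  have e : (Finset.univ.filter (fun g : N => orderOf g = p)).filter
      (fun g => Subgroup.zpowers g = Subgroup.zpowers g0)
      = (Finset.univ.filter (fun g : N => g ∈ Subgroup.zpowers g0)).erase 1 := by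
    ext g
    simp only [Finset.mem_filter, Finset.mem_univ, true_and, Finset.mem_erase]
    constructor
    · rintro ⟨h1, h2⟩
      refine ⟨?_, ?_⟩
      · rintro rfl
        rw [orderOf_one] at h1
        exact hp.out.ne_one h1.symm
      · rw [← h2]; exact Subgroup.mem_zpowers g
    · rintro ⟨h1, h2⟩
      have hgp : g ^ p = 1 := by
        obtain ⟨k, rfl⟩ := h2
        rw [← zpow_natCast, ← zpow_mul, mul_comm, zpow_mul, zpow_natCast, ← hg0',
          pow_orderOf_eq_one, one_zpow]
      have ho : orderOf g = p := orderOf_eq_prime hgp h1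
      refine ⟨ho, ?_⟩
      apply Subgroup.eq_of_le_of_card_ge ((Subgroup.zpowers_le).mpr h2)
      rw [Nat.card_zpowers, Nat.card_zpowers, ho, hg0']
  rw [e, Finset.card_erase_of_mem (by simp [one_mem])]
  have hc : (Finset.univ.filter (fun g : N => g ∈ Subgroup.zpowers g0)).card = p := by
    rw [← hg0', ← Nat.card_zpowers, ← Nat.card_eq_finsetCard]
    apply Nat.card_congr
    exact Equiv.subtypeEquivRight (fun g => by simp)
  rw [hc]

/-- The normal subgroups of a transitive group with a simple point stabiliser: each is contained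
in `Z` or is the whole group. -/
theorem normal_le_or_top {G α : Type*} [Group G] [Finite G] [MulAction G α] [Finite α]
    (x : α) (htrans : ∀ y : α, ∃ g : G, g • x = y)
    (hH : IsSimpleGroup ↥(MulAction.stabilizer G x))
    (Z : Subgroup G)
    (hker : ∀ N : Subgroup G, N.Normal → (∀ n ∈ N, ∃ z ∈ Z, n • x = z • x) → N ≤ Z)
    (L : List ℕ)
    (hL : ∀ T : Set α, x ∈ T → (∀ h ∈ MulAction.stabilizer G x, ∀ y ∈ T, h • y ∈ T) →
      T.ncard ∈ L)
    (hsmall : ∀ T : Set α, x ∈ T → (∀ h ∈ MulAction.stabilizer G x, ∀ y ∈ T, h • y ∈ T) →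
      T.ncard ∣ Nat.card α → T.ncard ≠ Nat.card α → ∀ y ∈ T, ∃ z ∈ Z, y = z • x)
    (p q : ℕ) (hp : p.Prime) (hq : q.Prime) (hpq : p ≠ q) (hpn : p ∣ Nat.card α)
    (hqn : q ∣ Nat.card α)
    (hreg : ∀ m ∈ L, ∀ m' ∈ L, p ∣ m → (p - 1) ∣ (m - 1) → q ∣ m' → (q - 1) ∣ (m' - 1) →
      Nat.card α + 1 < m + m') :
    ∀ N : Subgroup G, N.Normal → N ≤ Z ∨ N = ⊤ := by
  classical
  intro N hN
  have hpre : MulAction.IsPretransitive G α := ⟨fun a b => by
    obtain ⟨g, hg⟩ := htrans a
    obtain ⟨g', hg'⟩ := htrans b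
    exact ⟨g' * g⁻¹, by rw [← hg, ← hg', mul_smul, inv_smul_smul]⟩⟩
  have hstab : ∀ h : G, h ∈ MulAction.stabilizer G x ↔ h • x = x :=
    fun h => MulAction.mem_stabilizer_iff
  have hxT : x ∈ MulAction.orbit N x := MulAction.mem_orbit_self x
  have hTinv : ∀ h ∈ MulAction.stabilizer G x, ∀ y ∈ MulAction.orbit N x,
      h • y ∈ MulAction.orbit N x := by
    rintro h hh y ⟨n, rfl⟩
    refine ⟨⟨h * n.1 * h⁻¹, hN.conj_mem n.1 n.2 h⟩, ?_⟩
    show (h * n.1 * h⁻¹) • x = h • (n.1 • x)
    rw [mul_smul, mul_smul, (hstab _).mp (inv_mem hh)]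
  have hTdvd : (MulAction.orbit N x).ncard ∣ Nat.card α :=
    (MulAction.IsBlock.orbit_of_normal (G := G) (N := N) x).ncard_dvd_card ⟨x, hxT⟩
  have hsimp := hH.eq_bot_or_eq_top_of_normal (N.subgroupOf (MulAction.stabilizer G x))
    inferInstance
  by_cases hn : (MulAction.orbit N x).ncard = Nat.card α
  · -- `N` is transitive
    have hTuniv : MulAction.orbit N x = Set.univ := by
      apply Set.eq_of_subset_of_ncard_le (Set.subset_univ _) _ (Set.toFinite _)
      rw [Set.ncard_univ, hn]
    have hNtrans : ∀ y : α, ∃ n ∈ N, n • x = y := by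
      intro y
      have : y ∈ MulAction.orbit N x := by rw [hTuniv]; trivial
      obtain ⟨n, rfl⟩ := this
      exact ⟨n.1, n.2, rfl⟩
    rcases hsimp with hb | ht
    · -- the regular case
      exfalso
      rw [Subgroup.subgroupOf_eq_bot] at hb
      have hinj : Function.Injective (fun n : N => n.1 • x) := by
        intro n m hnm
        have h1 : (m.1⁻¹ * n.1) • x = x := by
          rw [mul_smul]
          show m.1⁻¹ • (n.1 • x) = x
          have : n.1 • x = m.1 • x := hnm
          rw [this, inv_smul_smul]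
        have h2 : m.1⁻¹ * n.1 ∈ N ⊓ MulAction.stabilizer G x :=
          Subgroup.mem_inf.mpr ⟨N.mul_mem (N.inv_mem m.2) n.2, (hstab _).mpr h1⟩
        rw [hb.eq_bot, Subgroup.mem_bot] at h2
        apply Subtype.ext
        have : n.1 = m.1 * (m.1⁻¹ * n.1) := by group
        rw [this, h2, mul_one]
      have hbij : Function.Bijective (fun n : N => n.1 • x) :=
        ⟨hinj, fun y => by
          obtain ⟨n, hn, e⟩ := hNtrans y
          exact ⟨⟨n, hn⟩, e⟩⟩
      have hcardN : Nat.card N = Nat.card α := Nat.card_eq_of_bijective _ hbij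
      have key : ∀ r : ℕ, r.Prime → r ∣ Nat.card α →
          ((fun n : N => n.1 • x) '' {n : N | n ^ r = 1}).ncard ∈ L ∧
            r ∣ ((fun n : N => n.1 • x) '' {n : N | n ^ r = 1}).ncard ∧
            (r - 1) ∣ ((fun n : N => n.1 • x) '' {n : N | n ^ r = 1}).ncard - 1 := by
        intro r hr hrn
        have : Fact r.Prime := ⟨hr⟩
        refine ⟨hL _ ⟨1, one_pow r, one_smul _ x⟩ ?_, ?_, ?_⟩
        · rintro h hh y ⟨n, hn, rfl⟩
          refine ⟨⟨h * n.1 * h⁻¹, hN.conj_mem n.1 n.2 h⟩, ?_, ?_⟩
          · show (⟨h * n.1 * h⁻¹, hN.conj_mem n.1 n.2 h⟩ : N) ^ r = 1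
            apply Subtype.ext
            show (h * n.1 * h⁻¹) ^ r = 1
            have h4 : n.1 ^ r = 1 := congrArg Subtype.val hn
            rw [conj_pow, h4, mul_one, mul_inv_cancel]
          · show (h * n.1 * h⁻¹) • x = h • (n.1 • x)
            rw [mul_smul, mul_smul, (hstab _).mp (inv_mem hh)]
        · rw [Set.ncard_image_of_injective _ hinj]
          have := card_pow_eq_one_dvd N r (by rw [hcardN]; exact hrn)
          exact this
        · rw [Set.ncard_image_of_injective _ hinj]
          have := pred_dvd_card_pow_eq_one N r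
          exact this
      obtain ⟨hpL, hpd, hpd'⟩ := key p hp hpn
      obtain ⟨hqL, hqd, hqd'⟩ := key q hq hqn
      have hlt := hreg _ hpL _ hqL hpd hpd' hqd hqd'
      have hinter : ((fun n : N => n.1 • x) '' {n : N | n ^ p = 1}) ∩
          ((fun n : N => n.1 • x) '' {n : N | n ^ q = 1}) ⊆ {x} := by
        rintro y ⟨⟨n, hn, rfl⟩, ⟨m, hm, e⟩⟩
        have hmn : m = n := hinj e
        subst hmn
        have h5 : m ^ Nat.gcd p q = 1 := pow_gcd_eq_one.mpr ⟨hn, hm⟩
        rw [(Nat.coprime_primes hp hq).mpr hpq, pow_one] at h5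
        rw [h5]
        show (1 : G) • x ∈ ({x} : Set α)
        rw [one_smul]
        rfl
      have h6 := Set.ncard_union_add_ncard_inter
        ((fun n : N => n.1 • x) '' {n : N | n ^ p = 1})
        ((fun n : N => n.1 • x) '' {n : N | n ^ q = 1}) (Set.toFinite _) (Set.toFinite _)
      have h7 : (((fun n : N => n.1 • x) '' {n : N | n ^ p = 1}) ∩
          ((fun n : N => n.1 • x) '' {n : N | n ^ q = 1})).ncard ≤ 1 := by
        have := Set.ncard_le_ncard hinter (Set.toFinite _)
        rwa [Set.ncard_singleton] at this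
      have h8 : (((fun n : N => n.1 • x) '' {n : N | n ^ p = 1}) ∪
          ((fun n : N => n.1 • x) '' {n : N | n ^ q = 1})).ncard ≤ Nat.card α := by
        have := Set.ncard_le_ncard (Set.subset_univ
          (((fun n : N => n.1 • x) '' {n : N | n ^ p = 1}) ∪
          ((fun n : N => n.1 • x) '' {n : N | n ^ q = 1}))) (Set.toFinite _)
        rwa [Set.ncard_univ] at this
      omega
    · -- `N` contains the point stabiliser
      right
      rw [Subgroup.subgroupOf_eq_top] at ht
      rw [eq_top_iff]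
      intro g _
      obtain ⟨n, hn, e⟩ := hNtrans (g • x)
      have h1 : (n⁻¹ * g) • x = x := by rw [mul_smul, ← e, inv_smul_smul]
      have h2 : n⁻¹ * g ∈ N := ht ((hstab _).mpr h1)
      have : g = n * (n⁻¹ * g) := by group
      rw [this]
      exact mul_mem hn h2
  · left
    apply hker N hN
    intro n hn'
    obtain ⟨z, hz, e⟩ := hsmall _ hxT hTinv hTdvd hn (n • x) ⟨⟨n, hn'⟩, rfl⟩
    exact ⟨z, hz, e⟩

/-- The simplicity criterion, with the refined count. -/
theorem simple_of_suborbits2 {G α : Type*} [Group G] [Finite G] [MulAction G α] [Finite α]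
    (x : α) (htrans : ∀ y : α, ∃ g : G, g • x = y)
    (hH : IsSimpleGroup ↥(MulAction.stabilizer G x))
    (hmove : ∃ h ∈ MulAction.stabilizer G x, ∃ y : α, h • y ≠ y)
    (L : List ℕ)
    (hL : ∀ T : Set α, x ∈ T → (∀ h ∈ MulAction.stabilizer G x, ∀ y ∈ T, h • y ∈ T) →
      T.ncard ∈ L)
    (hdiv : ∀ m ∈ L, m ∣ Nat.card α → m = 1 ∨ m = Nat.card α)
    (p q : ℕ) (hp : p.Prime) (hq : q.Prime) (hpq : p ≠ q) (hpn : p ∣ Nat.card α)
    (hqn : q ∣ Nat.card α)
    (hreg : ∀ m ∈ L, ∀ m' ∈ L, p ∣ m → (p - 1) ∣ (m - 1) → q ∣ m' → (q - 1) ∣ (m' - 1) →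
      Nat.card α + 1 < m + m') :
    IsSimpleGroup G := by
  have hnt : Nontrivial G := by
    obtain ⟨a, b, hab⟩ := hH.toNontrivial.exists_pair_ne
    exact ⟨⟨a.1, b.1, fun h => hab (Subtype.ext h)⟩⟩
  have hstab : ∀ h : G, h ∈ MulAction.stabilizer G x ↔ h • x = x :=
    fun h => MulAction.mem_stabilizer_iff
  refine ⟨fun N hN => ?_⟩
  have h := normal_le_or_top x htrans hH ⊥ ?_ L hL ?_ p q hp hq hpq hpn hqn hreg N hN
  · rcases h with h | h
    · exact Or.inl (le_bot_iff.mp h)
    · exact Or.inr h
  · -- the kernel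
    intro M hM hfix
    have hMH : M ≤ MulAction.stabilizer G x := by
      intro n hn
      obtain ⟨z, hz, e⟩ := hfix n hn
      rw [Subgroup.mem_bot] at hz
      rw [hstab, e, hz, one_smul]
    have hsimp := hH.eq_bot_or_eq_top_of_normal (M.subgroupOf (MulAction.stabilizer G x))
      inferInstance
    rcases hsimp with hb | ht
    · rw [Subgroup.subgroupOf_eq_bot] at hb
      exact le_of_eq (hb.eq_bot_of_le hMH)
    · exfalso
      rw [Subgroup.subgroupOf_eq_top] at ht
      obtain ⟨h, hh, y, hy⟩ := hmove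
      obtain ⟨g, rfl⟩ := htrans y
      apply hy
      have h2 : g⁻¹ * h * g ∈ M := by
        have := hM.conj_mem h (ht hh) g⁻¹
        rwa [inv_inv] at this
      have h3 := (hstab _).mp (hMH h2)
      rw [mul_smul, mul_smul] at h3
      calc h • g • x = g • (g⁻¹ • h • g • x) := by rw [smul_inv_smul]
        _ = g • x := by rw [h3]
  · -- small invariant sets
    intro T hxT hTinv hTdvd hne y hy
    rcases hdiv _ (hL T hxT hTinv) hTdvd with h1 | h1
    · obtain ⟨a, ha⟩ := Set.ncard_eq_one.mp h1
      rw [ha] at hxT hy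
      have e1 : x = a := hxT
      have e2 : y = a := hy
      exact ⟨1, Subgroup.mem_bot.mpr rfl, by rw [one_smul, e1, e2]⟩
    · exact absurd h1 hne

end Cfsg.Agent.H33
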