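import Mathlib
import Cfsg.Agent.H33.LChunk

/-!
Tables given in blocks: the field access reads one block only, so that the kernel never has to
shift a long table.
-/

set_option autoImplicit false

namespace Cfsg.Agent.H33

open Cfsg Cfsg.Agent.H9 Cfsg.Agent.H93

/-- concatenation of blocks of `w` bits -/
def catW (w : ℕ) : List ℕ → ℕ
  | [] => 0
  | c :: l => c + 2 ^ w * catW w l

/-- the `k`-th block -/
def nthC : List ℕ → ℕ → ℕ
  | [], _ => 0
  | c :: _, 0 => c
  | _ :: l, k + 1 => nthC l k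

/-- field `j` of a table given in blocks of `ch` fields of `w` bits -/
def fldC (w ch : ℕ) (cs : List ℕ) (j : ℕ) : ℕ :=
  fldW w (nthC cs (Nat.div j ch)) (Nat.mod j ch)

theorem fldW_eq_divmod (W E j : ℕ) : fldW W E j = E / 2 ^ (W * j) % 2 ^ W := by
  unfold fldW
  rw [shiftRight_eq]
  have e : Nat.sub (Nat.shiftLeft 1 W) 1 = 2 ^ W - 1 := by
    show 1 <<< W - 1 = 2 ^ W - 1
    rw [Nat.one_shiftLeft]
  rw [e]
  exact Nat.and_two_pow_sub_one_eq_mod _ W

theorem catW_divmod (w ch : ℕ) (hch : 0 < ch) : ∀ (cs : List ℕ),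
    (∀ c ∈ cs, c < 2 ^ (w * ch)) → ∀ j : ℕ,
      catW (w * ch) cs / 2 ^ (w * j) % 2 ^ w = nthC cs (j / ch) / 2 ^ (w * (j % ch)) % 2 ^ w
  | [], _, j => by simp [catW, nthC]
  | c :: l, h, j => by
    have hc : c < 2 ^ (w * ch) := h c List.mem_cons_self
    have hl : ∀ c ∈ l, c < 2 ^ (w * ch) := fun c hc => h c (List.mem_cons_of_mem _ hc)
    by_cases hj : j < ch
    · rw [Nat.div_eq_of_lt hj, Nat.mod_eq_of_lt hj]
      show (c + 2 ^ (w * ch) * catW (w * ch) l) / 2 ^ (w * j) % 2 ^ w = c / 2 ^ (w * j) % 2 ^ w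
      have e : 2 ^ (w * ch) = 2 ^ (w * j) * (2 ^ w * 2 ^ (w * (ch - j - 1))) := by
        rw [← pow_add, ← pow_add]
        congr 1
        have : ch = j + 1 + (ch - j - 1) := by omega
        conv_lhs => rw [this]
        ring
      rw [e, mul_assoc, Nat.add_mul_div_left _ _ (by positivity), mul_assoc,
        Nat.add_mul_mod_self_left]
    · obtain ⟨j', rfl⟩ := Nat.exists_eq_add_of_le (not_lt.mp hj)
      have h1 : (ch + j') / ch = j' / ch + 1 := by
        rw [Nat.add_div_left _ hch]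
      have h2 : (ch + j') % ch = j' % ch := Nat.add_mod_left ch j'
      rw [h1, h2]
      show (c + 2 ^ (w * ch) * catW (w * ch) l) / 2 ^ (w * (ch + j')) % 2 ^ w
        = nthC l (j' / ch) / 2 ^ (w * (j' % ch)) % 2 ^ w
      have h3 : (c + 2 ^ (w * ch) * catW (w * ch) l) / 2 ^ (w * (ch + j'))
          = catW (w * ch) l / 2 ^ (w * j') := by
        rw [mul_add, pow_add, ← Nat.div_div_eq_div_mul, Nat.add_mul_div_left _ _ (by positivity),
          Nat.div_eq_of_lt hc, zero_add]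
      rw [h3]
      exact catW_divmod w ch hch l hl j'

theorem fldW_catW (w ch : ℕ) (hch : 0 < ch) (cs : List ℕ)
    (hcs : ∀ c ∈ cs, c < 2 ^ (w * ch)) (j : ℕ) :
    fldW w (catW (w * ch) cs) j = fldC w ch cs j := by
  unfold fldC
  rw [fldW_eq_divmod, fldW_eq_divmod]
  exact catW_divmod w ch hch cs hcs j

/-- the blocks are within their width -/
def blocksOK (w ch : ℕ) (cs : List ℕ) : Bool :=
  cs.all (fun c => Nat.blt c (Nat.shiftLeft 1 (Nat.mul w ch)))

theorem blocksOK_spec {w ch : ℕ} {cs : List ℕ} (h : blocksOK w ch cs = true) :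
    ∀ c ∈ cs, c < 2 ^ (w * ch) := by
  intro c hc
  have h1 := lt_of_blt (List.all_eq_true.mp h c hc)
  have e : Nat.shiftLeft 1 (Nat.mul w ch) = 2 ^ (w * ch) := by
    show 1 <<< (w * ch) = 2 ^ (w * ch)
    rw [Nat.one_shiftLeft]
  rwa [e] at h1

/-- the test of one entry of a sorted table, in blocks -/
def csBodyC (ch : ℕ) (Ecs : List ℕ) (N : ℕ) (j : ℕ) : Bool :=
  true && (Nat.ble N (Nat.succ j) ||
    Nat.blt (fldC 192 ch Ecs j) (fldC 192 ch Ecs (Nat.succ j)))

theorem chkSorted_of_bodyC {ch : ℕ} (hch : 0 < ch) {Ecs : List ℕ}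
    (hE : blocksOK 192 ch Ecs = true) {N : ℕ} (h : allB (csBodyC ch Ecs N) N = true) :
    chkSorted (fun _ => true) 192 (catW (192 * ch) Ecs) N = true := by
  unfold chkSorted
  have e : (fun j => (fun _ => true) (fldW 192 (catW (192 * ch) Ecs) j) &&
      (Nat.ble N (Nat.succ j) || Nat.blt (fldW 192 (catW (192 * ch) Ecs) j)
        (fldW 192 (catW (192 * ch) Ecs) (Nat.succ j)))) = csBodyC ch Ecs N := by
    funext j
    unfold csBodyC
    simp only [fldW_catW 192 ch hch Ecs (blocksOK_spec hE)]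
  rw [e]
  exact h

/-- the test of one record of a forest, in blocks -/
def vfBodyC (gens : List (List (ℕ × ℕ))) (W0 ch tch : ℕ) (Ecs Tcs : List ℕ) (N : ℕ) (j : ℕ) :
    Bool :=
  (Nat.beq (vDep (fldC 64 tch Tcs j)) 0 && Nat.beq (fldC 192 ch Ecs j) W0) ||
    (Nat.blt (vPar (fldC 64 tch Tcs j)) N &&
      (Nat.blt (vDep (fldC 64 tch Tcs (vPar (fldC 64 tch Tcs j)))) (vDep (fldC 64 tch Tcs j)) &&
      (runOK (gens.getD (vGen (fldC 64 tch Tcs j)) []) (fldC 192 ch Ecs (vPar (fldC 64 tch Tcs j))) &&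
       Nat.beq (runW (gens.getD (vGen (fldC 64 tch Tcs j)) [])
          (fldC 192 ch Ecs (vPar (fldC 64 tch Tcs j))))
         (fldC 192 ch Ecs j))))

theorem chkVForest_of_bodyC {gens : List (List (ℕ × ℕ))} {W0 ch tch : ℕ} (hch : 0 < ch)
    (htch : 0 < tch) {Ecs Tcs : List ℕ} (hE : blocksOK 192 ch Ecs = true)
    (hT : blocksOK 64 tch Tcs = true) {N : ℕ}
    (h : allB (vfBodyC gens W0 ch tch Ecs Tcs N) N = true) :
    chkVForest gens W0 (catW (192 * ch) Ecs) (catW (64 * tch) Tcs) N = true := by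
  apply chkVForest_of_body
  have e : vfBody gens W0 (catW (192 * ch) Ecs) (catW (64 * tch) Tcs) N
      = vfBodyC gens W0 ch tch Ecs Tcs N := by
    funext j
    unfold vfBody vfBodyC
    simp only [fldW_catW 192 ch hch Ecs (blocksOK_spec hE),
      fldW_catW 64 tch htch Tcs (blocksOK_spec hT)]
  rw [e]
  exact h

end Cfsg.Agent.H33
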