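import Mathlib
import Cfsg.Agent.H33.LRank3
import Cfsg.Agent.H33.L330
import Cfsg.Agent.H33.L462
import Cfsg.Agent.H33.L1232

/-!
The stabiliser of two minimal vectors `v`, `w` with inner product `-8`: its transitive action
on the 2025 minimal vectors `x` with `⟨v, x⟩ = 0` and `⟨w, x⟩ = 16`, and the three nontrivial
orbits of a point stabiliser, of lengths 330, 462 and 1232.
-/

set_option autoImplicit false
set_option maxRecDepth 100000

namespace Cfsg.Agent.H33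

open Cfsg Cfsg.Agent.H9 Cfsg.Agent.H93

/-- the packed vector `(-4, -4, 0^22)` -/
def LMV : ℕ := 0x808080808080808080808080808080808080808080807c7c

/-- the packed vector `(-1, 3, -1^22)` -/
def LMW : ℕ := 0x7f7f7f7f7f7f7f7f7f7f7f7f7f7f7f7f7f7f7f7f7f7f837f

theorem LMV_mem : vec LMV ∈ leechLattice := vec_mem_of_chkL (by decide +kernel)
theorem LMW_mem : vec LMW ∈ leechLattice := vec_mem_of_chkL (by decide +kernel)
theorem LMV_sq : sqV LMV = 32 := by decide +kernel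
theorem LMW_sq : sqV LMW = 32 := by decide +kernel
theorem LMVW_dot : dotV LMV LMW = 393208 := by decide +kernel
theorem LM_add3 : vec LF11178A + vec LMV + vec LMW = 0 := vec_add3 (by decide +kernel)

/-- the vector `(-4, -4, 0^22)` -/
def v32 : leechLattice := ⟨vec LMV, LMV_mem⟩

/-- the vector `(-1, 3, -1^22)` -/
def w32 : leechLattice := ⟨vec LMW, LMW_mem⟩

/-- the vector `(-4, 4, 0^22)` -/
def x2025 : leechLattice := ⟨vec L2025W, L2025W_mem⟩

theorem v32_sq : sqNorm (v32 : GolayPt → ℤ) = 32 := by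
  show sqNorm (vec LMV) = 32
  rw [sqNorm_vec, LMV_sq]; rfl

theorem w32_sq : sqNorm (w32 : GolayPt → ℤ) = 32 := by
  show sqNorm (vec LMW) = 32
  rw [sqNorm_vec, LMW_sq]; rfl

theorem vw32_dot : dotInt (v32 : GolayPt → ℤ) (w32 : GolayPt → ℤ) = -8 := by
  show dotInt (vec LMV) (vec LMW) = -8
  rw [dotInt_vec, LMVW_dot]; norm_num

theorem L2025_cs : csOf L2025P (memL_of_chk L2025_mem) = [(v32, 0), (w32, 16)] := by
  show [((⟨vec LMV, _⟩ : leechLattice), ((393216 : ℕ) : ℤ) - 393216),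
    ((⟨vec LMW, _⟩ : leechLattice), ((393232 : ℕ) : ℤ) - 393216)] = _
  norm_num
  exact ⟨rfl, rfl⟩

theorem lc_dot_zero_left (x : GolayPt → ℤ) : dotInt (0 : GolayPt → ℤ) x = 0 := by
  simp [dotInt]

theorem L2025_level :
    (∀ x ∈ XD [(v32, 0), (w32, 16)], ∃ g ∈ Co0, FixS g [(v32, 0), (w32, 16)] ∧ g x2025 = x) ∧
      (XD [(v32, 0), (w32, 16)]).ncard = 2025 ∧
      ∀ x ∈ XD [(v32, 0), (w32, 16)], ∃ j < 2025,
        (x : GolayPt → ℤ) = vec (fldW 192 L2025E j) := by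
  have h := level_thm (memL_of_chk L2025_mem) L2025W_mem L2025_gens L2025_sorted L2025_forest
    L2025_root (E' := LF11178E) (N' := 11178)
    (by
      intro x hx
      rw [L2025_cs, XD_two] at hx
      apply table_11178 x
      refine ⟨hx.1, ?_⟩
      show dotInt (vec LF11178A) (x : GolayPt → ℤ) = -16
      have h1 : dotInt (vec LF11178A + vec LMV + vec LMW) (x : GolayPt → ℤ) = 0 := by
        rw [LM_add3, lc_dot_zero_left]
      rw [lc_dot_add_left, lc_dot_add_left] at h1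
      have h2 : dotInt (vec LMV) (x : GolayPt → ℤ) = 0 := hx.2.1
      have h3 : dotInt (vec LMW) (x : GolayPt → ℤ) = 16 := hx.2.2
      linarith)
    L2025_count
  rw [L2025_cs] at h
  exact h

/-- every pair of minimal vectors with inner product `-8` is conjugate to the standard one -/
theorem mcl2_pair_to_std (v w : leechLattice) (hv : sqNorm (v : GolayPt → ℤ) = 32)
    (hw : sqNorm (w : GolayPt → ℤ) = 32)
    (hvw : dotInt (v : GolayPt → ℤ) (w : GolayPt → ℤ) = -8) :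
    ∃ h ∈ Co0, actC h [(v, 0), (w, 16)] = [(v32, 0), (w32, 16)] := by
  obtain ⟨h1, hh1, e1⟩ := co0_trans32 v v32 hv v32_sq
  have hw1 : sqNorm ((h1 w : leechLattice) : GolayPt → ℤ) = 32 := by rw [hh1.2]; exact hw
  have hd1 : dotInt (v32 : GolayPt → ℤ) ((h1 w : leechLattice) : GolayPt → ℤ) = -8 := by
    rw [← e1, co0_dot hh1]; exact hvw
  obtain ⟨k, hk, ek1, ek2⟩ := trans_min8 v32 (h1 w) w32 v32_sq hw1 w32_sq hd1 vw32_dot
  refine ⟨k * h1, mul_mem hk hh1, ?_⟩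
  show [((k * h1) v, (0 : ℤ)), ((k * h1) w, (16 : ℤ))] = _
  rw [Equiv.Perm.mul_apply, Equiv.Perm.mul_apply, e1, ek1, ek2]

theorem L330_cs : csOf L330P (memL_of_chk L330_mem) = [(v32, 0), (w32, 16), (x2025, 0)] := by
  show [((⟨vec LMV, _⟩ : leechLattice), ((393216 : ℕ) : ℤ) - 393216),
    ((⟨vec LMW, _⟩ : leechLattice), ((393232 : ℕ) : ℤ) - 393216),
    ((⟨vec L2025W, _⟩ : leechLattice), ((393216 : ℕ) : ℤ) - 393216)] = _
  norm_num
  exact ⟨rfl, rfl, rfl⟩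

theorem L462_cs : csOf L462P (memL_of_chk L462_mem) = [(v32, 0), (w32, 16), (x2025, 16)] := by
  show [((⟨vec LMV, _⟩ : leechLattice), ((393216 : ℕ) : ℤ) - 393216),
    ((⟨vec LMW, _⟩ : leechLattice), ((393232 : ℕ) : ℤ) - 393216),
    ((⟨vec L2025W, _⟩ : leechLattice), ((393232 : ℕ) : ℤ) - 393216)] = _
  norm_num
  exact ⟨rfl, rfl, rfl⟩

theorem L1232_cs : csOf L1232P (memL_of_chk L1232_mem) = [(v32, 0), (w32, 16), (x2025, 8)] := by
  show [((⟨vec LMV, _⟩ : leechLattice), ((393216 : ℕ) : ℤ) - 393216),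
    ((⟨vec LMW, _⟩ : leechLattice), ((393232 : ℕ) : ℤ) - 393216),
    ((⟨vec L2025W, _⟩ : leechLattice), ((393224 : ℕ) : ℤ) - 393216)] = _
  norm_num
  exact ⟨rfl, rfl, rfl⟩

theorem L330_level :
    (∀ x ∈ XD [(v32, 0), (w32, 16), (x2025, 0)], ∃ g ∈ Co0,
        FixS g [(v32, 0), (w32, 16), (x2025, 0)] ∧ g ⟨vec L330W, L330W_mem⟩ = x) ∧
      (XD [(v32, 0), (w32, 16), (x2025, 0)]).ncard = 330 := by
  have h := level_thm (memL_of_chk L330_mem) L330W_mem L330_gens L330_sorted L330_forest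
    L330_root (E' := L2025E) (N' := 2025)
    (by
      intro x hx
      rw [L330_cs] at hx
      exact L2025_level.2.2 x (XD_sub_two _ _ _ _ _ _ hx))
    L330_count
  rw [L330_cs] at h
  exact ⟨h.1, h.2.1⟩

theorem L462_level :
    (∀ x ∈ XD [(v32, 0), (w32, 16), (x2025, 16)], ∃ g ∈ Co0,
        FixS g [(v32, 0), (w32, 16), (x2025, 16)] ∧ g ⟨vec L462W, L462W_mem⟩ = x) ∧
      (XD [(v32, 0), (w32, 16), (x2025, 16)]).ncard = 462 := by
  have h := level_thm (memL_of_chk L462_mem) L462W_mem L462_gens L462_sorted L462_forest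
    L462_root (E' := L2025E) (N' := 2025)
    (by
      intro x hx
      rw [L462_cs] at hx
      exact L2025_level.2.2 x (XD_sub_two _ _ _ _ _ _ hx))
    L462_count
  rw [L462_cs] at h
  exact ⟨h.1, h.2.1⟩

theorem L1232_level :
    (∀ x ∈ XD [(v32, 0), (w32, 16), (x2025, 8)], ∃ g ∈ Co0,
        FixS g [(v32, 0), (w32, 16), (x2025, 8)] ∧ g ⟨vec L1232W, L1232W_mem⟩ = x) ∧
      (XD [(v32, 0), (w32, 16), (x2025, 8)]).ncard = 1232 := by
  have h := level_thm (memL_of_chk L1232_mem) L1232W_mem L1232_gens L1232_sorted L1232_forest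
    L1232_root (E' := L2025E) (N' := 2025)
    (by
      intro x hx
      rw [L1232_cs] at hx
      exact L2025_level.2.2 x (XD_sub_two _ _ _ _ _ _ hx))
    L1232_count
  rw [L1232_cs] at h
  exact ⟨h.1, h.2.1⟩

/-- The action on the 2025 vectors and the suborbits. -/
theorem mcl_2025 (v w : leechLattice) (hv : sqNorm (v : GolayPt → ℤ) = 32)
    (hw : sqNorm (w : GolayPt → ℤ) = 32)
    (hvw : dotInt (v : GolayPt → ℤ) (w : GolayPt → ℤ) = -8) :
    (XD [(v, 0), (w, 16)]).ncard = 2025 ∧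
    (∀ x ∈ XD [(v, 0), (w, 16)], ∀ x' ∈ XD [(v, 0), (w, 16)],
      ∃ g ∈ Co0, g v = v ∧ g w = w ∧ g x = x') ∧
    ∀ x ∈ XD [(v, 0), (w, 16)],
      ((XD [(v, 0), (w, 16), (x, 0)]).ncard = 330 ∧
        ∀ y ∈ XD [(v, 0), (w, 16), (x, 0)], ∀ y' ∈ XD [(v, 0), (w, 16), (x, 0)],
          ∃ g ∈ Co0, FixS g [(v, 0), (w, 16), (x, 0)] ∧ g y = y') ∧
      ((XD [(v, 0), (w, 16), (x, 16)]).ncard = 462 ∧
        ∀ y ∈ XD [(v, 0), (w, 16), (x, 16)], ∀ y' ∈ XD [(v, 0), (w, 16), (x, 16)],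
          ∃ g ∈ Co0, FixS g [(v, 0), (w, 16), (x, 16)] ∧ g y = y') ∧
      ((XD [(v, 0), (w, 16), (x, 8)]).ncard = 1232 ∧
        ∀ y ∈ XD [(v, 0), (w, 16), (x, 8)], ∀ y' ∈ XD [(v, 0), (w, 16), (x, 8)],
          ∃ g ∈ Co0, FixS g [(v, 0), (w, 16), (x, 8)] ∧ g y = y') := by
  obtain ⟨h0, hh0, he0⟩ := mcl2_pair_to_std v w hv hw hvw
  obtain ⟨hc, ht⟩ := level_transfer L2025_level.1 L2025_level.2.1 hh0 he0
  refine ⟨hc, ?_, ?_⟩
  · intro x hx x' hx'
    obtain ⟨g, hg, hf, e⟩ := ht x hx x' hx'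
    exact ⟨g, hg, hf (v, 0) (by simp), hf (w, 16) (by simp), e⟩
  · intro x hx
    obtain ⟨h, hh, he, ex⟩ := extend_transfer L2025_level.1 hh0 he0 hx
    have he3 : ∀ d : ℤ, actC h [(v, 0), (w, 16), (x, d)] = [(v32, 0), (w32, 16), (x2025, d)] := by
      intro d
      show actC h ([(v, 0), (w, 16)] ++ [(x, d)]) = _
      rw [actC_append, he]
      show [(v32, (0 : ℤ)), (w32, (16 : ℤ))] ++ [(h x, d)] = _
      rw [ex]
      rfl
    exact ⟨level_transfer L330_level.1 L330_level.2 hh (he3 0),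
      level_transfer L462_level.1 L462_level.2 hh (he3 16),
      level_transfer L1232_level.1 L1232_level.2 hh (he3 8)⟩

theorem fixS_three (g : Equiv.Perm leechLattice) (v w x : leechLattice) (d e f : ℤ) :
    FixS g [(v, d), (w, e), (x, f)] ↔ g v = v ∧ g w = w ∧ g x = x := by
  unfold FixS
  simp only [List.forall_mem_cons, List.not_mem_nil, false_imp_iff, implies_true, and_true]

theorem s1634_aux (v w : leechLattice) (hv : sqNorm (v : GolayPt → ℤ) = 32)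
    (hw : sqNorm (w : GolayPt → ℤ) = 32)
    (hvw : dotInt (v : GolayPt → ℤ) (w : GolayPt → ℤ) = -8)
    (S : Set leechLattice) (hS : S = XD [(v, 0), (w, 16)]) :
    S.ncard = 2025 ∧
    (∀ x ∈ S, ∀ x' ∈ S, ∃ g : ↥Co0, g • v = v ∧ g • w = w ∧ g • x = x') ∧
    ∀ x ∈ S, ∃ y₁ ∈ S, ∃ y₂ ∈ S, ∃ y₃ ∈ S,
      (MulAction.orbit ↥(MulAction.stabilizer ↥Co0 v ⊓ MulAction.stabilizer ↥Co0 w ⊓
        MulAction.stabilizer ↥Co0 x) y₁).ncard = 330 ∧
      (MulAction.orbit ↥(MulAction.stabilizer ↥Co0 v ⊓ MulAction.stabilizer ↥Co0 w ⊓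
        MulAction.stabilizer ↥Co0 x) y₂).ncard = 462 ∧
      (MulAction.orbit ↥(MulAction.stabilizer ↥Co0 v ⊓ MulAction.stabilizer ↥Co0 w ⊓
        MulAction.stabilizer ↥Co0 x) y₃).ncard = 1232 := by
  subst hS
  obtain ⟨hc, ht, h3⟩ := mcl_2025 v w hv hw hvw
  refine ⟨hc, ?_, ?_⟩
  · intro x hx x' hx'
    obtain ⟨g, hg, e1, e2, e3⟩ := ht x hx x' hx'
    exact ⟨⟨g, hg⟩, e1, e2, e3⟩
  · intro x hx
    obtain ⟨⟨c1, t1⟩, ⟨c2, t2⟩, ⟨c3, t3⟩⟩ := h3 x hx
    have hK : ∀ (d : ℤ) (g : ↥Co0), g ∈ (MulAction.stabilizer ↥Co0 v ⊓ MulAction.stabilizer ↥Co0 w ⊓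
        MulAction.stabilizer ↥Co0 x) ↔
        FixS (g : Equiv.Perm leechLattice) [(v, 0), (w, 16), (x, d)] := by
      intro d g
      rw [fixS_three, Subgroup.mem_inf, Subgroup.mem_inf, MulAction.mem_stabilizer_iff,
        MulAction.mem_stabilizer_iff, MulAction.mem_stabilizer_iff, and_assoc]
      rfl
    obtain ⟨y1, hy1⟩ : (XD [(v, 0), (w, 16), (x, 0)]).Nonempty :=
      Set.nonempty_of_ncard_ne_zero (by rw [c1]; norm_num)
    obtain ⟨y2, hy2⟩ : (XD [(v, 0), (w, 16), (x, 16)]).Nonempty :=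
      Set.nonempty_of_ncard_ne_zero (by rw [c2]; norm_num)
    obtain ⟨y3, hy3⟩ : (XD [(v, 0), (w, 16), (x, 8)]).Nonempty :=
      Set.nonempty_of_ncard_ne_zero (by rw [c3]; norm_num)
    refine ⟨y1, XD_sub_two _ _ _ _ _ _ hy1, y2, XD_sub_two _ _ _ _ _ _ hy2,
      y3, XD_sub_two _ _ _ _ _ _ hy3, ?_, ?_, ?_⟩
    · rw [orbit_eq_XD _ (hK 0) t1 hy1, c1]
    · rw [orbit_eq_XD _ (hK 16) t2 hy2, c2]
    · rw [orbit_eq_XD _ (hK 8) t3 hy3, c3]

end Cfsg.Agent.H33
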