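import Mathlib
import Cfsg.Agent.H33.LSimple
import Cfsg.Agent.H33.LM22
import Cfsg.Agent.H33.LMcL2

/-!
The joint stabiliser of two minimal vectors with inner product `-8` is a simple group of order
`898128000`.
-/

set_option autoImplicit false
set_option maxRecDepth 100000

namespace Cfsg.Agent.H33

open Cfsg Cfsg.Agent.H9 Cfsg.Agent.H93

theorem LMV_shape : shapeOK LMV 128 = true := by decide +kernel
theorem LMW_shape : shapeOK LMW 127 = true := by decide +kernel
theorem L2025W_shape : shapeOK L2025W 128 = true := by decide +kernel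

theorem mcl_std_card :
    Nat.card ↥(MulAction.stabilizer ↥Co0 v32 ⊓ MulAction.stabilizer ↥Co0 w32) = 898128000 :=
  card_stab32_8 v32 w32 v32_sq ⟨w32_sq, vw32_dot⟩

theorem x2025_mem : x2025 ∈ XD [(v32, 0), (w32, 16)] :=
  root_mem L2025_level.1 L2025_level.2.1

theorem mcl_std_stab_card :
    Nat.card ↥(MulAction.stabilizer
      ↥(MulAction.stabilizer ↥Co0 v32 ⊓ MulAction.stabilizer ↥Co0 w32) x2025) = 443520 := by
  have h := card_stab_sub (MulAction.stabilizer ↥Co0 v32 ⊓ MulAction.stabilizer ↥Co0 w32) x2025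
  rw [orbit_eq_XD _ (mem_stab_pair v32 w32 0 16) (level_pair L2025_level.1) x2025_mem,
    L2025_level.2.1, mcl_std_card] at h
  omega

theorem mcl_std_stab_simple :
    IsSimpleGroup ↥(MulAction.stabilizer
      ↥(MulAction.stabilizer ↥Co0 v32 ⊓ MulAction.stabilizer ↥Co0 w32) x2025) :=
  stab_simple_of_card _ x2025
    (fun σ hσ => Subgroup.mem_inf.mpr
      ⟨MulAction.mem_stabilizer_iff.mpr (pmHom_fix LMV_shape LMV_mem σ hσ),
       MulAction.mem_stabilizer_iff.mpr (pmHom_fix LMW_shape LMW_mem σ hσ)⟩)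
    (fun σ hσ => pmHom_fix L2025W_shape L2025W_mem σ hσ) mcl_std_stab_card

theorem L2025_valsB : allB (fun j => Nat.beq (dotV L2025W (fldW 192 L2025E j)) 393248 ||
    (Nat.beq (dotV L2025W (fldW 192 L2025E j)) 393216 ||
      (Nat.beq (dotV L2025W (fldW 192 L2025E j)) 393232 ||
        Nat.beq (dotV L2025W (fldW 192 L2025E j)) 393224))) 2025 = true := by decide +kernel

theorem L2025_vals : ∀ y ∈ XD [(v32, 0), (w32, 16)],
    dotInt (x2025 : GolayPt → ℤ) (y : GolayPt → ℤ) = 32 ∨
    dotInt (x2025 : GolayPt → ℤ) (y : GolayPt → ℤ) = 0 ∨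
    dotInt (x2025 : GolayPt → ℤ) (y : GolayPt → ℤ) = 16 ∨
    dotInt (x2025 : GolayPt → ℤ) (y : GolayPt → ℤ) = 8 := by
  intro y hy
  obtain ⟨D, hq, e⟩ := XD_dot_vals L2025_level.2.2 L2025W
    (fun D => Nat.beq D 393248 || (Nat.beq D 393216 || (Nat.beq D 393232 || Nat.beq D 393224)))
    L2025_valsB y hy
  have e' : dotInt (x2025 : GolayPt → ℤ) (y : GolayPt → ℤ) = (D : ℤ) - 393216 := e
  simp only [Bool.or_eq_true] at hq
  rcases hq with h | h | h | h
  · left; rw [e', Nat.eq_of_beq_eq_true h]; norm_num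
  · right; left; rw [e', Nat.eq_of_beq_eq_true h]; norm_num
  · right; right; left; rw [e', Nat.eq_of_beq_eq_true h]; norm_num
  · right; right; right; rw [e', Nat.eq_of_beq_eq_true h]; norm_num

/-- The standard copy of the group is simple. -/
theorem mcl_std_simple :
    IsSimpleGroup ↥(MulAction.stabilizer ↥Co0 v32 ⊓ MulAction.stabilizer ↥Co0 w32) := by
  refine leech_simple_XD [(v32, 0), (w32, 16)] _ (mem_stab_pair v32 w32 0 16) x2025
    x2025_mem L2025_level.1 mcl_std_stab_simple [(0, 330), (16, 462), (8, 1232)] ?_ (by decide) ?_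
    ⟨(0, 330), by simp, by norm_num⟩ 2025 L2025_level.2.1 (by norm_num) (by decide) 5 3
    (by norm_num) (by norm_num) (by norm_num) (by norm_num) (by norm_num) (by decide)
  · intro y hy
    rcases L2025_vals y hy with h | h | h | h
    · left
      exact eq_of_dot32 x2025_mem.1 hy.1 h
    · right; rw [h]; simp
    · right; rw [h]; simp
    · right; rw [h]; simp
  · intro p hp
    simp only [List.mem_cons, List.not_mem_nil, or_false] at hp
    rcases hp with rfl | rfl | rfl
    · exact ⟨L330_level.2, level_pair L330_level.1⟩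
    · exact ⟨L462_level.2, level_pair L462_level.1⟩
    · exact ⟨L1232_level.2, level_pair L1232_level.1⟩

/-- conjugation of a joint stabiliser -/
theorem stab_pair_conj (h : Equiv.Perm leechLattice) (hh : h ∈ Co0) (v w v' w' : leechLattice)
    (hev : h v = v') (hew : h w = w') :
    ∀ g : ↥Co0, g ∈ MulAction.stabilizer ↥Co0 v ⊓ MulAction.stabilizer ↥Co0 w ↔
      (⟨h, hh⟩ : ↥Co0) * g * (⟨h, hh⟩ : ↥Co0)⁻¹ ∈
        MulAction.stabilizer ↥Co0 v' ⊓ MulAction.stabilizer ↥Co0 w' := by
  intro g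
  simp only [Subgroup.mem_inf, MulAction.mem_stabilizer_iff]
  have key : ∀ (z z' : leechLattice), h z = z' →
      (((⟨h, hh⟩ : ↥Co0) * g * (⟨h, hh⟩ : ↥Co0)⁻¹) • z' = z' ↔ g • z = z) := by
    intro z z' e
    have e' : h⁻¹ z' = z := by rw [Equiv.Perm.inv_eq_iff_eq]; exact e.symm
    show h ((g : Equiv.Perm leechLattice) (h⁻¹ z')) = z' ↔ (g : Equiv.Perm leechLattice) z = z
    rw [e', ← e]
    exact h.injective.eq_iff
  rw [key v v' hev, key w w' hew]

/-- The joint stabiliser of two minimal vectors with inner product `-8` is simple of order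
`898128000`. -/
theorem mcl_isMcL (v w : leechLattice) (hv : sqNorm (v : GolayPt → ℤ) = 32)
    (hw : sqNorm (w : GolayPt → ℤ) = 32)
    (hvw : dotInt (v : GolayPt → ℤ) (w : GolayPt → ℤ) = -8) :
    IsSimpleGroup ↥(MulAction.stabilizer ↥Co0 v ⊓ MulAction.stabilizer ↥Co0 w) ∧
      Nat.card ↥(MulAction.stabilizer ↥Co0 v ⊓ MulAction.stabilizer ↥Co0 w) = 898128000 := by
  obtain ⟨h, hh, he⟩ := mcl2_pair_to_std v w hv hw hvw
  have hev : h v = v32 := by
    have : [(h v, (0 : ℤ)), (h w, (16 : ℤ))] = [(v32, 0), (w32, 16)] := he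
    simp only [List.cons.injEq, Prod.mk.injEq, and_true] at this
    exact this.1
  have hew : h w = w32 := by
    have : [(h v, (0 : ℤ)), (h w, (16 : ℤ))] = [(v32, 0), (w32, 16)] := he
    simp only [List.cons.injEq, Prod.mk.injEq, and_true] at this
    exact this.2
  let e := conjEquiv _ _ (⟨h, hh⟩ : ↥Co0) (stab_pair_conj h hh v w v32 w32 hev hew)
  exact ⟨simple_of_mulEquiv e mcl_std_simple, by
    rw [Nat.card_congr e.toEquiv]; exact mcl_std_card⟩

end Cfsg.Agent.H33
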