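import Mathlib
import Cfsg.Agent.H33.LSimple2
import Cfsg.Agent.H33.LMcLSimple
import Cfsg.Agent.H33.LC275
import Cfsg.Agent.H33.LC2025
import Cfsg.Agent.H33.LC7128
import Cfsg.Agent.H33.LC15400
import Cfsg.Agent.H33.LC22275

/-!
The stabiliser of a minimal vector `v` is a simple group of order `42305421312000`: its action
on the 47104 minimal vectors `y` with `⟨v, y⟩ = -8`, the point stabiliser being the joint
stabiliser of two minimal vectors, with orbits of lengths 275, 2025, 7128, 15400, 22275.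
-/

set_option autoImplicit false
set_option maxRecDepth 100000

namespace Cfsg.Agent.H33

open Cfsg Cfsg.Agent.H9 Cfsg.Agent.H93

/-- The lower bound given by a forest. -/
theorem forest_lower_XD {Ps : List (ℕ × ℕ)} (hPs : ∀ p ∈ Ps, vec p.1 ∈ leechLattice) {W0 : ℕ}
    (hW0 : vec W0 ∈ leechLattice) {gens : List (List (ℕ × ℕ))}
    (hgens : gens.all (genOKL Ps) = true) {E T N : ℕ}
    (hsorted : chkSorted (fun _ => true) 192 E N = true)
    (hforest : chkVForest gens W0 E T N = true)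
    (hroot : (Nat.beq (sqV W0) 32 && Ps.all (fun p => Nat.beq (dotV p.1 W0) p.2)) = true) :
    N ≤ (XD (csOf Ps hPs)).ncard := by
  classical
  have hfix : ∀ g : Equiv.Perm leechLattice,
      (∀ p ∈ Ps, ∀ hA : vec p.1 ∈ leechLattice, g ⟨vec p.1, hA⟩ = ⟨vec p.1, hA⟩) →
      FixS g (csOf Ps hPs) := by
    intro g hg c hc
    obtain ⟨p, hp, hA, rfl⟩ := mem_csOf Ps hPs c hc
    exact hg p hp hA
  simp only [Bool.and_eq_true] at hroot
  have hw0 : (⟨vec W0, hW0⟩ : leechLattice) ∈ XD (csOf Ps hPs) := by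
    refine ⟨?_, ?_⟩
    · show sqNorm (vec W0) = 32
      rw [sqNorm_vec, Nat.eq_of_beq_eq_true hroot.1]; rfl
    · intro c hc
      obtain ⟨p, hp, hA, rfl⟩ := mem_csOf Ps hPs c hc
      show dotInt (vec p.1) (vec W0) = (p.2 : ℤ) - 393216
      rw [dotInt_vec, Nat.eq_of_beq_eq_true (List.all_eq_true.mp hroot.2 p hp)]
  have hs : ∀ j < N, ∃ g ∈ Co0, FixS g (csOf Ps hPs) ∧
      ((g ⟨vec W0, hW0⟩ : leechLattice) : GolayPt → ℤ) = vec (fldW 192 E j) := by
    intro j hj
    obtain ⟨g, hg, hf, e⟩ := vforest_soundL hW0 hgens hforest j hj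
    exact ⟨g, hg, hfix g hf, e⟩
  have hmem : ∀ j, j < N → vec (fldW 192 E j) ∈ leechLattice := by
    intro j hj
    obtain ⟨g, -, -, e⟩ := hs j hj
    rw [← e]; exact (g ⟨vec W0, hW0⟩).2
  have hfinj : Function.Injective
      (fun j : Fin N => (⟨vec (fldW 192 E j), hmem j j.2⟩ : leechLattice)) := by
    intro j k hjk
    have e1 : vec (fldW 192 E j) = vec (fldW 192 E k) := congrArg Subtype.val hjk
    have e2 := eq_of_vec_eq (fldW_lt 192 E j) (fldW_lt 192 E k) e1
    exact Fin.ext (sorted_inj hsorted j j.2 k k.2 e2)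
  have hrange : Set.range (fun j : Fin N => (⟨vec (fldW 192 E j), hmem j j.2⟩ : leechLattice))
      ⊆ XD (csOf Ps hPs) := by
    rintro _ ⟨j, rfl⟩
    obtain ⟨g, hg, hf, e⟩ := hs j j.2
    have : (⟨vec (fldW 192 E j), hmem j j.2⟩ : leechLattice) = g ⟨vec W0, hW0⟩ :=
      Subtype.ext e.symm
    show (⟨vec (fldW 192 E j), hmem j j.2⟩ : leechLattice) ∈ XD (csOf Ps hPs)
    rw [this]
    exact XD_inv hg hf hw0
  calc N = (Set.range
        (fun j : Fin N => (⟨vec (fldW 192 E j), hmem j j.2⟩ : leechLattice))).ncard := by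
        rw [Set.ncard_range_of_injective hfinj, Nat.card_eq_fintype_card, Fintype.card_fin]
    _ ≤ _ := Set.ncard_le_ncard hrange (XD_finite _)

/-- The cardinality of a union of classes of a colouring. -/
theorem ncard_fiber_sum {β : Type*} (c : β → ℤ) (U : Set β) (hU : U.Finite) :
    ∀ ds : List ℤ, ds.Nodup → {y | y ∈ U ∧ c y ∈ ds}.ncard
      = (ds.map (fun d => {y | y ∈ U ∧ c y = d}.ncard)).sum
  | [], _ => by simp
  | d :: ds, hnd => by
    have hnd' := List.nodup_cons.mp hnd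
    have ih := ncard_fiber_sum c U hU ds hnd'.2
    have hsplit : {y | y ∈ U ∧ c y ∈ d :: ds}
        = {y | y ∈ U ∧ c y = d} ∪ {y | y ∈ U ∧ c y ∈ ds} := by
      ext y
      simp only [Set.mem_setOf_eq, List.mem_cons, Set.mem_union]
      tauto
    have hdisj : Disjoint {y | y ∈ U ∧ c y = d} {y | y ∈ U ∧ c y ∈ ds} := by
      rw [Set.disjoint_left]
      rintro y ⟨_, h1⟩ ⟨_, h2⟩
      rw [h1] at h2
      exact hnd'.1 h2
    rw [hsplit, Set.ncard_union_eq hdisj (hU.subset fun y hy => hy.1)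
      (hU.subset fun y hy => hy.1), List.map_cons, List.sum_cons, ih]

theorem XD_single (u : leechLattice) (d : ℤ) (x : leechLattice) :
    x ∈ XD [(u, d)] ↔ sqNorm (x : GolayPt → ℤ) = 32 ∧
      dotInt (u : GolayPt → ℤ) (x : GolayPt → ℤ) = d := by
  unfold XD
  simp only [Set.mem_setOf_eq, List.forall_mem_cons, List.not_mem_nil, false_imp_iff,
    implies_true, and_true]

/-- the classes of the inner product with the base point -/
theorem XD_class (cs : List (leechLattice × ℤ)) (x : leechLattice) (hx : x ∈ XD cs) (d : ℤ)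
    (hd : d ≠ 32) :
    {y : leechLattice | y ∈ XD cs \ {x} ∧ dotInt (x : GolayPt → ℤ) (y : GolayPt → ℤ) = d}
      = XD (cs ++ [(x, d)]) := by
  have hxx : dotInt (x : GolayPt → ℤ) (x : GolayPt → ℤ) = 32 := by
    rw [lc_dot_self]; exact hx.1
  ext y
  rw [XD_append]
  constructor
  · rintro ⟨⟨h1, _⟩, h2⟩
    exact ⟨h1, h2⟩
  · rintro ⟨h1, h2⟩
    refine ⟨⟨h1, ?_⟩, h2⟩
    intro hyx
    have hyx' : y = x := hyx
    rw [hyx', hxx] at h2
    exact hd h2.symm

theorem w32_mem : w32 ∈ XD [(v32, -8)] := (XD_single v32 (-8) w32).mpr ⟨w32_sq, vw32_dot⟩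

theorem ncard_XD_32_8 : (XD [(v32, -8)]).ncard = 47104 := by
  have e : XD [(v32, -8)] = Xdot (-8) v32 := Set.ext fun y => XD_single v32 (-8) y
  rw [e]
  exact ncard_32_8 v32 v32_sq

theorem LC275_cs : csOf LC275P (memL_of_chk LC275_mem) = [(v32, -8), (w32, -16)] := by
  show [((⟨vec LMV, _⟩ : leechLattice), ((393208 : ℕ) : ℤ) - 393216),
    ((⟨vec LMW, _⟩ : leechLattice), ((393200 : ℕ) : ℤ) - 393216)] = _
  norm_num
  exact ⟨rfl, rfl⟩

theorem LC2025_cs : csOf LC2025P (memL_of_chk LC2025_mem) = [(v32, -8), (w32, 16)] := by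
  show [((⟨vec LMV, _⟩ : leechLattice), ((393208 : ℕ) : ℤ) - 393216),
    ((⟨vec LMW, _⟩ : leechLattice), ((393232 : ℕ) : ℤ) - 393216)] = _
  norm_num
  exact ⟨rfl, rfl⟩

theorem LC7128_cs : csOf LC7128P (memL_of_chk LC7128_mem) = [(v32, -8), (w32, -8)] := by
  show [((⟨vec LMV, _⟩ : leechLattice), ((393208 : ℕ) : ℤ) - 393216),
    ((⟨vec LMW, _⟩ : leechLattice), ((393208 : ℕ) : ℤ) - 393216)] = _
  norm_num
  exact ⟨rfl, rfl⟩

theorem LC15400_cs : csOf LC15400P (memL_of_chk LC15400_mem) = [(v32, -8), (w32, 8)] := by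
  show [((⟨vec LMV, _⟩ : leechLattice), ((393208 : ℕ) : ℤ) - 393216),
    ((⟨vec LMW, _⟩ : leechLattice), ((393224 : ℕ) : ℤ) - 393216)] = _
  norm_num
  exact ⟨rfl, rfl⟩

theorem LC22275_cs : csOf LC22275P (memL_of_chk LC22275_mem) = [(v32, -8), (w32, 0)] := by
  show [((⟨vec LMV, _⟩ : leechLattice), ((393208 : ℕ) : ℤ) - 393216),
    ((⟨vec LMW, _⟩ : leechLattice), ((393216 : ℕ) : ℤ) - 393216)] = _
  norm_num
  exact ⟨rfl, rfl⟩

/-- the inner products of the base point with the other points -/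
theorem co2_vals : ∀ y ∈ XD [(v32, -8)], y = w32 ∨
    dotInt (w32 : GolayPt → ℤ) (y : GolayPt → ℤ) ∈ ([-16, 16, -8, 8, 0] : List ℤ) := by
  intro y hy
  rw [XD_single] at hy
  have h := dot_vals_32 (mem_V_of (by norm_num) w32 (by exact_mod_cast w32_sq))
    (mem_V_of (by norm_num) y (by exact_mod_cast hy.1))
  simp only [Finset.mem_insert, Finset.mem_singleton] at h
  simp only [List.mem_cons, List.not_mem_nil, or_false]
  rcases h with h | h | h | h | h | h | h
  · exfalso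
    have h0 : sqNorm ((w32 : GolayPt → ℤ) + (y : GolayPt → ℤ)) = 0 := by
      rw [sqNorm_add, w32_sq, hy.1, h]; norm_num
    have h1 := lc_sqNorm_eq_zero h0
    have h2 : (y : GolayPt → ℤ) = -(w32 : GolayPt → ℤ) := by
      rw [eq_neg_iff_add_eq_zero, add_comm]; exact h1
    have h3 := hy.2
    rw [h2, lc_dot_neg_right, vw32_dot] at h3
    norm_num at h3
  · right; left; exact h
  · right; right; right; left; exact h
  · right; right; right; right; right; exact h
  · right; right; right; right; left; exact h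
  · right; right; left; exact h
  · left; exact eq_of_dot32 w32_sq hy.1 h

/-- The five orbit lengths. -/
theorem co2_counts :
    (XD [(v32, -8), (w32, -16)]).ncard = 275 ∧ (XD [(v32, -8), (w32, 16)]).ncard = 2025 ∧
    (XD [(v32, -8), (w32, -8)]).ncard = 7128 ∧ (XD [(v32, -8), (w32, 8)]).ncard = 15400 ∧
    (XD [(v32, -8), (w32, 0)]).ncard = 22275 := by
  have l1 := forest_lower_XD (memL_of_chk LC275_mem) LC275W_mem LC275_gens LC275_sorted
    LC275_forest LC275_root
  have l2 := forest_lower_XD (memL_of_chk LC2025_mem) LC2025W_mem LC2025_gens LC2025_sorted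
    LC2025_forest LC2025_root
  have l3 := forest_lower_XD (memL_of_chk LC7128_mem) LC7128W_mem LC7128_gens LC7128_sorted
    LC7128_forest LC7128_root
  have l4 := forest_lower_XD (memL_of_chk LC15400_mem) LC15400W_mem LC15400_gens LC15400_sorted
    LC15400_forest LC15400_root
  have l5 := forest_lower_XD (memL_of_chk LC22275_mem) LC22275W_mem LC22275_gens LC22275_sorted
    LC22275_forest LC22275_root
  rw [LC275_cs] at l1
  rw [LC2025_cs] at l2
  rw [LC7128_cs] at l3
  rw [LC15400_cs] at l4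
  rw [LC22275_cs] at l5
  have hfin : (XD [(v32, -8)] \ {w32}).Finite := (XD_finite _).subset Set.diff_subset
  have hU : (XD [(v32, -8)] \ {w32}).ncard + 1 = 47104 := by
    rw [Set.ncard_diff_singleton_add_one w32_mem (XD_finite _)]
    exact ncard_XD_32_8
  have hsum := ncard_fiber_sum (fun y : leechLattice =>
    dotInt (w32 : GolayPt → ℤ) (y : GolayPt → ℤ)) (XD [(v32, -8)] \ {w32}) hfin
    [-16, 16, -8, 8, 0] (by decide)
  have hcover : {y : leechLattice | y ∈ XD [(v32, -8)] \ {w32} ∧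
      dotInt (w32 : GolayPt → ℤ) (y : GolayPt → ℤ) ∈ ([-16, 16, -8, 8, 0] : List ℤ)}
      = XD [(v32, -8)] \ {w32} := by
    ext y
    constructor
    · exact fun h => h.1
    · intro h
      refine ⟨h, ?_⟩
      rcases co2_vals y h.1 with h1 | h1
      · exact absurd h1 h.2
      · exact h1
  rw [hcover] at hsum
  simp only [List.map_cons, List.map_nil, List.sum_cons, List.sum_nil] at hsum
  rw [XD_class [(v32, -8)] w32 w32_mem (-16) (by norm_num),
    XD_class [(v32, -8)] w32 w32_mem 16 (by norm_num),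
    XD_class [(v32, -8)] w32 w32_mem (-8) (by norm_num),
    XD_class [(v32, -8)] w32 w32_mem 8 (by norm_num),
    XD_class [(v32, -8)] w32 w32_mem 0 (by norm_num)] at hsum
  have e1 : XD ([(v32, (-8 : ℤ))] ++ [(w32, (-16 : ℤ))]) = XD [(v32, -8), (w32, -16)] := rfl
  have e2 : XD ([(v32, (-8 : ℤ))] ++ [(w32, (16 : ℤ))]) = XD [(v32, -8), (w32, 16)] := rfl
  have e3 : XD ([(v32, (-8 : ℤ))] ++ [(w32, (-8 : ℤ))]) = XD [(v32, -8), (w32, -8)] := rfl
  have e4 : XD ([(v32, (-8 : ℤ))] ++ [(w32, (8 : ℤ))]) = XD [(v32, -8), (w32, 8)] := rfl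
  have e5 : XD ([(v32, (-8 : ℤ))] ++ [(w32, (0 : ℤ))]) = XD [(v32, -8), (w32, 0)] := rfl
  rw [e1, e2, e3, e4, e5] at hsum
  omega

theorem LC275_level :
    (∀ x ∈ XD [(v32, -8), (w32, -16)], ∃ g ∈ Co0,
        FixS g [(v32, -8), (w32, -16)] ∧ g ⟨vec LC275W, LC275W_mem⟩ = x) ∧
      (XD [(v32, -8), (w32, -16)]).ncard = 275 := by
  have h := forest_XD (memL_of_chk LC275_mem) LC275W_mem LC275_gens LC275_sorted LC275_forest
    LC275_root (by rw [LC275_cs]; exact le_of_eq co2_counts.1)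
  rw [LC275_cs] at h
  exact ⟨h.1, h.2.1⟩

theorem LC2025_level :
    (∀ x ∈ XD [(v32, -8), (w32, 16)], ∃ g ∈ Co0,
        FixS g [(v32, -8), (w32, 16)] ∧ g ⟨vec LC2025W, LC2025W_mem⟩ = x) ∧
      (XD [(v32, -8), (w32, 16)]).ncard = 2025 := by
  have h := forest_XD (memL_of_chk LC2025_mem) LC2025W_mem LC2025_gens LC2025_sorted
    LC2025_forest LC2025_root (by rw [LC2025_cs]; exact le_of_eq co2_counts.2.1)
  rw [LC2025_cs] at h
  exact ⟨h.1, h.2.1⟩

theorem LC7128_level :
    (∀ x ∈ XD [(v32, -8), (w32, -8)], ∃ g ∈ Co0,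
        FixS g [(v32, -8), (w32, -8)] ∧ g ⟨vec LC7128W, LC7128W_mem⟩ = x) ∧
      (XD [(v32, -8), (w32, -8)]).ncard = 7128 := by
  have h := forest_XD (memL_of_chk LC7128_mem) LC7128W_mem LC7128_gens LC7128_sorted
    LC7128_forest LC7128_root (by rw [LC7128_cs]; exact le_of_eq co2_counts.2.2.1)
  rw [LC7128_cs] at h
  exact ⟨h.1, h.2.1⟩

theorem LC15400_level :
    (∀ x ∈ XD [(v32, -8), (w32, 8)], ∃ g ∈ Co0,
        FixS g [(v32, -8), (w32, 8)] ∧ g ⟨vec LC15400W, LC15400W_mem⟩ = x) ∧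
      (XD [(v32, -8), (w32, 8)]).ncard = 15400 := by
  have h := forest_XD (memL_of_chk LC15400_mem) LC15400W_mem LC15400_gens LC15400_sorted
    LC15400_forest LC15400_root (by rw [LC15400_cs]; exact le_of_eq co2_counts.2.2.2.1)
  rw [LC15400_cs] at h
  exact ⟨h.1, h.2.1⟩

theorem LC22275_level :
    (∀ x ∈ XD [(v32, -8), (w32, 0)], ∃ g ∈ Co0,
        FixS g [(v32, -8), (w32, 0)] ∧ g ⟨vec LC22275W, LC22275W_mem⟩ = x) ∧
      (XD [(v32, -8), (w32, 0)]).ncard = 22275 := by
  have h := forest_XD (memL_of_chk LC22275_mem) LC22275W_mem LC22275_gens LC22275_sorted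
    LC22275_forest LC22275_root (by rw [LC22275_cs]; exact le_of_eq co2_counts.2.2.2.2)
  rw [LC22275_cs] at h
  exact ⟨h.1, h.2.1⟩

/-- the stabiliser of a point in a subgroup, as an intersection -/
noncomputable def stabInfEquiv2 {G β : Type*} [Group G] [MulAction G β] (K : Subgroup G)
    (y : β) : ↥(MulAction.stabilizer ↥K y) ≃* ↥(K ⊓ MulAction.stabilizer G y) where
  toFun k := ⟨k.1.1, ⟨k.1.2, k.2⟩⟩
  invFun g := ⟨⟨g.1, g.2.1⟩, g.2.2⟩
  left_inv _ := rfl
  right_inv _ := rfl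
  map_mul' _ _ := rfl

theorem co2_std_stab_simple :
    IsSimpleGroup ↥(MulAction.stabilizer ↥(MulAction.stabilizer ↥Co0 v32) w32) :=
  simple_of_mulEquiv (stabInfEquiv2 (MulAction.stabilizer ↥Co0 v32) w32) mcl_std_simple

theorem co2_num1 : ∀ m ∈ (subsetSums (([(-16, 275), (16, 2025), (-8, 7128), (8, 15400),
    (0, 22275)] : List (ℤ × ℕ)).map Prod.snd)).map (· + 1), m ∣ 47104 → m = 1 ∨ m = 47104 := by
  decide

theorem co2_num2 : ∀ m ∈ (subsetSums (([(-16, 275), (16, 2025), (-8, 7128), (8, 15400),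
    (0, 22275)] : List (ℤ × ℕ)).map Prod.snd)).map (· + 1), 23 ∣ m → ¬ (23 - 1) ∣ (m - 1) := by
  decide

/-- The standard copy of the group is simple. -/
theorem co2_std_simple : IsSimpleGroup ↥(MulAction.stabilizer ↥Co0 v32) := by
  refine leech_simple_XD2 [(v32, -8)] _ (mem_stab_single v32 (-8)) w32
    w32_mem ?_ co2_std_stab_simple [(-16, 275), (16, 2025), (-8, 7128), (8, 15400), (0, 22275)]
    ?_ (by decide) ?_ ⟨(-16, 275), by simp, by norm_num⟩ 47104 ncard_XD_32_8 (by norm_num)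
    co2_num1 23 2 (by norm_num) (by norm_num) (by norm_num) (by norm_num) (by norm_num)
    (fun m hm m' _ h1 h2 _ _ => absurd h2 (co2_num2 m hm h1))
  · intro y hy
    rw [XD_single] at hy
    obtain ⟨g, hg, e1, e2⟩ := trans_min8 v32 w32 y v32_sq w32_sq hy.1 vw32_dot hy.2
    exact ⟨g, hg, (fixS_single g v32 (-8)).mpr e1, e2⟩
  · intro y hy
    rcases co2_vals y hy with h | h
    · exact Or.inl h
    · right
      simpa using h
  · intro p hp
    simp only [List.mem_cons, List.not_mem_nil, or_false] at hp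
    rcases hp with rfl | rfl | rfl | rfl | rfl
    · exact ⟨LC275_level.2, level_pair LC275_level.1⟩
    · exact ⟨LC2025_level.2, level_pair LC2025_level.1⟩
    · exact ⟨LC7128_level.2, level_pair LC7128_level.1⟩
    · exact ⟨LC15400_level.2, level_pair LC15400_level.1⟩
    · exact ⟨LC22275_level.2, level_pair LC22275_level.1⟩

/-- conjugation of a stabiliser -/
theorem stab_conj2 (h : Equiv.Perm leechLattice) (hh : h ∈ Co0) (v v' : leechLattice)
    (hev : h v = v') :
    ∀ g : ↥Co0, g ∈ MulAction.stabilizer ↥Co0 v ↔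
      (⟨h, hh⟩ : ↥Co0) * g * (⟨h, hh⟩ : ↥Co0)⁻¹ ∈ MulAction.stabilizer ↥Co0 v' := by
  intro g
  simp only [MulAction.mem_stabilizer_iff]
  have e' : h⁻¹ v' = v := by rw [Equiv.Perm.inv_eq_iff_eq]; exact hev.symm
  show (g : Equiv.Perm leechLattice) v = v ↔ h ((g : Equiv.Perm leechLattice) (h⁻¹ v')) = v'
  rw [e', ← hev]
  exact h.injective.eq_iff.symm

/-- The stabiliser of a minimal vector is simple of order `42305421312000`. -/
theorem co2_isCo2 (v : leechLattice) (hv : sqNorm (v : GolayPt → ℤ) = 32) :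
    IsSimpleGroup ↥(MulAction.stabilizer ↥Co0 v) ∧
      Nat.card ↥(MulAction.stabilizer ↥Co0 v) = 42305421312000 := by
  obtain ⟨h, hh, he⟩ := co0_trans32 v v32 hv v32_sq
  let e := conjEquiv _ _ (⟨h, hh⟩ : ↥Co0) (stab_conj2 h hh v v32 he)
  exact ⟨simple_of_mulEquiv e co2_std_simple, card_stab32 v hv⟩

end Cfsg.Agent.H33
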