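import Cfsg.Agent.H33.LXiCo0
import Cfsg.Agent.H93.CrossStab

/-!
# Vectors in one orbit of the automorphism group of the rank-24 lattice (helper33)

`CoRel x y` : the lattice vector `x` is mapped to `y` by an automorphism.  A packed step
(coordinate permutation, sign change, sextet map, coordinate permutation, sign change) relates
`vec P` and `vec (stepV Q1 c1 Q2 c2 P)`.
-/

set_option autoImplicit false

namespace Cfsg.Agent.H33

open Cfsg Cfsg.Agent.H9 Cfsg.Agent.H93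

local notation "SC" => supports (golayCode : Set (GolayPt → ZMod 2))

/-- `y` is the image of the lattice vector `x` under an automorphism of the lattice -/
def CoRel (x y : GolayPt → ℤ) : Prop :=
  ∃ g ∈ Co0, ∃ hx : x ∈ leechLattice, ((g ⟨x, hx⟩ : leechLattice) : GolayPt → ℤ) = y

theorem CoRel.mem_left {x y : GolayPt → ℤ} (h : CoRel x y) : x ∈ leechLattice := by
  obtain ⟨g, -, hx, -⟩ := h
  exact hx

theorem CoRel.mem_right {x y : GolayPt → ℤ} (h : CoRel x y) : y ∈ leechLattice := by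
  obtain ⟨g, -, hx, rfl⟩ := h
  exact (g ⟨x, hx⟩).2

theorem CoRel.refl {x : GolayPt → ℤ} (hx : x ∈ leechLattice) : CoRel x x :=
  ⟨1, one_mem _, hx, rfl⟩

theorem CoRel.trans {x y z : GolayPt → ℤ} (h1 : CoRel x y) (h2 : CoRel y z) : CoRel x z := by
  obtain ⟨g, hg, hx, e1⟩ := h1
  obtain ⟨h, hh, hy, e2⟩ := h2
  refine ⟨h * g, mul_mem hh hg, hx, ?_⟩
  show ((h (g ⟨x, hx⟩) : leechLattice) : GolayPt → ℤ) = z
  have e : g ⟨x, hx⟩ = ⟨y, hy⟩ := Subtype.ext e1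
  rw [e]
  exact e2

theorem CoRel.symm {x y : GolayPt → ℤ} (h1 : CoRel x y) : CoRel y x := by
  have hy := h1.mem_right
  obtain ⟨g, hg, hx, e1⟩ := h1
  refine ⟨g⁻¹, inv_mem hg, hy, ?_⟩
  have e : (⟨y, hy⟩ : leechLattice) = g ⟨x, hx⟩ := Subtype.ext e1.symm
  rw [e]
  simp

theorem coRel_pm {σ : Equiv.Perm GolayPt} (hσ : σ ∈ M24) {x : GolayPt → ℤ}
    (hx : x ∈ leechLattice) : CoRel x (pm σ x) :=
  ⟨pmPerm σ hσ, pmPerm_mem σ hσ, hx, rfl⟩

theorem coRel_sg {c : Finset GolayPt} (hc : c ∈ SC) {x : GolayPt → ℤ}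
    (hx : x ∈ leechLattice) : CoRel x (sg c x) :=
  ⟨sgPerm c hc, sgPerm_mem c hc, hx, rfl⟩

theorem coRel_signed {σ : Equiv.Perm GolayPt} (hσ : σ ∈ M24) {c : Finset GolayPt} (hc : c ∈ SC)
    {x : GolayPt → ℤ} (hx : x ∈ leechLattice) : CoRel x (signedPerm σ c x) :=
  ⟨monoPerm σ hσ c hc, monoPerm_mem σ hσ c hc, hx, monoPerm_apply σ hσ c hc ⟨x, hx⟩⟩

theorem coRel_xi {P : ℕ} (h : xiOK P = true) (hP : vec P ∈ leechLattice) :
    CoRel (vec P) (vec (xiV P)) :=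
  ⟨xiPerm, xiPerm_mem, hP, xiPerm_vec h hP⟩

theorem fs_mem_of_isGolay {c : ℕ} (h : isGolay c = true) : fs c ∈ SC := by
  obtain ⟨k, hk, rfl⟩ := isGolay_iff.mp h
  exact (mem_supports_iff _).mpr ⟨k, hk, rfl⟩

/-- the packed step -/
def stepV (Q1 c1 Q2 c2 P : ℕ) : ℕ := sgV c2 (pmV Q2 (xiV (sgV c1 (pmV Q1 P))))

/-- the side conditions of the packed step -/
def stepOK (Q1 c1 Q2 c2 P : ℕ) : Bool :=
  validP Q1 && (chkM24 Q1 && (posV (pmV Q1 P) && (isGolay c1 && (xiOK (sgV c1 (pmV Q1 P)) &&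
  (validP Q2 && (chkM24 Q2 && (posV (pmV Q2 (xiV (sgV c1 (pmV Q1 P)))) && isGolay c2)))))))

theorem coRel_step {Q1 c1 Q2 c2 P : ℕ} (hP : vec P ∈ leechLattice)
    (h : stepOK Q1 c1 Q2 c2 P = true) : CoRel (vec P) (vec (stepV Q1 c1 Q2 c2 P)) := by
  unfold stepOK at h
  simp only [Bool.and_eq_true] at h
  obtain ⟨h1, h2, h3, h4, h5, h6, h7, h8, h9⟩ := h
  obtain ⟨σ1, hσ1⟩ := exists_rep h1
  obtain ⟨σ2, hσ2⟩ := exists_rep h6
  have r1 : CoRel (vec P) (vec (pmV Q1 P)) := by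
    rw [vec_pmV hσ1]
    exact coRel_pm (mem_M24_of_chk hσ1 h2) hP
  have r2 : CoRel (vec (pmV Q1 P)) (vec (sgV c1 (pmV Q1 P))) := by
    rw [vec_sgV c1 h3]
    exact coRel_sg (fs_mem_of_isGolay h4) r1.mem_right
  have r3 : CoRel (vec (sgV c1 (pmV Q1 P))) (vec (xiV (sgV c1 (pmV Q1 P)))) :=
    coRel_xi h5 r2.mem_right
  have r4 : CoRel (vec (xiV (sgV c1 (pmV Q1 P)))) (vec (pmV Q2 (xiV (sgV c1 (pmV Q1 P))))) := by
    rw [vec_pmV hσ2]
    exact coRel_pm (mem_M24_of_chk hσ2 h7) r3.mem_right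
  have r5 : CoRel (vec (pmV Q2 (xiV (sgV c1 (pmV Q1 P))))) (vec (stepV Q1 c1 Q2 c2 P)) := by
    unfold stepV
    rw [vec_sgV c2 h8]
    exact coRel_sg (fs_mem_of_isGolay h9) r4.mem_right
  exact (((r1.trans r2).trans r3).trans r4).trans r5

/-- a checked edge between two packed vectors -/
def pathOK (Q1 c1 Q2 c2 PJ PK : ℕ) : Bool :=
  stepOK Q1 c1 Q2 c2 PJ && Nat.beq (stepV Q1 c1 Q2 c2 PJ) PK

theorem coRel_path {Q1 c1 Q2 c2 PJ PK : ℕ} (hP : vec PJ ∈ leechLattice)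
    (h : pathOK Q1 c1 Q2 c2 PJ PK = true) : CoRel (vec PJ) (vec PK) := by
  unfold pathOK at h
  rw [Bool.and_eq_true] at h
  have := coRel_step hP h.1
  rwa [Nat.eq_of_beq_eq_true h.2] at this

end Cfsg.Agent.H33
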