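import Cfsg.Agent.H33.LRep
import Cfsg.Agent.H33.LPath

/-!
# Transitivity of the automorphism group on the lattice vectors of a given length, from data
(helper33)

`trans_of_data` : if the packed vectors `P 0, …, P (k-1)` of square length `N` are all in the orbit
of `P 0`, their orbits under the monomial group are pairwise distinct, and the lower bounds
`n i` of the sizes of these orbits add up to the number of lattice vectors of square length `N`,
then every lattice vector of square length `N` is in the orbit of `P 0`.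
-/

set_option autoImplicit false

namespace Cfsg.Agent.H33

open Cfsg Cfsg.Agent.H9 Cfsg.Agent.H93 MulAction
open scoped Pointwise

local notation "SC" => supports (golayCode : Set (GolayPt → ZMod 2))

theorem orbit_eq_of_count {G α : Type*} [Group G] [MulAction G α] (H : Subgroup G)
    (W : Set α) (hW : W.Finite) (v0 : α) (hO : orbit G v0 ⊆ W)
    (k : ℕ) (r : Fin k → α) (hr : ∀ i, r i ∈ orbit G v0)
    (hne : ∀ i j, i < j → r j ∉ orbit H (r i))
    (n : Fin k → ℕ) (hn : ∀ i, n i ≤ (orbit H (r i)).ncard)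
    (hsum : W.ncard ≤ ∑ i, n i) : orbit G v0 = W := by
  classical
  have hsub : ∀ i, orbit H (r i) ⊆ orbit G v0 := by
    rintro i _ ⟨h, rfl⟩
    have h1 : (h : G) • r i ∈ orbit G (r i) := ⟨(h : G), rfl⟩
    rw [orbit_eq_iff.mpr (hr i)] at h1
    exact h1
  have hfin : ∀ i, (orbit H (r i)).Finite := fun i => (hW.subset hO).subset (hsub i)
  have hdisj : Pairwise (Function.onFun Disjoint (fun i => orbit H (r i))) := by
    intro i j hij
    rcases lt_or_gt_of_ne hij with h | h
    · refine (orbit.eq_or_disjoint (r i) (r j)).resolve_left (fun e => hne i j h ?_)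
      rw [e]
      exact mem_orbit_self _
    · refine (orbit.eq_or_disjoint (r i) (r j)).resolve_left (fun e => hne j i h ?_)
      rw [← e]
      exact mem_orbit_self _
  have hU : (⋃ i, orbit H (r i)) ⊆ orbit G v0 := Set.iUnion_subset hsub
  have hcard : (⋃ i, orbit H (r i)).ncard = ∑ i, (orbit H (r i)).ncard := by
    rw [Set.ncard_iUnion_of_finite hfin hdisj, finsum_eq_sum_of_fintype]
  apply Set.eq_of_subset_of_ncard_le hO _ hW
  calc W.ncard ≤ ∑ i, n i := hsum
    _ ≤ ∑ i, (orbit H (r i)).ncard := Finset.sum_le_sum (fun i _ => hn i)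
    _ = (⋃ i, orbit H (r i)).ncard := hcard.symm
    _ ≤ (orbit G v0).ncard := Set.ncard_le_ncard hU (hW.subset hO)

/-- the orbits of the stabiliser of the standard cross consist of signed permutations -/
theorem crossOrb_signed {v w : leechLattice} (h : w ∈ orbit ↥crossStab v) :
    ∃ σ ∈ M24, ∃ c ∈ SC, (w : GolayPt → ℤ) = signedPerm σ c (v : GolayPt → ℤ) := by
  obtain ⟨g, rfl⟩ := h
  obtain ⟨σ, hσ, c, hc, hform⟩ :=
    cross_structure (g : ↥Co0).1 (g : ↥Co0).2 ((mem_crossStab_iff _).mp g.2)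
  exact ⟨σ, hσ, c, hc, hform v⟩

theorem q4_signedPerm (σ : Equiv.Perm GolayPt) (c : Finset GolayPt) (x : GolayPt → ℤ) :
    ∑ p, signedPerm σ c x p ^ 4 = ∑ p, x p ^ 4 := by
  have h : ∀ p, signedPerm σ c x p ^ 4 = x (σ.symm p) ^ 4 := by
    intro p
    unfold signedPerm
    split_ifs <;> ring
  rw [Finset.sum_congr rfl (fun p _ => h p)]
  exact Equiv.sum_comp σ.symm (fun p => x p ^ 4)

/-- the lattice vectors of square length `N` -/
def normSet (N : ℕ) : Set leechLattice := {w | sqNorm (w : GolayPt → ℤ) = (N : ℤ)}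

theorem normSet_ncard_le {N : ℕ} (hN : N ≤ 64) : (normSet N).ncard ≤ (V N).card := by
  rw [← Set.ncard_coe_finset]
  exact Set.ncard_le_ncard_of_injOn Subtype.val (fun w hw => (mem_V hN).mpr ⟨w.2, hw⟩)
    Subtype.val_injective.injOn (Finset.finite_toSet _)

theorem normSet_finite {N : ℕ} (hN : N ≤ 64) : (normSet N).Finite := by
  apply Set.Finite.of_finite_image (f := Subtype.val) _ Subtype.val_injective.injOn
  apply (Finset.finite_toSet (V N)).subset
  rintro _ ⟨w, hw, rfl⟩
  exact (mem_V hN).mpr ⟨w.2, hw⟩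

/-! ## Vectors with equal fourth-power sums -/

/-- all coordinates are non-negative -/
def nonnegB (P : ℕ) : Bool := allB (fun i => Nat.ble 128 (f8 P i)) 24

/-- the coordinates of `Pa` are the absolute values of those of `Pb` -/
def absEqB (Pa Pb : ℕ) : Bool :=
  allB (fun i => Nat.beq (f8 Pa i)
    (bif Nat.ble 128 (f8 Pb i) then f8 Pb i else Nat.sub 256 (f8 Pb i))) 24

theorem sg_of_signed_nonneg {Pa Pb : ℕ} (h1 : nonnegB Pa = true) (h2 : absEqB Pa Pb = true)
    {σ : Equiv.Perm GolayPt} {c : Finset GolayPt} (h : vec Pb = signedPerm σ c (vec Pa)) :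
    vec Pb = sg c (vec Pa) := by
  have hnn : ∀ p, 0 ≤ vec Pa p := by
    intro p
    have := Nat.le_of_ble_eq_true ((allB_iff _ _).mp h1 (gIdx p) (gIdx_lt p))
    rw [vec_apply]
    omega
  have habs : ∀ p, |vec Pb p| = vec Pa p := by
    intro p
    have e := Nat.eq_of_beq_eq_true ((allB_iff _ _).mp h2 (gIdx p) (gIdx_lt p))
    have hlt := f8_lt Pb (gIdx p)
    rw [vec_apply, vec_apply, e]
    cases hb : Nat.ble 128 (f8 Pb (gIdx p))
    · have h3 : ¬ 128 ≤ f8 Pb (gIdx p) := fun hh => by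
        rw [Nat.ble_eq_true_of_le hh] at hb; exact absurd hb (by decide)
      simp only [cond_false]
      have e2 : ((Nat.sub 256 (f8 Pb (gIdx p)) : ℕ) : ℤ) = 256 - (f8 Pb (gIdx p) : ℤ) := by
        show ((256 - f8 Pb (gIdx p) : ℕ) : ℤ) = _
        omega
      rw [e2, abs_of_nonpos (by omega)]
      ring
    · have h3 := Nat.le_of_ble_eq_true hb
      simp only [cond_true]
      rw [abs_of_nonneg (by omega)]
  funext i
  have e := congrFun h i
  unfold signedPerm at e
  unfold sg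
  have h3 := hnn (σ.symm i)
  have h4 := habs i
  by_cases hi : i ∈ c
  · rw [if_pos hi] at e ⊢
    rw [e, abs_neg, abs_of_nonneg h3] at h4
    rw [e, h4]
  · rw [if_neg hi] at e ⊢
    rw [e, abs_of_nonneg h3] at h4
    rw [e, h4]

theorem special_ne {os : List ℕ} {Pa Pb : ℕ} (h1 : nonnegB Pa = true)
    (h2 : absEqB Pa Pb = true) (h3 : neqvB os Pa Pb = true) :
    ¬ ∃ σ ∈ M24, ∃ e ∈ SC, vec Pb = signedPerm σ e (vec Pa) := by
  rintro ⟨σ, -, e, he, h⟩
  exact neqv_sound h3 ⟨e, he, sg_of_signed_nonneg h1 h2 h⟩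

/-- membership of a pair in a list -/
def memPair (i j : ℕ) : List (ℕ × ℕ) → Bool
  | [] => false
  | (a, b) :: l => (Nat.beq i a && Nat.beq j b) || memPair i j l

theorem memPair_sound {i j : ℕ} : ∀ {l : List (ℕ × ℕ)}, memPair i j l = true → (i, j) ∈ l := by
  intro l
  induction l with
  | nil => intro h; exact absurd h (by simp [memPair])
  | cons p l ih =>
    obtain ⟨a, b⟩ := p
    intro h
    simp only [memPair, Bool.or_eq_true, Bool.and_eq_true] at h
    rcases h with ⟨h1, h2⟩ | h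
    · rw [Nat.eq_of_beq_eq_true h1, Nat.eq_of_beq_eq_true h2]
      exact List.mem_cons_self ..
    · exact List.mem_cons_of_mem _ (ih h)

/-- transitivity on the lattice vectors of square length `N`, from data -/
theorem trans_of_data (N : ℕ) (hN : N ≤ 64) (k : ℕ) (P : ℕ → ℕ) (hk : 0 < k)
    (hL : ∀ i < k, vec (P i) ∈ leechLattice)
    (hnorm : sqV (P 0) = N)
    (hpath : ∀ i < k, CoRel (vec (P 0)) (vec (P i)))
    (b c n : ℕ → ℕ)
    (hB : ∀ i < k, (monoB (vec (P i))).ncard ≤ b i)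
    (hC : ∀ i < k, (monoC (vec (P i))).ncard ≤ c i)
    (hn : ∀ i < k, n i * (c i * b i) = 4096 * 244823040)
    (hsum : (V N).card ≤ sumF n k)
    (sp : List (ℕ × ℕ))
    (hlab : allB (fun i => allB (fun j => Nat.ble j i ||
      (!(Nat.beq (q4V (P i)) (q4V (P j))) || memPair i j sp)) k) k = true)
    (hsp : ∀ p ∈ sp, ¬ ∃ σ ∈ M24, ∃ e ∈ SC, vec (P p.2) = signedPerm σ e (vec (P p.1))) :
    ∀ w : leechLattice, sqNorm (w : GolayPt → ℤ) = (N : ℤ) → CoRel (vec (P 0)) w := by
  intro w hw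
  classical
  have hP0 : vec (P 0) ∈ leechLattice := hL 0 hk
  obtain ⟨v0, hv0⟩ : ∃ v0 : leechLattice, (v0 : GolayPt → ℤ) = vec (P 0) := ⟨⟨_, hP0⟩, rfl⟩
  obtain ⟨r, hr0⟩ : ∃ r : Fin k → leechLattice, ∀ i, (r i : GolayPt → ℤ) = vec (P i) :=
    ⟨fun i => ⟨vec (P i), hL i i.2⟩, fun _ => rfl⟩
  have hO : orbit ↥Co0 v0 ⊆ normSet N := by
    rintro _ ⟨g, rfl⟩
    show sqNorm (((g : Equiv.Perm leechLattice) v0 : leechLattice) : GolayPt → ℤ) = (N : ℤ)
    rw [g.2.2 v0, hv0, sqNorm_vec, hnorm]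
  have hr : ∀ i, r i ∈ orbit ↥Co0 v0 := by
    intro i
    obtain ⟨g, hg, hx, e⟩ := hpath i i.2
    refine ⟨⟨g, hg⟩, Subtype.ext ?_⟩
    rw [hr0 i, ← e]
    have : v0 = ⟨vec (P 0), hx⟩ := Subtype.ext hv0
    rw [this]
    rfl
  have hne : ∀ i j : Fin k, i < j → r j ∉ orbit ↥crossStab (r i) := by
    intro i j hij hmem
    obtain ⟨σ, hσ, e, he, hform⟩ := crossOrb_signed hmem
    rw [hr0, hr0] at hform
    have h1 := (allB_iff _ _).mp ((allB_iff _ _).mp hlab i i.2) j j.2
    simp only [Bool.or_eq_true] at h1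
    rcases h1 with h1 | h1 | h1
    · have h2 : (j : ℕ) ≤ i := Nat.le_of_ble_eq_true h1
      have h3 : (i : ℕ) < j := hij
      omega
    · have hq : (q4V (P j) : ℤ) = q4V (P i) := by
        rw [← q4_vec, ← q4_vec, hform]
        exact q4_signedPerm σ e _
      have h2 : q4V (P i) = q4V (P j) := by exact_mod_cast hq.symm
      rw [h2, Nat.beq_refl] at h1
      exact absurd h1 (by decide)
    · exact hsp _ (memPair_sound h1) ⟨σ, hσ, e, he, hform⟩
  have hn' : ∀ i : Fin k, n i ≤ (orbit ↥crossStab (r i)).ncard := by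
    intro i
    apply mono_orbit_bound (r i) (b i) (c i) (n i) _ _ (hn i i.2)
    · rw [hr0]; exact hB i i.2
    · rw [hr0]; exact hC i i.2
  have hsum' : (normSet N).ncard ≤ ∑ i : Fin k, n i := by
    calc (normSet N).ncard ≤ (V N).card := normSet_ncard_le hN
      _ ≤ sumF n k := hsum
      _ = ∑ i : Fin k, n i := by rw [sumF_eq, Finset.sum_range]
  have heq := orbit_eq_of_count crossStab (normSet N) (normSet_finite hN) v0 hO k r hr hne
    (fun i => n i) hn' hsum'
  have hwO : w ∈ orbit ↥Co0 v0 := by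
    rw [heq]
    exact hw
  obtain ⟨g, rfl⟩ := hwO
  refine ⟨g.1, g.2, hP0, ?_⟩
  have : v0 = ⟨vec (P 0), hP0⟩ := Subtype.ext hv0
  rw [← this]
  rfl

end Cfsg.Agent.H33
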