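import Cfsg.Agent.H93.LeechGen

/-!
# A small generating set of the rank-24 lattice (helper33)

Replay of helper93's `LeechGen` with an arbitrary subgroup `M` in place of the subgroup generated
by the short vectors: a subgroup containing the vectors `4 e_i - 4 e_∞`, `4 e_∞ ± 4 e_0` and the
odd vectors `vcode w` (`w` a code word) contains the lattice.
-/

set_option autoImplicit false

namespace Cfsg.Agent.H33

open Cfsg Cfsg.Agent.H93

theorem leech_le (M : AddSubgroup (GolayPt → ℤ))
    (h1 : ∀ i : GolayPt, i ≠ none → dvec i 4 none (-4) ∈ M)
    (h2 : dvec none 4 (some 0) 4 ∈ M) (h3 : dvec none 4 (some 0) (-4) ∈ M)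
    (h4 : ∀ w ∈ golayCode, vcode w ∈ M) : leechLattice ≤ M := by
  have eight : (fun l : GolayPt => if l = none then (8 : ℤ) else 0) ∈ M := by
    have e : (fun l : GolayPt => if l = none then (8 : ℤ) else 0)
        = dvec none 4 (some 0) 4 + dvec none 4 (some 0) (-4) := by
      funext l
      simp only [dvec, Pi.add_apply]
      split_ifs <;> norm_num
    rw [e]; exact add_mem h2 h3
  have twoW_mem : ∀ w ∈ golayCode, twoW w ∈ M := by
    intro w hw
    have h0 : vcode 0 ∈ M := h4 0 (zero_mem _)
    have hw1 : vcode w ∈ M := h4 w hw
    by_cases hn : w none = 0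
    · have e : twoW w = vcode 0 - vcode w := by
        funext i
        simp only [twoW, vcode, Pi.sub_apply, Pi.zero_apply]
        by_cases h1 : i = none
        · subst h1; simp [hn]
        · by_cases h2 : w i = 0
          · simp [h1, h2]
          · simp [h1, h2]
      rw [e]; exact sub_mem h0 hw1
    · have e : twoW w = vcode 0 - vcode w
          + (fun l : GolayPt => if l = none then (8 : ℤ) else 0) := by
        funext i
        simp only [twoW, vcode, Pi.sub_apply, Pi.add_apply, Pi.zero_apply]
        by_cases h1 : i = none
        · subst h1; simp [hn]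
        · by_cases h2 : w i = 0
          · simp [h1, h2]
          · simp [h1, h2]
      rw [e]; exact add_mem (sub_mem h0 hw1) eight
  have four_mem : ∀ y : GolayPt → ℤ, y ∈ leechLattice → (∀ i, y i % 4 = 0) → y ∈ M := by
    intro y hy h4'
    obtain ⟨m, hp, hs, -⟩ := mem_leechLattice_iff.mp hy
    have hw : ∀ i, ∃ a, y i = 4 * a := fun i => ⟨y i / 4, by have := h4' i; omega⟩
    choose w hw using hw
    have hsum : ∑ i, y i = 4 * ∑ i, w i := by
      rw [Finset.sum_congr rfl (fun i _ => hw i), Finset.mul_sum]
    have hm : m % 2 = 0 := by
      have h1 := hp none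
      have h2 := h4' none
      unfold Int.ModEq at h1
      omega
    obtain ⟨t, ht⟩ : ∃ t, ∑ i, w i = 2 * t := by
      unfold Int.ModEq at hs
      rw [hsum] at hs
      exact ⟨(∑ i, w i) / 2, by omega⟩
    have hd : ∀ i : GolayPt, dvec i 4 none (-4) ∈ M := by
      intro i
      by_cases hi : i = none
      · have : dvec i 4 none (-4) = 0 := by
          funext l
          simp only [dvec, hi, Pi.zero_apply]
          split_ifs <;> norm_num
        rw [this]; exact zero_mem _
      · exact h1 i hi
    have e : y = ∑ i, w i • dvec i 4 none (-4)
        + t • (fun l : GolayPt => if l = none then (8 : ℤ) else 0) := by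
      funext j
      simp only [Pi.add_apply, Finset.sum_apply, Pi.smul_apply, dvec, smul_eq_mul]
      have h1 : ∑ i, w i * ((if j = i then 4 else 0) + (if j = none then -4 else 0))
          = 4 * w j + (if j = none then -4 else 0) * ∑ i, w i := by
        have : ∀ i, w i * ((if j = i then (4 : ℤ) else 0) + (if j = none then -4 else 0))
            = (if j = i then 4 * w i else 0) + (if j = none then -4 else 0) * w i := by
          intro i
          split_ifs <;> ring
        rw [Finset.sum_congr rfl (fun i _ => this i), Finset.sum_add_distrib, Finset.sum_ite_eq,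
          ← Finset.mul_sum]
        simp
      rw [h1, ht, hw j]
      split_ifs <;> ring
    rw [e]
    exact add_mem (AddSubgroup.sum_mem _ (fun i _ => zsmul_mem (hd i) _))
      (zsmul_mem eight _)
  have even_mem : ∀ x : GolayPt → ℤ, x ∈ leechLattice → (∀ i, x i % 2 = 0) → x ∈ M := by
    intro x hx h2'
    obtain ⟨m, hm, hp, hs, hc⟩ := isL_norm (mem_leechLattice_iff.mp hx)
    rcases hm with rfl | rfl
    · have hw := twoW_mem _ hc
      have hwL : twoW (wd 0 x) ∈ leechLattice := minGen_le (twoW_mem_minGen hc)
      have hy : x - twoW (wd 0 x) ∈ leechLattice := sub_mem hx hwL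
      have h4' : ∀ i, (x - twoW (wd 0 x)) i % 4 = 0 := by
        intro i
        have h1 := wd_ne_zero_iff 0 x i (hp i)
        have h3 := h2' i
        unfold Int.ModEq at h1
        simp only [Pi.sub_apply, twoW]
        by_cases h : wd 0 x i = 0
        · rw [if_pos h]
          have := h1.not.mp (not_not.mpr h)
          omega
        · rw [if_neg h]
          have := h1.mp h
          omega
      have := add_mem (four_mem _ hy h4') hw
      rwa [sub_add_cancel] at this
    · exfalso
      have h1 := hp none
      have h3 := h2' none
      unfold Int.ModEq at h1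
      omega
  intro x hx
  by_cases h2' : ∀ i, x i % 2 = 0
  · exact even_mem x hx h2'
  · have hv : vcode 0 ∈ M := h4 0 (zero_mem _)
    have hvL : vcode (0 : GolayPt → ZMod 2) ∈ leechLattice := vcode_mem (zero_mem _)
    have hy : x - vcode 0 ∈ leechLattice := sub_mem hx hvL
    have he : ∀ i, (x - vcode 0) i % 2 = 0 := by
      obtain ⟨m, hp, -, -⟩ := mem_leechLattice_iff.mp hx
      have hodd : m % 2 = 1 := by
        by_contra hm
        apply h2'
        intro i
        have := hp i
        unfold Int.ModEq at this
        omega
      intro i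
      have h1 := hp i
      unfold Int.ModEq at h1
      simp only [Pi.sub_apply, vcode, Pi.zero_apply]
      split_ifs <;> omega
    have := add_mem (even_mem _ hy he) hv
    rwa [sub_add_cancel] at this

end Cfsg.Agent.H33
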