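import Cfsg.Agent.H93.Co0Card
import Cfsg.Agent.H33.Orbit
import Cfsg.Agent.H9.M24b

/-!
# Orbits of the monomial group on the rank-24 lattice: lower bounds (helper33)

`crossStab` (helper93) is the stabiliser of the standard cross, of order `4096 * |M24|`; its elements
are the signed permutations `signedPerm σ c`.  For a lattice vector `v` the orbit of `v` under
`crossStab` has at least `n` elements as soon as `n * (b * c) = 4096 * |M24|`, where `b` bounds the
number of `σ` occurring in the stabiliser and `c` bounds the number of code words off the support.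
-/

set_option autoImplicit false

namespace Cfsg.Agent.H33

open Cfsg Cfsg.Agent.H9 Cfsg.Agent.H93 MulAction
open scoped Pointwise

local notation "SC" => supports (golayCode : Set (GolayPt → ZMod 2))

/-- the pairs `(σ, d)` whose signed permutation fixes `x` -/
def monoFix (x : GolayPt → ℤ) : Set (Equiv.Perm GolayPt × Finset GolayPt) :=
  {p | p.1 ∈ M24 ∧ p.2 ∈ SC ∧ signedPerm p.1 p.2 x = x}

/-- the permutations occurring in `monoFix x` -/
def monoB (x : GolayPt → ℤ) : Set (Equiv.Perm GolayPt) :=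
  {σ | σ ∈ M24 ∧ ∃ d ∈ SC, signedPerm σ d x = x}

/-- the code words off the support of `x` -/
def monoC (x : GolayPt → ℤ) : Set (Finset GolayPt) :=
  {d | d ∈ SC ∧ ∀ i ∈ d, x i = 0}

theorem symmDiff_mem_monoC {x : GolayPt → ℤ} {σ : Equiv.Perm GolayPt} {d d0 : Finset GolayPt}
    (hd : d ∈ SC) (hd0 : d0 ∈ SC) (h : signedPerm σ d x = x) (h0 : signedPerm σ d0 x = x) :
    symmDiff d d0 ∈ monoC x := by
  refine ⟨symmDiff_mem_supports hd hd0, fun i hi => ?_⟩
  have e1 := congrFun h i
  have e2 := congrFun h0 i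
  unfold signedPerm at e1 e2
  rw [Finset.mem_symmDiff] at hi
  rcases hi with ⟨hi1, hi2⟩ | ⟨hi1, hi2⟩
  · rw [if_pos hi1] at e1
    rw [if_neg hi2] at e2
    omega
  · rw [if_neg hi2] at e1
    rw [if_pos hi1] at e2
    omega

theorem monoFix_ncard_le (x : GolayPt → ℤ) :
    (monoFix x).ncard ≤ (monoC x).ncard * (monoB x).ncard := by
  classical
  have hfin : (monoFix x).Finite := Set.toFinite _
  have hB : (monoB x).Finite := Set.toFinite _
  have hC : (monoC x).Finite := Set.toFinite _
  rw [Set.ncard_eq_toFinset_card _ hfin, Set.ncard_eq_toFinset_card _ hB,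
    Set.ncard_eq_toFinset_card _ hC]
  have h1 := Finset.card_le_mul_card_image (f := Prod.fst) hfin.toFinset hC.toFinset.card ?_
  · refine h1.trans (Nat.mul_le_mul_left _ (Finset.card_le_card ?_))
    intro σ hσ
    obtain ⟨p, hp, rfl⟩ := Finset.mem_image.mp hσ
    rw [Set.Finite.mem_toFinset] at hp ⊢
    exact ⟨hp.1, p.2, hp.2.1, hp.2.2⟩
  · intro σ hσ
    obtain ⟨p0, hp0, rfl⟩ := Finset.mem_image.mp hσ
    rw [Set.Finite.mem_toFinset] at hp0
    apply Finset.card_le_card_of_injOn (fun p => symmDiff p.2 p0.2)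
    · intro p hp
      rw [Finset.coe_filter] at hp
      obtain ⟨hp1, hp2⟩ := hp
      rw [Set.Finite.mem_toFinset] at hp1
      rw [Finset.mem_coe, Set.Finite.mem_toFinset]
      have h3 := hp1.2.2
      rw [hp2] at h3
      exact symmDiff_mem_monoC hp1.2.1 hp0.2.1 h3 hp0.2.2
    · intro p hp q hq hpq
      rw [Finset.coe_filter] at hp hq
      have e : p.2 = q.2 := symmDiff_left_injective p0.2 hpq
      exact Prod.ext (hp.2.trans hq.2.symm) e

/-- the stabiliser of `v` in the stabiliser of the standard cross embeds in `monoFix v` -/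
theorem card_stab_le (v : leechLattice) :
    Nat.card ↥(crossStab ⊓ stabilizer ↥Co0 v) ≤ (monoFix (v : GolayPt → ℤ)).ncard := by
  classical
  have hex : ∀ g : ↥(crossStab ⊓ stabilizer ↥Co0 v), ∃ p : Equiv.Perm GolayPt × Finset GolayPt,
      p.1 ∈ M24 ∧ p.2 ∈ SC ∧ ∀ w : leechLattice,
        (((g : ↥Co0) : Equiv.Perm leechLattice) w : GolayPt → ℤ) = signedPerm p.1 p.2 w := by
    intro g
    obtain ⟨hg1, hg2⟩ := Subgroup.mem_inf.mp g.2
    obtain ⟨σ, hσ, c, hc, hform⟩ :=
      cross_structure (g : ↥Co0).1 (g : ↥Co0).2 ((mem_crossStab_iff _).mp hg1)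
    exact ⟨(σ, c), hσ, hc, hform⟩
  choose f hf1 hf2 hf3 using hex
  have hmem : ∀ g, f g ∈ monoFix (v : GolayPt → ℤ) := by
    intro g
    refine ⟨hf1 g, hf2 g, ?_⟩
    rw [← hf3 g v]
    have hg2 := (Subgroup.mem_inf.mp g.2).2
    have : ((g : ↥Co0) : Equiv.Perm leechLattice) v = v := mem_stabilizer_iff.mp hg2
    rw [this]
  have hinj : Function.Injective (fun g => (⟨f g, hmem g⟩ : ↥(monoFix (v : GolayPt → ℤ)))) := by
    intro g h hgh
    have e : f g = f h := congrArg Subtype.val hgh
    apply Subtype.ext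
    apply Subtype.ext
    apply Equiv.ext
    intro w
    apply Subtype.ext
    rw [hf3 g w, hf3 h w, e]
  have := Nat.card_le_card_of_injective _ hinj
  rwa [Nat.card_coe_set_eq] at this

/-- lower bound for the orbit of `v` under the stabiliser of the standard cross -/
theorem mono_orbit_bound (v : leechLattice) (b c n : ℕ)
    (hB : (monoB (v : GolayPt → ℤ)).ncard ≤ b) (hC : (monoC (v : GolayPt → ℤ)).ncard ≤ c)
    (hn : n * (c * b) = 4096 * 244823040) :
    n ≤ (orbit ↥crossStab v).ncard := by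
  have h1 := card_eq_orbit_mul_inf (G := ↥Co0) crossStab v
  rw [card_crossStab] at h1
  have h2 : Nat.card ↥(crossStab ⊓ stabilizer ↥Co0 v) ≤ c * b :=
    (card_stab_le v).trans ((monoFix_ncard_le _).trans (Nat.mul_le_mul hC hB))
  have h3 : 0 < c * b := by
    rcases Nat.eq_zero_or_pos (c * b) with h | h
    · rw [h] at hn; simp at hn
    · exact h
  by_contra hlt
  have hlt := not_le.mp hlt
  have h4 : (orbit ↥crossStab v).ncard * Nat.card ↥(crossStab ⊓ stabilizer ↥Co0 v)
      < n * (c * b) := by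
    calc (orbit ↥crossStab v).ncard * Nat.card ↥(crossStab ⊓ stabilizer ↥Co0 v)
        ≤ (orbit ↥crossStab v).ncard * (c * b) := Nat.mul_le_mul_left _ h2
      _ < n * (c * b) := Nat.mul_lt_mul_of_pos_right hlt h3
  omega

end Cfsg.Agent.H33
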