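import Cfsg.Agent.H9.M24c
import Cfsg.Agent.H93.Co0Center

/-!
# Packed integer vectors on the 24 points (helper33)

A vector `x : GolayPt → ℤ` with small coordinates is coded by a natural number with 24 fields of
8 bits, field `i` holding `x (gPt i) + 128`.  This file has the kernel-friendly operations on such
codes (coordinate permutation, sign change on a mask, membership test for the rank-24 lattice,
sum of squares, sum of fourth powers) with their soundness statements.
-/

set_option autoImplicit false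

namespace Cfsg.Agent.H33

open Cfsg Cfsg.Agent.H9

/-- the `i`-th 8-bit field -/
def f8 (P i : ℕ) : ℕ := Nat.land (Nat.shiftRight P (Nat.mul 8 i)) 255

theorem f8_eq (P i : ℕ) : f8 P i = P / 2 ^ (8 * i) % 256 := by
  unfold f8
  rw [shiftRight_eq]
  exact Nat.and_two_pow_sub_one_eq_mod _ 8

theorem f8_lt (P i : ℕ) : f8 P i < 256 := by
  rw [f8_eq]; exact Nat.mod_lt _ (by norm_num)

/-- pack a list of entries below 256, 8 bits per entry -/
def pack8 : List ℕ → ℕ
  | [] => 0
  | e :: l => Nat.add e (Nat.mul 256 (pack8 l))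

theorem f8_pack8 (l : List ℕ) (h : ∀ e ∈ l, e < 256) (i : ℕ) (hi : i < l.length) :
    f8 (pack8 l) i = l[i] := by
  induction l generalizing i with
  | nil => simp at hi
  | cons e l ih =>
    have he : e < 256 := h e (List.mem_cons_self ..)
    rw [f8_eq]
    have hp : pack8 (e :: l) = e + 256 * pack8 l := rfl
    rw [hp]
    cases i with
    | zero =>
      simp only [Nat.mul_zero, pow_zero, Nat.div_one, List.getElem_cons_zero]
      rw [Nat.add_mul_mod_self_left, Nat.mod_eq_of_lt he]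
    | succ j =>
      have h1 : (e + 256 * pack8 l) / 2 ^ (8 * (j + 1)) = pack8 l / 2 ^ (8 * j) := by
        rw [show 8 * (j + 1) = 8 + 8 * j by ring, pow_add, ← Nat.div_div_eq_div_mul]
        congr 1
        rw [show (2 : ℕ) ^ 8 = 256 by norm_num, Nat.add_mul_div_left _ _ (by norm_num),
          Nat.div_eq_of_lt he, zero_add]
      rw [h1, ← f8_eq, List.getElem_cons_succ]
      exact ih (fun e' he' => h e' (List.mem_cons_of_mem _ he')) j (by simpa using hi)

/-- the code with fields `f 0, …, f 23` -/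
def mk24 (f : ℕ → ℕ) : ℕ := pack8 ((List.range 24).map f)

theorem f8_mk24 (f : ℕ → ℕ) (hf : ∀ i < 24, f i < 256) {i : ℕ} (hi : i < 24) :
    f8 (mk24 f) i = f i := by
  unfold mk24
  rw [f8_pack8 _ (by
    intro e he
    simp only [List.mem_map, List.mem_range] at he
    obtain ⟨j, hj, rfl⟩ := he
    exact hf j hj) i (by simpa using hi)]
  simp

/-- the integer vector coded by `P` -/
def vec (P : ℕ) : GolayPt → ℤ := fun p => (f8 P (gIdx p) : ℤ) - 128

theorem vec_apply (P : ℕ) (p : GolayPt) : vec P p = (f8 P (gIdx p) : ℤ) - 128 := rfl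

theorem vec_gPt (P : ℕ) {i : ℕ} (hi : i < 24) : vec P (gPt i) = (f8 P i : ℤ) - 128 := by
  rw [vec_apply, gIdx_gPt hi]

/-! ## Coordinate permutations and sign changes -/

/-- coordinate permutation by a packed permutation -/
def pmV (Q P : ℕ) : ℕ := mk24 (fun i => f8 P (lk Q i))

theorem vec_pmV {Q : ℕ} {σ : Equiv.Perm GolayPt} (h : Rep Q σ) (P : ℕ) :
    vec (pmV Q P) = Cfsg.Agent.H93.pm σ (vec P) := by
  funext p
  unfold Cfsg.Agent.H93.pm
  rw [vec_apply, vec_apply, h p]
  unfold pmV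
  rw [f8_mk24 _ (fun i _ => f8_lt _ _) (gIdx_lt p)]

theorem lt_of_blt8 {a b : ℕ} (h : Nat.blt a b = true) : a < b := by
  simpa [Nat.blt_eq] using h

/-- all fields are positive -/
def posV (P : ℕ) : Bool := allB (fun i => Nat.blt 0 (f8 P i)) 24

/-- sign change on the points of a mask -/
def sgV (c P : ℕ) : ℕ := mk24 (fun i => bif tb c i then Nat.sub 256 (f8 P i) else f8 P i)

theorem vec_sgV (c : ℕ) {P : ℕ} (hP : posV P = true) :
    vec (sgV c P) = Cfsg.Agent.H93.sg (fs c) (vec P) := by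
  funext p
  have hpos : 0 < f8 P (gIdx p) := by
    have := (allB_iff _ _).mp hP (gIdx p) (gIdx_lt p)
    exact lt_of_blt8 this
  have hlt := f8_lt P (gIdx p)
  unfold Cfsg.Agent.H93.sg
  rw [vec_apply, vec_apply]
  unfold sgV
  rw [f8_mk24 _ (fun i hi => by
    have h1 := f8_lt P i
    have h2 : 0 < f8 P i := lt_of_blt8 ((allB_iff _ _).mp hP i hi)
    cases tb c i
    · exact h1
    · show 256 - f8 P i < 256
      omega) (gIdx_lt p)]
  have htb : tb c (gIdx p) = true ↔ p ∈ fs c := by rw [tb_eq, mem_fs]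
  by_cases hb : p ∈ fs c
  · rw [if_pos hb, htb.mpr hb]
    show ((256 - f8 P (gIdx p) : ℕ) : ℤ) - 128 = _
    omega
  · rw [if_neg hb]
    have : tb c (gIdx p) = false := by
      cases h : tb c (gIdx p)
      · rfl
      · exact absurd (htb.mp h) hb
    rw [this]
    rfl

/-! ## Bounded sums and masks -/

/-- `f 0 + … + f (n - 1)` -/
def sumF (f : ℕ → ℕ) : ℕ → ℕ
  | 0 => 0
  | n + 1 => Nat.add (sumF f n) (f n)

theorem sumF_eq (f : ℕ → ℕ) (n : ℕ) : sumF f n = ∑ i ∈ Finset.range n, f i := by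
  induction n with
  | zero => rfl
  | succ n ih =>
    rw [Finset.sum_range_succ, ← ih]
    rfl

/-- the mask of the `i < n` with `f i` -/
def bitsMask (f : ℕ → Bool) : ℕ → ℕ
  | 0 => 0
  | n + 1 => Nat.lor (bitsMask f n) (bif f n then Nat.shiftLeft 1 n else 0)

theorem testBit_bitsMask (f : ℕ → Bool) (n j : ℕ) :
    (bitsMask f n).testBit j = (decide (j < n) && f j) := by
  induction n with
  | zero => simp [bitsMask]
  | succ n ih =>
    have e : bitsMask f (n + 1) = bitsMask f n ||| (bif f n then 1 <<< n else 0) := rfl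
    rw [e, Nat.testBit_or, ih]
    by_cases hj : j < n
    · have hne : n ≠ j := by omega
      have hj' : j < n + 1 := by omega
      cases hf : f n
      · simp [hj, hj']
      · simp [hj, hj', Nat.one_shiftLeft, Nat.testBit_two_pow, hne]
    · by_cases hjn : j = n
      · subst hjn
        cases hf : f j
        · simp
        · simp [Nat.one_shiftLeft, Nat.testBit_two_pow]
      · have hj' : ¬ j < n + 1 := by omega
        have hne : n ≠ j := fun h => hjn h.symm
        cases hf : f n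
        · simp [hj, hj']
        · simp [hj, hj', Nat.one_shiftLeft, Nat.testBit_two_pow, hne]

theorem mem_fs_bitsMask (f : ℕ → Bool) (p : GolayPt) :
    p ∈ fs (bitsMask f 24) ↔ f (gIdx p) = true := by
  rw [mem_fs, testBit_bitsMask]
  simp [gIdx_lt p]

theorem sum_gIdx {M : Type*} [AddCommMonoid M] (g : ℕ → M) :
    ∑ p : GolayPt, g (gIdx p) = ∑ i ∈ Finset.range 24, g i := by
  refine Finset.sum_bij' (fun p _ => gIdx p) (fun i _ => gPt i) ?_ ?_ ?_ ?_ ?_
  · intro p _; exact Finset.mem_range.mpr (gIdx_lt p)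
  · intro i _; exact Finset.mem_univ _
  · intro p _; exact gPt_gIdx p
  · intro i hi; exact gIdx_gPt (Finset.mem_range.mp hi)
  · intro p _; rfl

/-! ## Membership in the lattice -/

/-- kernel test for membership of the coded vector in the rank-24 lattice -/
def chkL (P : ℕ) : Bool :=
  allB (fun i => Nat.beq (Nat.land (f8 P i) 1) (Nat.land (f8 P 0) 1)) 24 &&
  (Nat.beq (Nat.land (sumF (f8 P) 24) 7) (Nat.mul 4 (Nat.land (f8 P 0) 1)) &&
  isGolay (bitsMask (fun i => tb (f8 P i) 1) 24))

theorem vec_mem_of_chkL {P : ℕ} (h : chkL P = true) : vec P ∈ leechLattice := by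
  unfold chkL at h
  simp only [Bool.and_eq_true] at h
  obtain ⟨h1, h2, h3⟩ := h
  have hpar : ∀ i < 24, f8 P i % 2 = f8 P 0 % 2 := by
    intro i hi
    have := Nat.eq_of_beq_eq_true ((allB_iff _ _).mp h1 i hi)
    rw [land_one_eq, land_one_eq] at this
    exact this
  have hsum : (∑ i ∈ Finset.range 24, f8 P i) % 8 = 4 * (f8 P 0 % 2) := by
    have := Nat.eq_of_beq_eq_true h2
    rw [land_one_eq, sumF_eq] at this
    have e : Nat.land (∑ i ∈ Finset.range 24, f8 P i) 7 = (∑ i ∈ Finset.range 24, f8 P i) % 8 :=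
      Nat.and_two_pow_sub_one_eq_mod _ 3
    rw [e] at this
    exact this
  obtain ⟨k, hk, hmask⟩ := isGolay_iff.mp h3
  rw [Cfsg.Agent.H93.mem_leechLattice_iff]
  refine ⟨((f8 P 0 % 2 : ℕ) : ℤ), fun p => ?_, ?_, ?_⟩
  · have := hpar (gIdx p) (gIdx_lt p)
    rw [vec_apply]
    unfold Int.ModEq
    omega
  · have e1 : ∑ p : GolayPt, vec P p = ∑ i ∈ Finset.range 24, ((f8 P i : ℤ) - 128) :=
      sum_gIdx (fun i => (f8 P i : ℤ) - 128)
    rw [e1, Finset.sum_sub_distrib]
    simp only [Finset.sum_const, Finset.card_range, nsmul_eq_mul]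
    have e2 : ((∑ i ∈ Finset.range 24, f8 P i : ℕ) : ℤ) = ∑ i ∈ Finset.range 24, (f8 P i : ℤ) := by
      push_cast; rfl
    rw [← e2]
    unfold Int.ModEq
    omega
  · have e : Cfsg.Agent.H93.wd ((f8 P 0 % 2 : ℕ) : ℤ) (vec P) = dec (cw k) := by
      funext p
      apply Cfsg.Agent.H93.zmod2_eq_of_ne_zero_iff
      have hp := hpar (gIdx p) (gIdx_lt p)
      rw [Cfsg.Agent.H93.wd_ne_zero_iff _ _ _ (by
        rw [vec_apply]; unfold Int.ModEq; omega)]
      rw [← hmask]
      unfold dec
      rw [testBit_bitsMask]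
      simp only [gIdx_lt p, decide_true, Bool.true_and, tb_eq, vec_apply]
      rw [Nat.testBit_eq_decide_div_mod_eq]
      unfold Int.ModEq
      by_cases hb : f8 P (gIdx p) / 2 ^ 1 % 2 = 1
      · simp only [hb, decide_true, if_true]
        constructor
        · intro _; exact one_ne_zero
        · intro _; omega
      · simp only [hb, decide_false, Bool.false_eq_true, if_false]
        constructor
        · intro h4; omega
        · intro h4; exact absurd rfl h4
    rw [e]
    exact dec_cw_mem k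

/-! ## Sums of squares and of fourth powers -/

/-- `(f - 128)^2` for a field `f` -/
def sq8 (f : ℕ) : ℕ := Nat.sub (Nat.add (Nat.mul f f) 16384) (Nat.mul 256 f)

theorem sq8_cast (f : ℕ) : ((sq8 f : ℕ) : ℤ) = ((f : ℤ) - 128) ^ 2 := by
  have h : 256 * f ≤ f * f + 16384 := by nlinarith [sq_nonneg ((f : ℤ) - 128)]
  show ((f * f + 16384 - 256 * f : ℕ) : ℤ) = _
  rw [Nat.cast_sub h]
  push_cast
  ring

/-- sum of squares of the coded vector -/
def sqV (P : ℕ) : ℕ := sumF (fun i => sq8 (f8 P i)) 24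

theorem sqNorm_vec (P : ℕ) : sqNorm (vec P) = (sqV P : ℤ) := by
  unfold sqNorm sqV
  rw [sumF_eq]
  have e1 : ∑ p : GolayPt, vec P p ^ 2 = ∑ i ∈ Finset.range 24, ((f8 P i : ℤ) - 128) ^ 2 :=
    sum_gIdx (fun i => ((f8 P i : ℤ) - 128) ^ 2)
  rw [e1]
  push_cast
  exact Finset.sum_congr rfl (fun i _ => (sq8_cast _).symm)

/-- sum of fourth powers of the coded vector -/
def q4V (P : ℕ) : ℕ := sumF (fun i => Nat.mul (sq8 (f8 P i)) (sq8 (f8 P i))) 24

theorem q4_vec (P : ℕ) : ∑ p : GolayPt, vec P p ^ 4 = (q4V P : ℤ) := by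
  unfold q4V
  rw [sumF_eq]
  have e1 : ∑ p : GolayPt, vec P p ^ 4 = ∑ i ∈ Finset.range 24, ((f8 P i : ℤ) - 128) ^ 4 :=
    sum_gIdx (fun i => ((f8 P i : ℤ) - 128) ^ 4)
  rw [e1]
  push_cast
  refine Finset.sum_congr rfl (fun i _ => ?_)
  have e : ((Nat.mul (sq8 (f8 P i)) (sq8 (f8 P i)) : ℕ) : ℤ)
      = ((sq8 (f8 P i) : ℕ) : ℤ) * ((sq8 (f8 P i) : ℕ) : ℤ) := by
    show ((sq8 (f8 P i) * sq8 (f8 P i) : ℕ) : ℤ) = _
    push_cast; rfl
  rw [e, sq8_cast]
  ring

/-- the mask of the non-zero coordinates -/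
def suppV (P : ℕ) : ℕ := bitsMask (fun i => !(Nat.beq (f8 P i) 128)) 24

theorem mem_fs_suppV (P : ℕ) (p : GolayPt) : p ∈ fs (suppV P) ↔ vec P p ≠ 0 := by
  unfold suppV
  rw [mem_fs_bitsMask, vec_apply]
  constructor
  · intro h hz
    have : f8 P (gIdx p) = 128 := by omega
    rw [this] at h
    exact absurd h (by decide)
  · intro h
    cases hb : Nat.beq (f8 P (gIdx p)) 128
    · rfl
    · exfalso
      apply h
      rw [Nat.eq_of_beq_eq_true hb]
      norm_num

/-- the mask of the coordinates of absolute value `a` -/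
def lvlV (P a : ℕ) : ℕ :=
  bitsMask (fun i => Nat.beq (f8 P i) (Nat.add 128 a) || Nat.beq (Nat.add (f8 P i) a) 128) 24

theorem mem_fs_lvlV (P a : ℕ) (p : GolayPt) : p ∈ fs (lvlV P a) ↔ |vec P p| = (a : ℤ) := by
  unfold lvlV
  rw [mem_fs_bitsMask, vec_apply, Bool.or_eq_true]
  constructor
  · rintro (h | h)
    · have e : f8 P (gIdx p) = 128 + a := Nat.eq_of_beq_eq_true h
      rw [e]
      push_cast
      rw [abs_of_nonneg (by omega)]
      ring
    · have e : f8 P (gIdx p) + a = 128 := Nat.eq_of_beq_eq_true h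
      have e' : ((f8 P (gIdx p) : ℕ) : ℤ) - 128 = -(a : ℤ) := by omega
      rw [e', abs_neg, abs_of_nonneg (by omega)]
  · intro h
    rcases abs_eq (by omega : (0 : ℤ) ≤ (a : ℤ)) |>.mp h with h1 | h1
    · left
      have : f8 P (gIdx p) = 128 + a := by omega
      rw [this]; exact Nat.beq_refl _
    · right
      have : f8 P (gIdx p) + a = 128 := by omega
      show Nat.beq (f8 P (gIdx p) + a) 128 = true
      rw [this]; rfl

end Cfsg.Agent.H33
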