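import Cfsg.Agent.H33.LOrb
import Cfsg.Agent.H33.LStab
import Cfsg.Agent.H33.LVec

/-!
# Stabiliser data of packed vectors (helper33)

For a packed vector `P`: the permutations occurring in the monomial stabiliser preserve the level
sets of `vec P` (`monoB_subset_stabOf`), the code words off the support are counted by a kernel
loop (`monoC_ncard_le`), and a bound by explicit elements (`monoB_coset_bound`, with the kernel
test `neqvB` for vectors not related by a sign change on a code word).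
-/

set_option autoImplicit false

namespace Cfsg.Agent.H33

open Cfsg Cfsg.Agent.H9 Cfsg.Agent.H93 MulAction
open scoped Pointwise

local notation "SC" => supports (golayCode : Set (GolayPt → ZMod 2))

theorem smul_eq_of_mem_iff' {g : Equiv.Perm GolayPt} {o : Finset GolayPt}
    (h : ∀ x, g x ∈ o ↔ x ∈ o) : g • o = o := by
  ext x
  rw [← Finset.inv_smul_mem_iff]
  have h1 := h (g⁻¹ x)
  have h2 : g (g⁻¹ x) = x := Equiv.apply_symm_apply g x
  rw [h2] at h1
  exact h1.symm

theorem abs_signedPerm {σ : Equiv.Perm GolayPt} {d : Finset GolayPt} {x : GolayPt → ℤ}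
    (h : signedPerm σ d x = x) (p : GolayPt) : |x (σ p)| = |x p| := by
  have e := congrFun h (σ p)
  unfold signedPerm at e
  rw [Equiv.symm_apply_apply] at e
  rw [← e]
  split_ifs
  · exact abs_neg _
  · rfl

/-- the permutations in the monomial stabiliser preserve the level sets -/
theorem monoB_subset_stabOf (P : ℕ) (as : List ℕ) :
    monoB (vec P) ⊆ (stabOf (as.map (lvlV P)) : Set (Equiv.Perm GolayPt)) := by
  rintro σ ⟨hσ, d, -, hd⟩
  refine ⟨hσ, fun m hm => ?_⟩
  obtain ⟨a, -, rfl⟩ := List.mem_map.mp hm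
  apply smul_eq_of_mem_iff'
  intro p
  rw [mem_fs_lvlV, mem_fs_lvlV, abs_signedPerm hd p]

theorem monoB_ncard_le (P : ℕ) (as : List ℕ) (fixed : List ℕ) (b : ℕ)
    (hf : as.map (lvlV P) = fixed) (hb : Nat.card (stabOf fixed) ≤ b) :
    (monoB (vec P)).ncard ≤ b := by
  have h1 := monoB_subset_stabOf P as
  rw [hf] at h1
  have h2 := Set.ncard_le_ncard h1 (Set.toFinite _)
  rw [← Nat.card_coe_set_eq] at h2
  exact (h2.trans (le_of_eq rfl)).trans hb

/-- the code words off the support, by a kernel loop -/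
theorem monoC_ncard_le (P : ℕ) :
    (monoC (vec P)).ncard ≤ countB (fun k => Nat.beq (Nat.land (cwN k) (suppV P)) 0) 4096 := by
  rw [← ncard_supports_filter (fun m => Nat.beq (Nat.land m (suppV P)) 0)]
  apply Set.ncard_le_ncard _ (Set.toFinite _)
  rintro d ⟨hd, hz⟩
  obtain ⟨k, hk, rfl⟩ := (mem_supports_iff d).mp hd
  refine ⟨k, hk, ?_, rfl⟩
  have e : Nat.land (cw k) (suppV P) = 0 := by
    apply Nat.eq_of_testBit_eq
    intro j
    have e1 : (Nat.land (cw k) (suppV P)).testBit j = ((cw k).testBit j && (suppV P).testBit j) :=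
      Nat.testBit_and _ _ _
    rw [e1, Nat.zero_testBit]
    by_cases hj : j < 24
    · cases hb : (cw k).testBit j
      · rfl
      · have h1 : gPt j ∈ fs (cw k) := by rw [mem_fs, gIdx_gPt hj]; exact hb
        have h2 := hz _ h1
        have h3 : ¬ gPt j ∈ fs (suppV P) := by
          rw [mem_fs_suppV]; exact not_not.mpr h2
        rw [mem_fs, gIdx_gPt hj] at h3
        simpa using h3
    · unfold suppV
      rw [testBit_bitsMask]
      simp [hj]
  rw [e]
  rfl

/-! ## Vectors not related by a sign change on a code word -/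

theorem sg_comp (a b : Finset GolayPt) (y : GolayPt → ℤ) :
    sg a (sg b y) = sg (symmDiff a b) y := by
  funext i
  unfold sg
  by_cases ha : i ∈ a <;> by_cases hb : i ∈ b <;> simp [Finset.mem_symmDiff, ha, hb]

theorem pm_eq_sg_of_fix {τ β : Equiv.Perm GolayPt} {d : Finset GolayPt} {x : GolayPt → ℤ}
    (h : signedPerm β d x = x) :
    pm τ⁻¹ x = sg (τ • d) (pm (τ * β)⁻¹ x) := by
  funext i
  have e := congrFun h (τ⁻¹ i)
  unfold signedPerm at e
  have h1 : (τ * β)⁻¹ i = β.symm (τ⁻¹ i) := rfl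
  have h2 : i ∈ τ • d ↔ τ⁻¹ i ∈ d := by
    rw [← Finset.inv_smul_mem_iff]
    rfl
  show x (τ⁻¹ i) = if i ∈ τ • d then -x ((τ * β)⁻¹ i) else x ((τ * β)⁻¹ i)
  rw [h1]
  by_cases hi : τ⁻¹ i ∈ d
  · rw [if_pos hi] at e
    rw [if_pos (h2.mpr hi)]
    exact e.symm
  · rw [if_neg hi] at e
    rw [if_neg (fun hh => hi (h2.mp hh))]
    exact e.symm

/-- a bound for the permutations in the monomial stabiliser by explicit elements -/
theorem monoB_coset_bound (x : GolayPt → ℤ) (H : Subgroup (Equiv.Perm GolayPt))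
    (hB : monoB x ⊆ (H : Set (Equiv.Perm GolayPt))) (k : ℕ) (ρ : ℕ → Equiv.Perm GolayPt)
    (hρ : ∀ j < k, ρ j ∈ H ∧ ρ j ∈ M24)
    (hne : ∀ j < k, ∀ j' < k, j ≠ j' → ¬ ∃ e ∈ SC, pm (ρ j') x = sg e (pm (ρ j) x)) :
    (monoB x).ncard * k ≤ Nat.card H := by
  apply coset_bound H (monoB x) hB k (fun j => (ρ j)⁻¹) (fun j hj => H.inv_mem (hρ j hj).1)
  intro j hj j' hj' β hβ β' hβ' he
  by_contra hjj
  apply hne j hj j' hj' hjj
  obtain ⟨-, d, hd, hfix⟩ := hβ
  obtain ⟨-, d', hd', hfix'⟩ := hβ'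
  have e1 := pm_eq_sg_of_fix (τ := (ρ j)⁻¹) hfix
  have e2 := pm_eq_sg_of_fix (τ := (ρ j')⁻¹) hfix'
  rw [inv_inv] at e1 e2
  have he' : (ρ j)⁻¹ * β = (ρ j')⁻¹ * β' := he
  rw [← he'] at e2
  have e3 : pm ((ρ j)⁻¹ * β)⁻¹ x = sg ((ρ j)⁻¹ • d) (pm (ρ j) x) := by
    rw [e1, sg_sg]
  rw [e3, sg_comp] at e2
  exact ⟨_, symmDiff_mem_supports (smul_mem_supports (M24.inv_mem (hρ j' hj').2) hd')
    (smul_mem_supports (M24.inv_mem (hρ j hj).2) hd), e2⟩

/-- the mask of the coordinates where two packed vectors differ -/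
def diffV (P1 P2 : ℕ) : ℕ := bitsMask (fun i => !(Nat.beq (f8 P1 i) (f8 P2 i))) 24

/-- some code word of `os` inside `S` meets `u` in an odd number of points -/
def sepB (os : List ℕ) (S u : ℕ) : Bool :=
  os.any (fun o => isGolay o && (Nat.beq (Nat.land o S) o &&
    Nat.beq (Nat.land (pcT (Nat.land u o)) 1) 1))

/-- kernel test: `vec P2` is not a sign change of `vec P1` on a code word -/
def neqvB (os : List ℕ) (P1 P2 : ℕ) : Bool :=
  !(Nat.beq (Nat.land (diffV P1 P2) (suppV P1)) (diffV P1 P2)) ||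
    sepB os (suppV P1) (diffV P1 P2)

theorem nat_beq_false' {a b : ℕ} (h : a ≠ b) : Nat.beq a b = false := by
  cases hb : Nat.beq a b
  · rfl
  · exact absurd (Nat.eq_of_beq_eq_true hb) h

theorem cw_and_supp {k P1 P2 : ℕ} (h : vec P2 = sg (fs (cw k)) (vec P1)) :
    cw k &&& suppV P1 = diffV P1 P2 := by
  apply Nat.eq_of_testBit_eq
  intro j
  rw [Nat.testBit_and]
  unfold suppV diffV
  rw [testBit_bitsMask, testBit_bitsMask]
  by_cases hj : j < 24
  · have e := congrFun h (gPt j)
    unfold sg at e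
    rw [vec_gPt P2 hj, vec_gPt P1 hj] at e
    have hmem : gPt j ∈ fs (cw k) ↔ (cw k).testBit j = true := by rw [mem_fs, gIdx_gPt hj]
    simp only [hj, decide_true, Bool.true_and]
    by_cases hb : gPt j ∈ fs (cw k)
    · rw [if_pos hb] at e
      rw [hmem.mp hb]
      simp only [Bool.true_and]
      by_cases h128 : f8 P1 j = 128
      · have : f8 P2 j = 128 := by omega
        rw [h128, this]
      · have hne : f8 P1 j ≠ f8 P2 j := by omega
        rw [nat_beq_false' h128, nat_beq_false' hne]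
    · rw [if_neg hb] at e
      have hb' : (cw k).testBit j = false := by
        cases hc : (cw k).testBit j
        · rfl
        · exact absurd (hmem.mpr hc) hb
      rw [hb']
      have : f8 P1 j = f8 P2 j := by omega
      rw [this, Nat.beq_refl]
      rfl
  · simp [hj]

theorem neqv_sound {os : List ℕ} {P1 P2 : ℕ} (h : neqvB os P1 P2 = true) :
    ¬ ∃ e ∈ SC, vec P2 = sg e (vec P1) := by
  rintro ⟨e, he, heq⟩
  obtain ⟨k, hk, rfl⟩ := (mem_supports_iff e).mp he
  have hkey := cw_and_supp heq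
  unfold neqvB at h
  rw [Bool.or_eq_true] at h
  rcases h with h | h
  · have e1 : Nat.land (diffV P1 P2) (suppV P1) = diffV P1 P2 := by
      show diffV P1 P2 &&& suppV P1 = diffV P1 P2
      rw [← hkey, Nat.and_assoc, Nat.and_self]
    rw [e1, Nat.beq_refl] at h
    exact absurd h (by decide)
  · unfold sepB at h
    rw [List.any_eq_true] at h
    obtain ⟨o, -, ho⟩ := h
    simp only [Bool.and_eq_true] at ho
    obtain ⟨ho1, ho2, ho3⟩ := ho
    obtain ⟨k', hk', rfl⟩ := isGolay_iff.mp ho1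
    have e1 : cw k' &&& suppV P1 = cw k' := Nat.eq_of_beq_eq_true ho2
    have e2 : Nat.land (diffV P1 P2) (cw k') = Nat.land (cw k) (cw k') := by
      show diffV P1 P2 &&& cw k' = cw k &&& cw k'
      rw [← hkey, Nat.and_assoc, Nat.and_comm (suppV P1), e1]
    have e3 := golay_self_orth _ _ (dec_cw_mem k) (dec_cw_mem k')
    rw [sum_dec_mul, ZMod.natCast_eq_zero_iff] at e3
    have e4 := Nat.eq_of_beq_eq_true ho3
    rw [land_one_eq, e2] at e4
    omega

end Cfsg.Agent.H33
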