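import Cfsg.Agent.H33.LVec
import Cfsg.Agent.H33.LGen

/-!
# The sextet map of the rank-24 lattice (helper33)

For the standard sextet (tetrads `{0,1,2,3}`, `{4,7,10,12}`, `{8,15,16,19}`, `{13,18,20,21}`,
`{6,9,11,22}`, `{5,14,17,23}` in index form) the map `x ↦ (x_i - (sum over the tetrad of i)/2)`,
followed by the sign change on the first tetrad, is an automorphism `xiPerm` of the lattice.
-/

set_option autoImplicit false

namespace Cfsg.Agent.H33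

open Cfsg Cfsg.Agent.H9 Cfsg.Agent.H93

/-- the tetrad of the point with index `i` -/
def tetOf : ℕ → ℕ × ℕ × ℕ × ℕ
  | 0 => (0, 1, 2, 3) | 1 => (0, 1, 2, 3) | 2 => (0, 1, 2, 3) | 3 => (0, 1, 2, 3)
  | 4 => (4, 7, 10, 12) | 7 => (4, 7, 10, 12) | 10 => (4, 7, 10, 12) | 12 => (4, 7, 10, 12)
  | 8 => (8, 15, 16, 19) | 15 => (8, 15, 16, 19) | 16 => (8, 15, 16, 19) | 19 => (8, 15, 16, 19)
  | 13 => (13, 18, 20, 21) | 18 => (13, 18, 20, 21) | 20 => (13, 18, 20, 21)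
  | 21 => (13, 18, 20, 21)
  | 6 => (6, 9, 11, 22) | 9 => (6, 9, 11, 22) | 11 => (6, 9, 11, 22) | 22 => (6, 9, 11, 22)
  | 5 => (5, 14, 17, 23) | 14 => (5, 14, 17, 23) | 17 => (5, 14, 17, 23) | 23 => (5, 14, 17, 23)
  | _ => (0, 0, 0, 0)

/-- the sign change: the first tetrad -/
def epsOf : ℕ → Bool
  | 0 => true | 1 => true | 2 => true | 3 => true
  | _ => false

theorem tetOf_lt : ∀ i < 24, (tetOf i).1 < 24 ∧ (tetOf i).2.1 < 24 ∧ (tetOf i).2.2.1 < 24 ∧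
    (tetOf i).2.2.2 < 24 := by decide

/-- twice the sextet map, on index-level vectors -/
def xiI (y : ℕ → ℤ) (i : ℕ) : ℤ :=
  if epsOf i = true then
    (y (tetOf i).1 + y (tetOf i).2.1 + y (tetOf i).2.2.1 + y (tetOf i).2.2.2) - 2 * y i
  else 2 * y i - (y (tetOf i).1 + y (tetOf i).2.1 + y (tetOf i).2.2.1 + y (tetOf i).2.2.2)

/-- twice the sextet map -/
def xi2 (x : GolayPt → ℤ) : GolayPt → ℤ := fun p => xiI (fun i => x (gPt i)) (gIdx p)

theorem xi2_add (x y : GolayPt → ℤ) : xi2 (x + y) = xi2 x + xi2 y := by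
  funext p
  simp only [xi2, xiI, Pi.add_apply]
  split_ifs <;> ring

/-- `xi2` as an additive map -/
def xi2Hom : (GolayPt → ℤ) →+ (GolayPt → ℤ) where
  toFun := xi2
  map_zero' := by
    funext p
    simp [xi2, xiI]
  map_add' := xi2_add

theorem sum_sq_xiI (y : ℕ → ℤ) :
    ∑ i ∈ Finset.range 24, xiI y i ^ 2 = 4 * ∑ i ∈ Finset.range 24, y i ^ 2 := by
  simp only [Finset.sum_range_succ, Finset.sum_range_zero, xiI, tetOf, epsOf]
  simp only [if_true, Bool.false_eq_true, if_false]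
  ring

theorem sqNorm_xi2 (x : GolayPt → ℤ) : sqNorm (xi2 x) = 4 * sqNorm x := by
  unfold sqNorm
  have e1 : ∑ p : GolayPt, xi2 x p ^ 2
      = ∑ i ∈ Finset.range 24, xiI (fun i => x (gPt i)) i ^ 2 :=
    sum_gIdx (fun i => xiI (fun i => x (gPt i)) i ^ 2)
  have e2 : ∑ p : GolayPt, x p ^ 2 = ∑ i ∈ Finset.range 24, x (gPt i) ^ 2 := by
    rw [← sum_gIdx (fun i => x (gPt i) ^ 2)]
    exact Finset.sum_congr rfl (fun p _ => by rw [gPt_gIdx])
  rw [e1, e2]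
  exact sum_sq_xiI _

theorem xiI_xiI (y : ℕ → ℤ) : ∀ i < 24, xiI (fun j => xiI y j) i = 4 * y i := by
  intro i hi
  interval_cases i <;> simp only [xiI, tetOf, epsOf, if_true, Bool.false_eq_true, if_false] <;> ring

theorem xi2_xi2 (x : GolayPt → ℤ) (p : GolayPt) : xi2 (xi2 x) p = 4 * x p := by
  have h := xiI_xiI (fun i => x (gPt i)) (gIdx p) (gIdx_lt p)
  rw [gPt_gIdx] at h
  rw [← h]
  unfold xi2
  have hl := tetOf_lt (gIdx p) (gIdx_lt p)
  simp only [xiI, gIdx_gPt hl.1, gIdx_gPt hl.2.1, gIdx_gPt hl.2.2.1, gIdx_gPt hl.2.2.2,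
    gIdx_gPt (gIdx_lt p)]

/-! ## The packed form -/

/-- the sum of the fields of the tetrad of `i` -/
def tsum (P i : ℕ) : ℕ :=
  Nat.add (Nat.add (Nat.add (f8 P (tetOf i).1) (f8 P (tetOf i).2.1)) (f8 P (tetOf i).2.2.1))
    (f8 P (tetOf i).2.2.2)

/-- the packed sextet map -/
def xiV (P : ℕ) : ℕ :=
  mk24 (fun i => bif epsOf i then Nat.sub (Nat.div (tsum P i) 2) (f8 P i)
    else Nat.sub (Nat.add (f8 P i) 256) (Nat.div (tsum P i) 2))

/-- the fields are in `[96, 160]` and the tetrad sums are even -/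
def xiOK (P : ℕ) : Bool :=
  allB (fun i => Nat.ble 96 (f8 P i) && (Nat.ble (f8 P i) 160 &&
    Nat.beq (Nat.land (tsum P i) 1) 0)) 24

theorem xiOK_spec {P : ℕ} (h : xiOK P = true) {i : ℕ} (hi : i < 24) :
    96 ≤ f8 P i ∧ f8 P i ≤ 160 ∧ tsum P i % 2 = 0 := by
  have := (allB_iff _ _).mp h i hi
  simp only [Bool.and_eq_true] at this
  obtain ⟨h1, h2, h3⟩ := this
  refine ⟨Nat.le_of_ble_eq_true h1, Nat.le_of_ble_eq_true h2, ?_⟩
  have := Nat.eq_of_beq_eq_true h3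
  rw [land_one_eq] at this
  exact this

theorem vec_xiV {P : ℕ} (h : xiOK P = true) (p : GolayPt) :
    2 * vec (xiV P) p = xi2 (vec P) p := by
  have hi := gIdx_lt p
  obtain ⟨hl1, hl2, hl3, hl4⟩ := tetOf_lt (gIdx p) hi
  obtain ⟨a1, a2, a3⟩ := xiOK_spec h hi
  obtain ⟨b1, b2, -⟩ := xiOK_spec h hl1
  obtain ⟨c1, c2, -⟩ := xiOK_spec h hl2
  obtain ⟨d1, d2, -⟩ := xiOK_spec h hl3
  obtain ⟨e1, e2, -⟩ := xiOK_spec h hl4
  have hts : tsum P (gIdx p) = f8 P (tetOf (gIdx p)).1 + f8 P (tetOf (gIdx p)).2.1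
      + f8 P (tetOf (gIdx p)).2.2.1 + f8 P (tetOf (gIdx p)).2.2.2 := rfl
  have hfld : ∀ j < 24, (bif epsOf j then Nat.sub (Nat.div (tsum P j) 2) (f8 P j)
      else Nat.sub (Nat.add (f8 P j) 256) (Nat.div (tsum P j) 2)) < 256 := by
    intro j hj
    obtain ⟨j1, j2, j3, j4⟩ := tetOf_lt j hj
    obtain ⟨x1, x2, -⟩ := xiOK_spec h hj
    obtain ⟨y1, y2, -⟩ := xiOK_spec h j1
    obtain ⟨z1, z2, -⟩ := xiOK_spec h j2
    obtain ⟨w1, w2, -⟩ := xiOK_spec h j3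
    obtain ⟨u1, u2, -⟩ := xiOK_spec h j4
    have hts' : tsum P j = f8 P (tetOf j).1 + f8 P (tetOf j).2.1
        + f8 P (tetOf j).2.2.1 + f8 P (tetOf j).2.2.2 := rfl
    cases epsOf j
    · show f8 P j + 256 - tsum P j / 2 < 256
      omega
    · show tsum P j / 2 - f8 P j < 256
      omega
  rw [vec_apply]
  unfold xiV
  rw [f8_mk24 _ hfld hi]
  unfold xi2 xiI
  beta_reduce
  rw [vec_gPt P hl1, vec_gPt P hl2, vec_gPt P hl3, vec_gPt P hl4, vec_gPt P hi]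
  cases he : epsOf (gIdx p)
  · simp only [Bool.false_eq_true, if_false, cond_false]
    have : ((Nat.sub (Nat.add (f8 P (gIdx p)) 256) (Nat.div (tsum P (gIdx p)) 2) : ℕ) : ℤ)
        = (f8 P (gIdx p) : ℤ) + 256 - ((tsum P (gIdx p) / 2 : ℕ) : ℤ) := by
      show ((f8 P (gIdx p) + 256 - tsum P (gIdx p) / 2 : ℕ) : ℤ) = _
      omega
    rw [this]
    omega
  · simp only [if_true, cond_true]
    have : ((Nat.sub (Nat.div (tsum P (gIdx p)) 2) (f8 P (gIdx p)) : ℕ) : ℤ)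
        = ((tsum P (gIdx p) / 2 : ℕ) : ℤ) - (f8 P (gIdx p) : ℤ) := by
      show ((tsum P (gIdx p) / 2 - f8 P (gIdx p) : ℕ) : ℤ) = _
      omega
    rw [this]
    omega

theorem xi2_vec {P : ℕ} (h : xiOK P = true) : xi2 (vec P) = dbl (vec (xiV P)) := by
  funext p
  rw [dbl_apply, vec_xiV h]

end Cfsg.Agent.H33
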