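import Cfsg.Agent.H33.LXi

/-!
# The sextet map is an automorphism of the rank-24 lattice (helper33)
-/

set_option autoImplicit false

namespace Cfsg.Agent.H33

open Cfsg Cfsg.Agent.H9 Cfsg.Agent.H93

theorem gIdx_none : gIdx none = 23 := rfl

theorem gIdx_eq_23 {p : GolayPt} : gIdx p = 23 ↔ p = none := by
  constructor
  · intro h; exact gIdx_injective (h.trans gIdx_none.symm)
  · rintro rfl; rfl

theorem gIdx_some_zero : gIdx (some 0) = 0 := rfl

theorem gIdx_eq_0 {p : GolayPt} : gIdx p = 0 ↔ p = some 0 := by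
  constructor
  · intro h; exact gIdx_injective (h.trans gIdx_some_zero.symm)
  · rintro rfl; rfl

theorem beq_false_of_ne {a b : ℕ} (h : a ≠ b) : Nat.beq a b = false := by
  cases hb : Nat.beq a b
  · rfl
  · exact absurd (Nat.eq_of_beq_eq_true hb) h

/-- packed `4 e_i - 4 e_∞` -/
def dvP (i : ℕ) : ℕ :=
  mk24 (fun j => bif Nat.beq j i then 132 else bif Nat.beq j 23 then 124 else 128)

theorem vec_dvP (i : GolayPt) (hi : i ≠ none) : vec (dvP (gIdx i)) = dvec i 4 none (-4) := by
  funext l
  rw [vec_apply]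
  unfold dvP
  rw [f8_mk24 _ (fun j _ => by
    cases Nat.beq j (gIdx i) <;> cases Nat.beq j 23 <;> simp) (gIdx_lt l)]
  unfold dvec
  by_cases h1 : l = i
  · subst h1
    rw [Nat.beq_refl, if_pos rfl, if_neg hi]
    simp
  · have h2 : gIdx l ≠ gIdx i := fun h => h1 (gIdx_injective h)
    rw [beq_false_of_ne h2, if_neg h1]
    by_cases h3 : l = none
    · subst h3
      rw [gIdx_none, Nat.beq_refl, if_pos rfl]
      simp
    · have h4 : gIdx l ≠ 23 := fun h => h3 (gIdx_eq_23.mp h)
      rw [beq_false_of_ne h4, if_neg h3]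
      simp

/-- packed `4 e_∞ + a e_0` with `a = 4` (field 132) or `a = -4` (field 124) -/
def dwP (a : ℕ) : ℕ :=
  mk24 (fun j => bif Nat.beq j 23 then 132 else bif Nat.beq j 0 then a else 128)

theorem vec_dwP (a : ℕ) (ha : a < 256) :
    vec (dwP a) = dvec none 4 (some 0) ((a : ℤ) - 128) := by
  funext l
  rw [vec_apply]
  unfold dwP
  rw [f8_mk24 _ (fun j _ => by
    cases Nat.beq j 23 <;> cases Nat.beq j 0 <;> simp [ha]) (gIdx_lt l)]
  unfold dvec
  by_cases h1 : l = none
  · subst h1
    rw [gIdx_none, Nat.beq_refl, if_pos rfl, if_neg (by simp)]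
    simp
  · have h2 : gIdx l ≠ 23 := fun h => h1 (gIdx_eq_23.mp h)
    rw [beq_false_of_ne h2, if_neg h1]
    by_cases h3 : l = some 0
    · subst h3
      rw [gIdx_some_zero, Nat.beq_refl, if_pos rfl]
      simp
    · have h4 : gIdx l ≠ 0 := fun h => h3 (gIdx_eq_0.mp h)
      rw [beq_false_of_ne h4, if_neg h3]
      simp

/-- packed odd short vector of the code word with mask `c` -/
def vcP (c : ℕ) : ℕ :=
  mk24 (fun j => bif Nat.beq j 23 then (bif tb c 23 then 131 else 125)
    else (bif tb c j then 127 else 129))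

theorem vec_vcP (c : ℕ) : vec (vcP c) = vcode (dec c) := by
  funext p
  rw [vec_apply]
  unfold vcP
  rw [f8_mk24 _ (fun j _ => by
    cases Nat.beq j 23 <;> cases tb c 23 <;> cases tb c j <;> simp) (gIdx_lt p)]
  unfold vcode dec
  by_cases h1 : p = none
  · subst h1
    rw [gIdx_none, Nat.beq_refl, if_pos rfl]
    simp only [cond_true, tb_eq]
    cases hb : c.testBit 23 <;> simp
  · have h2 : gIdx p ≠ 23 := fun h => h1 (gIdx_eq_23.mp h)
    rw [beq_false_of_ne h2, if_neg h1]
    simp only [cond_false, tb_eq]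
    cases hb : c.testBit (gIdx p) <;> simp

/-- the packed sextet map applies to `P` and the image is in the lattice -/
def xiGenOK (P : ℕ) : Bool := xiOK P && chkL (xiV P)

theorem xiGen_dv : allB (fun i => xiGenOK (dvP i)) 23 = true := by decide +kernel

theorem xiGen_dw : xiGenOK (dwP 132) = true ∧ xiGenOK (dwP 124) = true := by decide +kernel

theorem xiGen_vc : allB (fun k => xiGenOK (vcP (cwN k))) 4096 = true := by decide +kernel

/-- the vectors mapped into twice the lattice by twice the sextet map -/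
def xiM : AddSubgroup (GolayPt → ℤ) := (leechLattice.map dbl).comap xi2Hom

theorem mem_xiM_of_gen {P : ℕ} (h : xiGenOK P = true) : vec P ∈ xiM := by
  unfold xiGenOK at h
  rw [Bool.and_eq_true] at h
  show xi2 (vec P) ∈ leechLattice.map dbl
  rw [xi2_vec h.1]
  exact AddSubgroup.mem_map_of_mem dbl (vec_mem_of_chkL h.2)

theorem leech_le_xiM : leechLattice ≤ xiM := by
  apply leech_le
  · intro i hi
    rw [← vec_dvP i hi]
    have hlt : gIdx i < 23 := by
      have h1 := gIdx_lt i
      have h2 : gIdx i ≠ 23 := fun h => hi (gIdx_eq_23.mp h)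
      omega
    exact mem_xiM_of_gen ((allB_iff _ _).mp xiGen_dv _ hlt)
  · have := vec_dwP 132 (by norm_num)
    rw [show ((132 : ℕ) : ℤ) - 128 = 4 by norm_num] at this
    rw [← this]
    exact mem_xiM_of_gen xiGen_dw.1
  · have := vec_dwP 124 (by norm_num)
    rw [show ((124 : ℕ) : ℤ) - 128 = -4 by norm_num] at this
    rw [← this]
    exact mem_xiM_of_gen xiGen_dw.2
  · intro w hw
    obtain ⟨k, hk, rfl⟩ := (mem_golayCode_iff w).mp hw
    rw [← vec_vcP, ← cwN_eq]
    exact mem_xiM_of_gen ((allB_iff _ _).mp xiGen_vc k hk)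

theorem xi2_mem {x : GolayPt → ℤ} (hx : x ∈ leechLattice) :
    ∃ y ∈ leechLattice, dbl y = xi2 x := by
  have h : x ∈ xiM := leech_le_xiM hx
  exact AddSubgroup.mem_map.mp h

theorem sqNorm_dbl (y : GolayPt → ℤ) : sqNorm (dbl y) = 4 * sqNorm y := by
  unfold sqNorm
  rw [Finset.mul_sum]
  exact Finset.sum_congr rfl (fun i _ => by rw [dbl_apply]; ring)

/-- the sextet map on the lattice -/
noncomputable def xiFun (v : leechLattice) : leechLattice :=
  ⟨(xi2_mem v.2).choose, (xi2_mem v.2).choose_spec.1⟩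

theorem dbl_xiFun (v : leechLattice) : dbl (xiFun v : GolayPt → ℤ) = xi2 (v : GolayPt → ℤ) :=
  (xi2_mem v.2).choose_spec.2

theorem xi2_dbl (x : GolayPt → ℤ) : xi2 (dbl x) = dbl (xi2 x) := by
  funext p
  simp only [xi2, xiI, dbl_apply]
  split_ifs <;> ring

theorem xiFun_xiFun (v : leechLattice) : xiFun (xiFun v) = v := by
  apply Subtype.ext
  apply dbl_injective
  apply dbl_injective
  rw [dbl_xiFun, ← xi2_dbl, dbl_xiFun]
  funext p
  rw [xi2_xi2, dbl_apply, dbl_apply]
  ring

/-- the sextet map as a permutation of the lattice -/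
noncomputable def xiPerm : Equiv.Perm leechLattice where
  toFun := xiFun
  invFun := xiFun
  left_inv := xiFun_xiFun
  right_inv := xiFun_xiFun

theorem xiPerm_apply (v : leechLattice) :
    dbl ((xiPerm v : leechLattice) : GolayPt → ℤ) = xi2 (v : GolayPt → ℤ) := dbl_xiFun v

theorem xiPerm_mem : xiPerm ∈ Co0 := by
  refine ⟨fun v w => ?_, fun v => ?_⟩
  · apply Subtype.ext
    apply dbl_injective
    show dbl ((xiFun (v + w) : leechLattice) : GolayPt → ℤ)
      = dbl (((xiFun v : leechLattice) : GolayPt → ℤ) + ((xiFun w : leechLattice) : GolayPt → ℤ))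
    rw [map_add, dbl_xiFun, dbl_xiFun, dbl_xiFun]
    exact xi2_add _ _
  · have h1 := sqNorm_dbl ((xiFun v : leechLattice) : GolayPt → ℤ)
    rw [dbl_xiFun, sqNorm_xi2] at h1
    show sqNorm ((xiFun v : leechLattice) : GolayPt → ℤ) = _
    omega

/-- the packed form of the sextet map computes `xiPerm` -/
theorem xiPerm_vec {P : ℕ} (h : xiOK P = true) (hP : vec P ∈ leechLattice) :
    ((xiPerm ⟨vec P, hP⟩ : leechLattice) : GolayPt → ℤ) = vec (xiV P) := by
  apply dbl_injective
  rw [xiPerm_apply, xi2_vec h]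

end Cfsg.Agent.H33
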