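import Mathlib
import Cfsg.Prelude.Def_Spor_Conway
import Cfsg.Agent.H6.McLDefs0

/-!
# The McLaughlin group of the Prelude and the joint stabiliser of the standard pair

Pieces MCL-ISO and MCL-SIMPLE of the team project S2073 (led by helper6).
-/

set_option autoImplicit false
set_option maxRecDepth 100000

namespace Cfsg.Agent.H33.MclP

open Cfsg Cfsg.Agent.H9 Cfsg.Agent.H93 Cfsg.Agent.H33 Cfsg.Agent.H6.McL

theorem vecV_sq : sqNorm Spor.vecV = 48 := by decide +kernel

theorem vecU_sq : sqNorm Spor.vecU = 32 := by decide +kernel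

theorem vecVU_dot : dotInt Spor.vecV Spor.vecU = -24 := by decide +kernel

theorem mem_McL {g : Equiv.Perm leechLattice} : g ∈ Spor.McL ↔
    g ∈ Co0 ∧ g Spor.leechV = Spor.leechV ∧ g Spor.leechU = Spor.leechU := by
  constructor
  · rintro ⟨⟨h1, h2⟩, h3⟩; exact ⟨h1, h2, h3⟩
  · rintro ⟨h1, h2, h3⟩; exact ⟨⟨h1, h2⟩, h3⟩

/-- the group of the Prelude as a joint stabiliser in the automorphism group of the lattice -/
noncomputable def mclEquiv : ↥Spor.McL ≃*
    ↥(MulAction.stabilizer ↥Co0 Spor.leechV ⊓ MulAction.stabilizer ↥Co0 Spor.leechU) where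
  toFun g := ⟨⟨g.1, (mem_McL.mp g.2).1⟩, Subgroup.mem_inf.mpr
    ⟨MulAction.mem_stabilizer_iff.mpr (mem_McL.mp g.2).2.1,
      MulAction.mem_stabilizer_iff.mpr (mem_McL.mp g.2).2.2⟩⟩
  invFun g := ⟨g.1.1, mem_McL.mpr ⟨g.1.2,
    MulAction.mem_stabilizer_iff.mp (Subgroup.mem_inf.mp g.2).1,
    MulAction.mem_stabilizer_iff.mp (Subgroup.mem_inf.mp g.2).2⟩⟩
  left_inv _ := rfl
  right_inv _ := rfl
  map_mul' _ _ := rfl

/-- a vector and its negative have the same stabiliser -/
theorem stab_neg (u : leechLattice) :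
    MulAction.stabilizer ↥Co0 (-u) = MulAction.stabilizer ↥Co0 u := by
  ext g
  simp only [MulAction.mem_stabilizer_iff]
  show (g : Equiv.Perm leechLattice) (-u) = -u ↔ (g : Equiv.Perm leechLattice) u = u
  rw [Cfsg.Agent.H33.co0_map_neg g.2]
  exact neg_inj

/-- piece MCL-ISO -/
theorem iso : StIso := by
  have hu : sqNorm ((-Spor.leechV : leechLattice) : GolayPt → ℤ) = 48 := by
    show sqNorm (-Spor.vecV) = 48
    rw [sqNorm_neg, vecV_sq]
  have hv : Spor.leechU ∈ Xdot 24 (-Spor.leechV) := by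
    refine ⟨vecU_sq, ?_⟩
    show dotInt (-Spor.vecV) Spor.vecU = 24
    rw [lc_dot_comm, lc_dot_neg_right, lc_dot_comm, vecVU_dot]; norm_num
  obtain ⟨h, hh, he⟩ := pair_to_std (-Spor.leechV) Spor.leechU hu hv
  have hev : h (-Spor.leechV) = a48 := by
    have : [(h (-Spor.leechV), (24 : ℤ)), (h Spor.leechU, (16 : ℤ))] = [(a48, 24), (b48, 16)] := he
    simp only [List.cons.injEq, Prod.mk.injEq, and_true] at this
    exact this.1
  have hew : h Spor.leechU = b48 := by
    have : [(h (-Spor.leechV), (24 : ℤ)), (h Spor.leechU, (16 : ℤ))] = [(a48, 24), (b48, 16)] := he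
    simp only [List.cons.injEq, Prod.mk.injEq, and_true] at this
    exact this.2
  have hst : MulAction.stabilizer ↥Co0 Spor.leechV ⊓ MulAction.stabilizer ↥Co0 Spor.leechU
      = MulAction.stabilizer ↥Co0 (-Spor.leechV) ⊓ MulAction.stabilizer ↥Co0 Spor.leechU := by
    rw [stab_neg]
  exact ⟨(mclEquiv.trans (MulEquiv.subgroupCongr hst)).trans
    (conjEquiv _ _ (⟨h, hh⟩ : ↥Co0) (stab_pair_conj h hh _ _ a48 b48 hev hew))⟩

theorem b48_sq : sqNorm (b48 : GolayPt → ℤ) = 32 := by
  show sqNorm (vec LF552W) = 32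
  rw [sqNorm_vec, LF552W_sq]; rfl

theorem ab48_dot : dotInt (a48 : GolayPt → ℤ) (b48 : GolayPt → ℤ) = 24 := by
  show dotInt (vec LF552A) (vec LF552W) = 24
  rw [dotInt_vec, LF552_dot]; rfl

/-- the joint stabiliser of two vectors is that of the second and the difference -/
theorem stab_sub (a b : leechLattice) :
    MulAction.stabilizer ↥Co0 a ⊓ MulAction.stabilizer ↥Co0 b
      = MulAction.stabilizer ↥Co0 b ⊓ MulAction.stabilizer ↥Co0 (a - b) := by
  ext g
  simp only [Subgroup.mem_inf, MulAction.mem_stabilizer_iff]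
  have hadd := g.2.1
  constructor
  · rintro ⟨h1, h2⟩
    refine ⟨h2, ?_⟩
    have h1' : (g : Equiv.Perm leechLattice) a = a := h1
    have h2' : (g : Equiv.Perm leechLattice) b = b := h2
    show (g : Equiv.Perm leechLattice) (a - b) = a - b
    rw [sub_eq_add_neg, hadd, Cfsg.Agent.H33.co0_map_neg g.2, h1', h2']
  · rintro ⟨h1, h2⟩
    refine ⟨?_, h1⟩
    have h1' : (g : Equiv.Perm leechLattice) b = b := h1
    have h2' : (g : Equiv.Perm leechLattice) (a - b) = a - b := h2
    show (g : Equiv.Perm leechLattice) a = a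
    have e : (g : Equiv.Perm leechLattice) ((a - b) + b) = (a - b) + b := by
      rw [hadd, h1', h2']
    rwa [sub_add_cancel] at e

/-- piece MCL-SIMPLE -/
theorem simple : StSimple := by
  have hw : sqNorm ((a48 - b48 : leechLattice) : GolayPt → ℤ) = 32 := by
    show sqNorm ((a48 : GolayPt → ℤ) - (b48 : GolayPt → ℤ)) = 32
    rw [lc_sqNorm_sub, a48_sq, b48_sq, ab48_dot]; norm_num
  have hd : dotInt (b48 : GolayPt → ℤ) ((a48 - b48 : leechLattice) : GolayPt → ℤ) = -8 := by
    show dotInt (b48 : GolayPt → ℤ) ((a48 : GolayPt → ℤ) - (b48 : GolayPt → ℤ)) = -8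
    rw [lc_dot_comm, lc_dot_sub_left, lc_dot_self, ab48_dot, b48_sq]; norm_num
  have h := mcl_isMcL b48 (a48 - b48) b48_sq hw hd
  rw [← stab_sub a48 b48] at h
  exact h

end Cfsg.Agent.H33.MclP
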