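import Mathlib
import Cfsg.Agent.H6.McLDefs0

/-!
# The joint stabiliser of the standard pair acts on the table of 275 vectors

Piece MCL-RHO of the team project S2073 (led by helper6).
-/

set_option autoImplicit false
set_option maxRecDepth 100000

namespace Cfsg.Agent.H33.MclP

open Cfsg Cfsg.Agent.H9 Cfsg.Agent.H93 Cfsg.Agent.H33 Cfsg.Agent.H6.McL

/-- the 275 vectors -/
abbrev X275 : Set leechLattice := XD [(a48, 24), (b48, 16)]

noncomputable instance fintypeX275 : Fintype ↥X275 := (XD_finite _).fintype

theorem card_X275 : Fintype.card ↥X275 = 275 := by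
  rw [← Nat.card_eq_fintype_card, Nat.card_coe_set_eq]; exact L275_level.2.1

/-- the index of a vector in the table -/
noncomputable def idx (x : ↥X275) : Fin 275 :=
  ⟨Classical.choose (L275_level.2.2 x.1 x.2),
    (Classical.choose_spec (L275_level.2.2 x.1 x.2)).1⟩

theorem idx_spec (x : ↥X275) :
    ((x.1 : leechLattice) : GolayPt → ℤ) = vec (fldW 192 L275E (idx x).val) :=
  (Classical.choose_spec (L275_level.2.2 x.1 x.2)).2

theorem idx_injective : Function.Injective idx := by
  intro x y h
  apply Subtype.ext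
  apply Subtype.ext
  rw [idx_spec x, idx_spec y, h]

theorem idx_bijective : Function.Bijective idx := by
  rw [Fintype.bijective_iff_injective_and_card]
  exact ⟨idx_injective, by rw [card_X275, Fintype.card_fin]⟩

/-- the table as a bijection -/
noncomputable def eIdx : ↥X275 ≃ Fin 275 := Equiv.ofBijective idx idx_bijective

theorem eIdx_spec (x : ↥X275) :
    ((x.1 : leechLattice) : GolayPt → ℤ) = vec (fldW 192 L275E (eIdx x).val) := idx_spec x

theorem eIdx_symm_spec (j : Fin 275) :
    (((eIdx.symm j).1 : leechLattice) : GolayPt → ℤ) = vec (fldW 192 L275E j.val) := by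
  have h := eIdx_spec (eIdx.symm j)
  rwa [Equiv.apply_symm_apply] at h

/-- the entries of the table are distinct -/
theorem table_inj (j j' : Fin 275)
    (h : vec (fldW 192 L275E j.val) = vec (fldW 192 L275E j'.val)) : j = j' := by
  have e : eIdx.symm j = eIdx.symm j' := by
    apply Subtype.ext
    apply Subtype.ext
    rw [eIdx_symm_spec, eIdx_symm_spec, h]
  exact eIdx.symm.injective e

/-- the joint stabiliser of the standard pair acts on the 275 vectors -/
noncomputable def actX : ↥McLstd →* Equiv.Perm ↥X275 where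
  toFun k :=
    { toFun := fun x => ⟨(k.1 : Equiv.Perm leechLattice) x.1,
        XD_inv k.1.2 ((mem_stab_pair a48 b48 24 16 k.1).mp k.2) x.2⟩
      invFun := fun x => ⟨(k.1 : Equiv.Perm leechLattice)⁻¹ x.1,
        XD_inv (inv_mem k.1.2) (FixS_inv ((mem_stab_pair a48 b48 24 16 k.1).mp k.2)) x.2⟩
      left_inv := fun x => Subtype.ext (by simp)
      right_inv := fun x => Subtype.ext (by simp) }
  map_one' := by ext x; rfl
  map_mul' k k' := by ext x; rfl

theorem actX_apply (k : ↥McLstd) (x : ↥X275) :
    ((actX k) x).1 = (k.1 : Equiv.Perm leechLattice) x.1 := rfl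

/-- the action on the indices of the table -/
noncomputable def rhoHom : ↥McLstd →* Equiv.Perm (Fin 275) :=
  (eIdx.permCongrHom).toMonoidHom.comp actX

theorem rhoHom_apply (k : ↥McLstd) (j : Fin 275) :
    rhoHom k j = eIdx ((actX k) (eIdx.symm j)) := rfl

theorem rhoHom_acts (k : ↥McLstd) : ActsAs k.1 (rhoHom k) := by
  intro j v hv
  have ev : v = (eIdx.symm j).1 := Subtype.ext (hv.trans (eIdx_symm_spec j).symm)
  subst ev
  rw [rhoHom_apply]
  exact eIdx_spec ((actX k) (eIdx.symm j))

/-- piece MCL-RHO -/
theorem rho : StRho := by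
  refine ⟨rhoHom, rhoHom_acts, ?_⟩
  intro k p hp
  ext j
  have h1 := hp j (eIdx.symm j).1 (eIdx_symm_spec j)
  have h2 := rhoHom_acts k j (eIdx.symm j).1 (eIdx_symm_spec j)
  exact congrArg Fin.val (table_inj _ _ (h2.symm.trans h1))

end Cfsg.Agent.H33.MclP
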