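import Mathlib
import Cfsg.Agent.H6.McLDefs

/-!
# The generators of the permutation group on the 275 vectors come from the lattice

Piece MCL-WORD of the team project S2073 (led by helper6).
-/

set_option autoImplicit false
set_option maxRecDepth 100000

namespace Cfsg.Agent.H33.MclP

open Cfsg Cfsg.Agent.H9 Cfsg.Agent.H93 Cfsg.Agent.H33 Cfsg.Agent.H6.McL

theorem WX_ok : genOKL L275P WX = true := by decide +kernel

theorem WY_ok : genOKL L275P WY = true := by decide +kernel

theorem WX_tab : allB (fun j => runOK WX (fldW 192 L275E j) &&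
    Nat.beq (runW WX (fldW 192 L275E j)) (fldW 192 L275E (f16 cX j))) 275 = true := by
  decide +kernel

theorem WY_tab : allB (fun j => runOK WY (fldW 192 L275E j) &&
    Nat.beq (runW WY (fldW 192 L275E j)) (fldW 192 L275E (f16 cY j))) 275 = true := by
  decide +kernel

/-- a lattice word fixing the standard pair and acting on the table as the coded permutation -/
theorem word_acts {W : List (ℕ × ℕ)} {c ci : ℕ} (hc : invOK c ci = true)
    (hW : genOKL L275P W = true)
    (htab : allB (fun j => runOK W (fldW 192 L275E j) &&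
      Nat.beq (runW W (fldW 192 L275E j)) (fldW 192 L275E (f16 c j))) 275 = true) :
    ∃ g ∈ McLstd, ActsAs g (Cfsg.Agent.H6.McL.permOf c ci hc) := by
  obtain ⟨g, hg, hfix, hrun⟩ := gen_eltL hW
  have ha : g a48 = a48 := hfix (LF552A, 393240) (by decide) LF552A_mem
  have hb : g b48 = b48 := hfix (LF552W, 393232) (by decide) LF552W_mem
  refine ⟨⟨g, hg⟩, Subgroup.mem_inf.mpr ⟨MulAction.mem_stabilizer_iff.mpr ha,
    MulAction.mem_stabilizer_iff.mpr hb⟩, ?_⟩
  intro j v hv
  have hc' := (allB_iff _ _).mp htab j.val j.isLt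
  simp only [Bool.and_eq_true] at hc'
  obtain ⟨h1, h2⟩ := hc'
  have hm : vec (fldW 192 L275E j.val) ∈ leechLattice := by rw [← hv]; exact v.2
  have ev : v = ⟨vec (fldW 192 L275E j.val), hm⟩ := Subtype.ext hv
  have r1 := hrun _ h1 hm
  rw [ev]
  show ((g ⟨vec (fldW 192 L275E j.val), hm⟩ : leechLattice) : GolayPt → ℤ)
    = vec (fldW 192 L275E (f16 c j.val))
  rw [r1, Nat.eq_of_beq_eq_true h2]

/-- piece MCL-WORD -/
theorem word : StWord :=
  ⟨word_acts cX_ok WX_ok WX_tab, word_acts cY_ok WY_ok WY_tab⟩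

end Cfsg.Agent.H33.MclP
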