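import Mathlib
import Cfsg.Agent.H33.Design

/-!
# Sextets (helper33): S1550 from S0359 + S0363
-/

set_option autoImplicit false

namespace Cfsg.Agent.H33

open Cfsg

open Classical in
/-- The sextet of a tetrad `t`: `t` together with the complements of `t` in the five octads
through `t`. -/
noncomputable def sextetOf (t : Finset GolayPt) : Finset (Finset GolayPt) :=
  insert t ((Oct t).image (· \ t))

theorem mem_sextetOf {t u : Finset GolayPt} :
    u ∈ sextetOf t ↔ u = t ∨ ∃ o, (o ∈ octads ∧ t ⊆ o) ∧ o \ t = u := by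
  classical
  simp [sextetOf, mem_Oct]

theorem self_mem_sextetOf (t : Finset GolayPt) : t ∈ sextetOf t :=
  mem_sextetOf.mpr (Or.inl rfl)

theorem union_sdiff_of_subset' {α : Type*} [DecidableEq α] {t o : Finset α} (h : t ⊆ o) :
    t ∪ (o \ t) = o := Finset.union_sdiff_of_subset h

theorem sextetOf_mem_sextets (hW : WeightHyp) (hS : SteinerHyp) (t : Finset GolayPt)
    (ht : t.card = 4) : sextetOf t ∈ sextets := by
  classical
  have hcardO : ∀ o, (o ∈ octads ∧ t ⊆ o) → (o \ t).card = 4 := by
    rintro o ⟨ho, hto⟩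
    rw [Finset.card_sdiff_of_subset hto, ho.2, ht]
  have hinj : Set.InjOn (· \ t) (Oct t : Set (Finset GolayPt)) := by
    intro o₁ h₁ o₂ h₂ h
    rw [Finset.mem_coe, mem_Oct] at h₁ h₂
    simp only at h
    rw [← union_sdiff_of_subset' h₁.2, h, union_sdiff_of_subset' h₂.2]
  have hnot : t ∉ (Oct t).image (· \ t) := by
    rw [Finset.mem_image]
    rintro ⟨o, -, h⟩
    have hne : t.Nonempty := by rw [← Finset.card_pos, ht]; norm_num
    obtain ⟨a, ha⟩ := hne
    have : a ∈ o \ t := by rw [h]; exact ha
    rw [Finset.mem_sdiff] at this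
    exact this.2 ha
  refine ⟨?_, ?_, ?_⟩
  · rw [sextetOf, Finset.card_insert_of_notMem hnot, Finset.card_image_of_injOn hinj,
      Oct_card_four hS t ht]
  · intro u hu
    rcases mem_sextetOf.mp hu with rfl | ⟨o, ho, rfl⟩
    · exact ht
    · exact hcardO o ho
  · intro u hu v hv huv
    rcases mem_sextetOf.mp hu with rfl | ⟨o₁, ho₁, rfl⟩
    · rcases mem_sextetOf.mp hv with rfl | ⟨o₂, ho₂, rfl⟩
      · exact absurd rfl huv
      · rw [union_sdiff_of_subset' ho₂.2]; exact ho₂.1
    · rcases mem_sextetOf.mp hv with rfl | ⟨o₂, ho₂, rfl⟩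
      · rw [Finset.union_comm, union_sdiff_of_subset' ho₁.2]; exact ho₁.1
      · have hne : o₁ ≠ o₂ := by
          rintro rfl
          exact huv rfl
        have hsub : t ⊆ o₁ ∩ o₂ := Finset.subset_inter ho₁.2 ho₂.2
        have hle := octad_inter_le hW ho₁.1 ho₂.1 hne
        have hi : o₁ ∩ o₂ = t := by
          symm
          exact Finset.eq_of_subset_of_card_le hsub (by rw [ht]; exact hle)
        have e : o₁ \ t ∪ o₂ \ t = symmDiff o₁ o₂ := by
          rw [symmDiff_def, Finset.sup_eq_union, ← hi]
          congr 1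
          · ext a
            simp only [Finset.mem_sdiff, Finset.mem_inter]
            tauto
          · ext a
            simp only [Finset.mem_sdiff, Finset.mem_inter]
            tauto
        rw [e]
        exact symmDiff_mem_octads ho₁.1 ho₂.1 (by rw [hi, ht])

theorem sextet_eq_sextetOf (hS : SteinerHyp) (t : Finset GolayPt)
    (ht : t.card = 4) (S : Finset (Finset GolayPt)) (hSx : S ∈ sextets) (htS : t ∈ S) :
    S = sextetOf t := by
  classical
  have hsub : S ⊆ sextetOf t := by
    intro u hu
    rw [mem_sextetOf]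
    by_cases hut : u = t
    · exact Or.inl hut
    · right
      have hoct := hSx.2.2 t htS u hu (Ne.symm hut)
      have hu4 := hSx.2.1 u hu
      have hdisj : Disjoint t u := by
        rw [← Finset.card_union_eq_card_add_card, hoct.2, ht, hu4]
      refine ⟨t ∪ u, ⟨hoct, Finset.subset_union_left⟩, ?_⟩
      rw [Finset.union_sdiff_cancel_left hdisj]
  apply Finset.eq_of_subset_of_card_le hsub
  have h6 : (sextetOf t).card ≤ 6 := by
    rw [sextetOf]
    refine (Finset.card_insert_le _ _).trans ?_
    have := Finset.card_image_le (s := Oct t) (f := (· \ t))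
    rw [Oct_card_four hS t ht] at this
    omega
  rw [hSx.1]
  exact h6

theorem sextet_existsUnique (hW : WeightHyp) (hS : SteinerHyp) (t : Finset GolayPt)
    (ht : t.card = 4) : ∃! S : Finset (Finset GolayPt), S ∈ sextets ∧ t ∈ S :=
  ⟨sextetOf t, ⟨sextetOf_mem_sextets hW hS t ht, self_mem_sextetOf t⟩,
    fun S hSx => sextet_eq_sextetOf hS t ht S hSx.1 hSx.2⟩

theorem sextets_ncard (hW : WeightHyp) (hS : SteinerHyp) : sextets.ncard = 1771 := by
  classical
  set sexF : Finset (Finset (Finset GolayPt)) := Finset.univ.filter (· ∈ sextets) with hsexF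
  have hmem : ∀ S, S ∈ sexF ↔ S ∈ sextets := by
    intro S; simp [hsexF]
  have hcoe : (sexF : Set (Finset (Finset GolayPt))) = sextets := by
    ext S; simp [hmem]
  rw [← hcoe, Set.ncard_coe_finset]
  have key := Finset.card_eq_sum_card_fiberwise (f := sextetOf)
    (s := Finset.powersetCard 4 (Finset.univ : Finset GolayPt)) (t := sexF) (by
      intro t ht
      rw [Finset.mem_coe, Finset.mem_powersetCard] at ht
      rw [Finset.mem_coe, hmem]
      exact sextetOf_mem_sextets hW hS t ht.2)
  have hfib : ∀ S ∈ sexF,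
      ((Finset.powersetCard 4 (Finset.univ : Finset GolayPt)).filter
        (fun t => sextetOf t = S)).card = 6 := by
    intro S hSx
    rw [hmem] at hSx
    have e : (Finset.powersetCard 4 (Finset.univ : Finset GolayPt)).filter
        (fun t => sextetOf t = S) = S := by
      ext t
      simp only [Finset.mem_filter, Finset.mem_powersetCard, Finset.subset_univ, true_and]
      constructor
      · rintro ⟨-, rfl⟩
        exact self_mem_sextetOf t
      · intro htS
        have ht4 := hSx.2.1 t htS
        exact ⟨ht4, (sextet_eq_sextetOf hS t ht4 S hSx htS).symm⟩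
    rw [e, hSx.1]
  rw [Finset.sum_congr rfl hfib, Finset.sum_const, smul_eq_mul, Finset.card_powersetCard,
    Finset.card_univ, card_golayPt] at key
  have e2 : Nat.choose 24 4 = 10626 := by decide
  rw [e2] at key
  omega

end Cfsg.Agent.H33
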