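import Cfsg.Agent.H33.SxGrp

/-! Generated certificate data (helper33): the standard sextet, elements of its stabiliser inducing
the transpositions of the six tetrads, and the 64 elements of the normal subgroup `2^6`. -/

set_option autoImplicit false

namespace Cfsg.Agent.H33

/-- the six tetrads of the standard sextet, 24 bits each -/
def sxTE : ℕ := 0x824020400a4034200009810000149000000f

/-- entry `6 * i + j` (120 bits each): an element swapping tetrads `i`, `j`, fixing the other four -/
def sxSwE : ℕ := 0xbdab49ca307b9ac5a928398a4188205968d9d6cf81a477322825d2a10c20a1a2e85db37c8a7b3168226aa008239aeb2bd10e2c1acb1131399ea18440626957c8f3429a5b44d072c970082301aad7c8734068cb11703a44a2c6ee5968d9d6cf81a477322825d2a10c20bdab49ca307b9ac5a928398a418820bd1269aca87bacaa92506362700c412be955ca26b39a49a9093c2ec1844089e92434b07dea6225935a9d608860b825485633795a40a868389cc49976a1a2e85db37c8a7b3168226aa00823bd1269aca87bacaa92506362700c41bdab49ca307b9ac5a928398a41882089913941d4a95ec5a92d25ae710061bacea991c87c58db5130a98b21844075860406f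0794474b17321a2aa49b59aeb2bd10e2c1acb1131399ea184402be955ca26b39a49a9093c2ec1844089913941d4a95ec5a92d25ae710061bdab49ca307b9ac5a928398a4188208aead3caea23a8f4cccc858a808c028da4d1d2e113aa44b160518a78226f626957c8f3429a5b44d072c970082389e92434b07dea6225935a9d608860bacea991c87c58db5130a98b2184408aead3caea23a8f4cccc858a808c02bdab49ca307b9ac5a928398a41882029a54856ef445a158933059c361c8a01aad7c8734068cb11703a44a2c6eeb825485633795a40a868389cc4997675860406f0794474b17321a2aa49b58da4d1d2e113aa44b160518a78226f29a54856ef445a158933059c361c8abdab49ca307b9ac5a928398a418820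

/-- the 64 elements of the normal subgroup `2^6`, 120 bits each -/
def sxNE : ℕ := 0x2da959b5d07c64459d2851aec004432adb2851d3446a4b1ccf526ec080622a64d7d5c89c68431ed052eec10c0129ab4449cf845a449d7355aec1882029a4d855d3446874916f65aea004432a6b49c9d07c5a7312c862eea080622ae95435cf84647b10d3626ea10c012d9b27d1c89c6a75913061aea188202a5b2451cf846aa332d322ee70044329a957b5c89c64a4b17025ae7080622dab4849d3445aa5b12f21ae710c012ae4d9d5d07c68ab30c8226e7188202aeb47c9c89c5acb28d03a6e4004432da4d455cf8468c5a93339ae408062299b29d1d07c6ac4a9683dae410c012a695835d34464c32acf3aee41882072e4d454af85e84b1cd35262c0044375ab47c8a89dda459d3051a2c0806271a95834b345e4449d6f55a2c10c01725b29d0b07dea431ec852e2c18820726957b4a89de47312d062e2a00443719b2450af85ea74917365a2a0806275a4d9d4b07de875912861a2a10c0172eb4848b345da7b10cf6262a1882071ab49c8b07ddaa4b16825a27004437264d854b345e8a332cf22e270806272db27d0a89deaab30d02262710c0175a95434af85e4a5b13321a2718820759b2850b345eac5a92f39a240044372e959b4b07de4cb28c83a62408062726b4448af85dac32ad33ae2410c0171a4d7d4a89de8c4a9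703da2418820899b27d2e8996a449d70559cc004438a695436ef8164431ed352dcc080628aeb49caf0795a4b1cc8525cc10c018da4d856f34168459d2f519cc188208dab444aef815a759133619ca004438ae4d7d6e899687b10d0625ca080628a5b2852f3416a7312cf62dca10c0189a959b6f07964749168659ca188208ae95836f34164ab30cf225c7004438d9b29d2f0796aa5b128219c70806289a4d456ef8168a4b173259c710c018a6b47cae8995aa332d022dc7188208a64d9d6f07968c32ac83adc40044389ab484af3415ac4a96f3d9c4080628da957b6e89964c5a930399c410c018adb2452ef816acb28d33a5c418820ba6b484a33439a431ecf52cac00443b9a4d9d6307ba8449d68558ac08062bd9b24522f83aa459d33518ac10c01bae957b6289ba44b1cd0524ac18820badb29d2307baa7b10c8624aa00443bda958363343a475912f618aa08062b9ab47ca289b9a749170658aa10c01ba64d4562f83a87312d362caa18820bda4d7d6289ba8a5b130218a700443baeb444a2f839aab30d3224a708062ba6959b6307ba4a332c822ca710c01b99b28523343aaa4b16f258a718820b9a954362f83a4c4a9733d8a400443ba5b27d2289baac32ad03aca408062bae4d8563343a8cb28cf3a4a410c01bdab49ca307b9ac5a928398a418820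

/-- an element of order 3 fixing every tetrad -/
def sxC : ℕ := 0x2a5b47d6f383a4ab1d6861a2418402

def sxW1 : ℕ × ℕ × ℕ := (0, 0, 1)

def sxW2 : ℕ × ℕ × ℕ := (0, 0, 1)

end Cfsg.Agent.H33
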